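import Cfsg.Agent.Lib.S4InvolvedLocal
import Cfsg.Agent.Lib.QdSection
import Mathlib

/-!
Detecting a section isomorphic to the symmetric group of degree three.
-/

set_option autoImplicit false

namespace CfsgLib.S3Free

open Cfsg

abbrev P3 := Equiv.Perm (Fin 3)

universe u

theorem dihedral_three : Nonempty (DihedralGroup 3 ≃* P3) := by
  let f : DihedralGroup 3 → P3 := fun x => match x with
    | .r i => (finRotate 3) ^ (ZMod.val i)
    | .sr i => Equiv.swap 1 2 * (finRotate 3) ^ (ZMod.val i)
  have hmul : ∀ a b, f (a * b) = f a * f b := by decide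
  have hinj : ∀ a b, f a = f b → a = b := by decide
  exact ⟨MulEquiv.ofBijective (MonoidHom.mk' f hmul)
    ((Fintype.bijective_iff_injective_and_card _).mpr ⟨fun a b => hinj a b, by decide⟩)⟩

/-- An element of order three inverted by an involution gives a section `S₃`. -/
theorem involves_perm3 {X : Type u} [Group X] {r a : X} (hr : r ^ 3 = 1) (hr1 : r ≠ 1) (ha : a * a = 1)
    (hinv : a * r * a⁻¹ = r⁻¹) : Involves P3 X := by
  have hai : a⁻¹ = a := inv_eq_of_mul_eq_one_right ha
  have hord : orderOf r = 3 := orderOf_eq_prime hr hr1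
  have hswap : r * a = a * r ^ 2 := by
    have h1 : r ^ 2 = r⁻¹ := eq_inv_of_mul_eq_one_left (by rw [← pow_succ]; exact hr)
    rw [h1, ← hinv]
    simp [← mul_assoc, ha, mul_assoc a a, hai]
  have hswap' : ∀ n : ℕ, r ^ n * a = a * r ^ (2 * n) := by
    intro n
    induction n with
    | zero => simp
    | succ n ih => rw [pow_succ, mul_assoc, hswap, ← mul_assoc, ih, mul_assoc, ← pow_add]; ring_nf
  let f : DihedralGroup 3 → X := fun x => match x with
    | .r i => r ^ (ZMod.val i)
    | .sr i => a * r ^ (ZMod.val i)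
  have hmod : ∀ m n : ℕ, m % 3 = n % 3 → r ^ m = r ^ n := fun m n h =>
    pow_eq_pow_iff_modEq.2 (hord.symm ▸ h)
  have hmul : ∀ x y, f (x * y) = f x * f y := by
    rintro (i | i) (j | j)
    · rw [DihedralGroup.r_mul_r]
      show r ^ _ = r ^ _ * r ^ _
      rw [← pow_add]
      exact hmod _ _ (by rw [ZMod.val_add]; simp)
    · rw [DihedralGroup.r_mul_sr]
      show a * r ^ _ = r ^ _ * (a * r ^ _)
      rw [← mul_assoc, hswap', mul_assoc, ← pow_add]
      congr 1
      refine hmod _ _ ?_
      fin_cases i <;> fin_cases j <;> decide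
    · rw [DihedralGroup.sr_mul_r]
      show a * r ^ _ = a * r ^ _ * r ^ _
      rw [mul_assoc, ← pow_add]
      congr 1
      exact hmod _ _ (by rw [ZMod.val_add]; simp)
    · rw [DihedralGroup.sr_mul_sr]
      show r ^ _ = a * r ^ _ * (a * r ^ _)
      rw [mul_assoc, ← mul_assoc (r ^ _), hswap', mul_assoc, ← mul_assoc a a, ha, one_mul, ← pow_add]
      refine hmod _ _ ?_
      fin_cases i <;> fin_cases j <;> decide
  have hinj : Function.Injective (MonoidHom.mk' f hmul) := by
    refine (injective_iff_map_eq_one _).2 ?_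
    rintro (i | i) hi
    · have h : r ^ (ZMod.val i) = 1 := hi
      have h3 := hord ▸ orderOf_dvd_of_pow_eq_one h
      have hlt := ZMod.val_lt i
      have h0 : ZMod.val i = 0 := Nat.eq_zero_of_dvd_of_lt h3 hlt
      rw [(ZMod.val_eq_zero i).1 h0]; rfl
    · exfalso
      have h : a * r ^ (ZMod.val i) = 1 := hi
      have hcomm : a * r * a⁻¹ = r := by
        rw [eq_inv_of_mul_eq_one_left h]
        group
      rw [hinv] at hcomm
      have h2 : r ^ 2 = 1 := by rw [sq]; exact mul_eq_one_iff_inv_eq.2 hcomm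
      exact hr1 (by rw [← hr, pow_succ, h2, one_mul])
  obtain ⟨e⟩ := dihedral_three
  let H := (MonoidHom.mk' f hmul).range
  let d : DihedralGroup 3 ≃* H := MonoidHom.ofInjective hinj
  exact CfsgLib.QdSection.involves_of_surjective H (d.symm.trans e).toMonoidHom (d.symm.trans e).surjective

end CfsgLib.S3Free
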