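import Cfsg.Agent.Lib.S3Free.Product
import Cfsg.Agent.Lib.StrongFusion.Functors
import Cfsg.Agent.Lib.JComp.Comp
import Cfsg.Agent.S1996

/-!
`Z` and `J` control strong 2-fusion exactly in the groups whose sections avoid `S₄`.
-/

set_option autoImplicit false

namespace CfsgLib.S3Free

open CfsgLib Cfsg

universe u

/-- The centre. -/
def centerFun : ∀ (Q : Type u) [Group Q], Subgroup Q := fun Q _ => Subgroup.center Q

/-- The Thompson subgroup for the prime 2. -/
def thompsonFun : ∀ (Q : Type u) [Group Q], Subgroup Q := fun Q _ => thompsonSubgroup 2 Q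

theorem isCharPFunctor_centerFun : IsCharPFunctor.{u} 2 centerFun := by
  haveI : Fact (Nat.Prime 2) := ⟨Nat.prime_two⟩
  refine ⟨fun Q _ _ hQ hnt => ?_, fun Q R _ _ _ _ φ => ?_⟩
  · haveI := hQ.center_nontrivial
    exact (Subgroup.nontrivial_iff_ne_bot (Subgroup.center Q)).1 ‹_›
  · show (Subgroup.center Q).map φ.toMonoidHom = Subgroup.center R
    ext r
    constructor
    · rintro ⟨q, hq, rfl⟩
      refine Subgroup.mem_center_iff.2 fun s => ?_
      obtain ⟨t, rfl⟩ := φ.surjective s
      show φ t * φ q = φ q * φ t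
      rw [← map_mul, ← map_mul, Subgroup.mem_center_iff.1 hq t]
    · intro hr
      refine ⟨φ.symm r, Subgroup.mem_center_iff.2 fun t => φ.injective ?_, φ.apply_symm_apply r⟩
      rw [map_mul, map_mul, φ.apply_symm_apply]
      exact Subgroup.mem_center_iff.1 hr (φ t)

theorem isCharPFunctor_thompsonFun : IsCharPFunctor.{u} 2 thompsonFun := by
  haveI : Fact (Nat.Prime 2) := ⟨Nat.prime_two⟩
  refine ⟨fun Q _ _ hQ hnt e => ?_, fun Q R _ _ _ _ φ => PLocal.thompsonSubgroup_map φ⟩
  obtain ⟨n, hn, hc⟩ := hQ.nontrivial_iff_card.1 hnt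
  obtain ⟨z, hz⟩ := exists_prime_orderOf_dvd_card' (G := Q) 2 (hc ▸ dvd_pow_self 2 hn.ne')
  have hel : IsElementaryAbelian 2 (Subgroup.zpowers z) := by
    refine ⟨inferInstance, fun x hx => ?_⟩
    obtain ⟨k, rfl⟩ := Subgroup.mem_zpowers_iff.1 hx
    rw [← zpow_natCast (z ^ k), ← zpow_mul, mul_comm, zpow_mul, zpow_natCast, ← hz, pow_orderOf_eq_one, one_zpow]
  obtain ⟨A, hA, hmax⟩ := Set.exists_max_image {B : Subgroup Q | IsElementaryAbelian 2 B}
    (fun B => Nat.card B) (Set.toFinite _) ⟨_, hel⟩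
  have hA0 : A ≤ thompsonFun Q := le_sSup (show A ∈ maxElementaryAbelianSubgroups 2 Q from ⟨hA, hmax⟩)
  rw [e, le_bot_iff] at hA0
  have := hmax _ hel
  rw [hA0, Subgroup.card_bot, Nat.card_zpowers, hz] at this
  omega

theorem inducedFunctor_centerFun {X : Type u} [Group X] (P : Subgroup X) :
    inducedFunctor centerFun P = P ⊓ Subgroup.centralizer (P : Set X) := by
  show (Subgroup.center P).map P.subtype = _
  ext x
  constructor
  · rintro ⟨y, hy, rfl⟩
    exact ⟨y.2, fun q hq => congrArg Subtype.val (Subgroup.mem_center_iff.1 hy ⟨q, hq⟩)⟩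
  · rintro ⟨hx, hc⟩
    exact ⟨⟨x, hx⟩, Subgroup.mem_center_iff.2 fun q => Subtype.ext (hc q q.2), rfl⟩

/-- `Z` and `J` control strong fusion in an `S₄`-free group. -/
theorem controls_center_thompson {X : Type u} [Group X] [Finite X]
    (hfree : ¬ Involves (Equiv.Perm (Fin 4)) X) :
    FamilyControlsStrongFusionIn 2 ({fun P : Subgroup X => P ⊓ Subgroup.centralizer (P : Set X),
      fun P : Subgroup X => thompsonSubgroupOf 2 P} : Set (Subgroup X → Subgroup X)) ⊤ := by
  haveI : Fact (Nat.Prime 2) := ⟨Nat.prime_two⟩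
  have h := Cfsg.Agent.S1996.result (G := X) (p := 2) centerFun thompsonFun isCharPFunctor_centerFun
    isCharPFunctor_thompsonFun fun K R hR hcon T x => by
      have hf : ¬ Involves (Equiv.Perm (Fin 4)) (↥K ⧸ R.subgroupOf K) := by
        intro hi
        refine hfree ?_
        obtain ⟨K', R', hR', ⟨e⟩⟩ := hi
        obtain ⟨g', hg'⟩ := Quadratic.exists_surjective_comap (QuotientGroup.mk' (R.subgroupOf K))
          (QuotientGroup.mk'_surjective _) (L := K') (e.toMonoidHom.comp (QuotientGroup.mk' _))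
          (e.surjective.comp (QuotientGroup.mk'_surjective _))
        obtain ⟨g'', hg''⟩ := Quadratic.exists_surjective_map K.subtype K.subtype_injective g' hg'
        exact QdSection.involves_of_surjective _ g'' hg''
      obtain ⟨a, ha, b, hb, rfl⟩ := exists_product hf hcon T x
      refine ⟨a, ?_, b, hb, rfl⟩
      rw [inducedFunctor_centerFun]
      exact Subgroup.centralizer_le_normalizer _ ha
  have e : (inducedFunctor (G := X) centerFun) = fun P : Subgroup X => P ⊓ Subgroup.centralizer (P : Set X) :=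
    funext inducedFunctor_centerFun
  rw [e] at h
  exact h

end CfsgLib.S3Free
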