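import Cfsg.Agent.Lib.S3Free.TwoFactor
import Cfsg.Agent.Lib.S3Free.Fusion
import Cfsg.Agent.Lib.SylowExtra
import Cfsg.Agent.Lib.CharP

/-!
The conjugates under `N(J(S))` of `Ω₁(Z(S))` lie in `Ω₁(Z(Ĵ(S)))`; fusion in `S` is controlled by their join.
-/

set_option autoImplicit false
set_option linter.unusedSectionVars false
set_option maxHeartbeats 1000000

open scoped Pointwise commutatorElement

namespace CfsgLib.S3Free.EGrp

open CfsgLib CfsgLib.Local CfsgLib.OffenderTwo Cfsg CfsgLib.S3Free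

universe u

/-- An involution of `S` commuting with `J(S)` lies in it. -/
theorem mem_thompson_of_commute {G : Type u} [Group G] [Finite G] (S : Sylow 2 G) {x : G}
    (hxS : x ∈ (S : Subgroup G)) (hx2 : x ^ 2 = 1)
    (hxc : ∀ a ∈ thompsonSubgroupOf 2 (S : Subgroup G), a * x = x * a) :
    x ∈ thompsonSubgroupOf 2 (S : Subgroup G) := by
  haveI : Fact (Nat.Prime 2) := ⟨Nat.prime_two⟩
  obtain ⟨A, hA, hAS⟩ := exists_maxEl_le S
  have hAJ := PLocal.le_thompsonSubgroupOf hAS hA
  have hel : IsElementaryAbelian 2 (Subgroup.zpowers x) := by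
    refine ⟨inferInstance, fun z hz => ?_⟩
    obtain ⟨k, rfl⟩ := Subgroup.mem_zpowers_iff.1 hz
    rw [← zpow_natCast (x ^ k), ← zpow_mul, mul_comm, zpow_mul, zpow_natCast, hx2, one_zpow]
  have hsup := isElementary_sup hA.1 hel fun z hz a ha => by
    obtain ⟨k, rfl⟩ := Subgroup.mem_zpowers_iff.1 hz
    exact ((show Commute a x from hxc a (hAJ ha)).zpow_right k).eq
  have e := Subgroup.eq_of_le_of_card_ge (le_sup_left : A ≤ A ⊔ Subgroup.zpowers x) (hA.2 _ hsup)
  exact hAJ (e.ge (Subgroup.mem_sup_right (Subgroup.mem_zpowers x)))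

/-- The restriction on constrained sections gives the restriction on the automizer of a normal elementary
abelian subgroup. -/
theorem compK_automizer {M : Type u} [Group M] [Finite M]
    (hsec : ∀ (K R : Subgroup M) [hR : (R.subgroupOf K).Normal],
      Subgroup.centralizer (pCore 2 (K ⧸ R.subgroupOf K) : Set (K ⧸ R.subgroupOf K)) ≤ pCore 2 (K ⧸ R.subgroupOf K) →
        IsCompositionKGroupWith IsSuzukiOrPSL2OddPowerThree (K ⧸ R.subgroupOf K))
    {V : Subgroup M} [V.Normal] (hV : IsElementaryAbelian 2 V) [(Subgroup.centralizer (V : Set M)).Normal] :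
    IsCompositionKGroupWith IsSuzukiOrPSL2OddPowerThree (M ⧸ Subgroup.centralizer (V : Set M)) := by
  classical
  haveI : Fact (Nat.Prime 2) := ⟨Nat.prime_two⟩
  haveI := hV.1
  set C := Subgroup.centralizer (V : Set M)
  obtain ⟨T⟩ := (inferInstance : Nonempty (Sylow 2 M))
  obtain ⟨P, hP⟩ := PLocal.exists_sylow_inf T C
  set P0 := (P : Subgroup C).map C.subtype
  have hfr : Subgroup.normalizer (P0 : Set M) ⊔ C = ⊤ := Sylow.normalizer_sup_eq_top P
  have hVP0 : V ≤ P0 := by
    rw [show P0 = (T : Subgroup M) ⊓ C from hP]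
    exact le_inf ((le_pCore (PLocal.isPGroup_elementary hV)).trans (pCore_le_sylow T))
      fun v hv w hw => Subgroup.mul_comm_of_mem_isMulCommutative V hw hv
  have hP02 : IsPGroup 2 P0 := P.2.map _
  set K := Subgroup.normalizer (P0 : Set M)
  set Cc := Subgroup.centralizer (P0 : Set M)
  have hCcC : Cc ≤ C := Subgroup.centralizer_le hVP0
  obtain ⟨Pz⟩ := (inferInstance : Nonempty (Sylow 2 Cc))
  have hPz : ∀ x : Cc, x ∈ (Pz : Subgroup Cc) → (x : M) ∈ P0 := by
    intro x hx
    obtain ⟨k, hk⟩ := Pz.2 ⟨x, hx⟩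
    have h1 := mem_sylow_of_mem_centralizer P (x := (⟨(x : M), hCcC x.2⟩ : C))
      ⟨k, Subtype.ext (congrArg (fun z : (Pz : Subgroup Cc) => ((z : Cc) : M)) hk)⟩
      (fun y hy => Subtype.ext (x.2 _ ⟨y, hy, rfl⟩).symm)
    exact ⟨_, h1, rfl⟩
  have hnc : Subgroup.normalizer ((Pz : Subgroup Cc) : Set Cc) ≤ Subgroup.centralizer ((Pz : Subgroup Cc) : Set Cc) :=
    fun n _ x hx => Subtype.ext (n.2 _ (hPz x hx))
  have hcomp := MonoidHom.ker_transferSylow_isComplement' Pz hnc
  set Km := (MonoidHom.transferSylow Pz hnc).ker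
  have hKmodd : Odd (Nat.card Km) := by
    rw [← Nat.not_even_iff_odd, even_iff_two_dvd]
    intro h
    exact Pz.not_dvd_index (by rwa [hcomp.index_eq_card])
  set R := Km.map Cc.subtype
  have hRodd : ∀ x ∈ R, Odd (orderOf x) := by
    rintro _ ⟨x, hx, rfl⟩
    rw [Subgroup.coe_subtype, Subgroup.orderOf_coe, ← Subgroup.orderOf_mk x hx]
    exact hKmodd.of_dvd_nat (orderOf_dvd_natCard _)
  have hoddR : ∀ x ∈ Cc, Odd (orderOf x) → x ∈ R := by
    intro x hx ho
    refine ⟨⟨x, hx⟩, ?_, rfl⟩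
    set f := MonoidHom.transferSylow Pz hnc
    show f ⟨x, hx⟩ = 1
    obtain ⟨k, hk⟩ := Pz.2 (f ⟨x, hx⟩)
    exact orderOf_eq_one_iff.1 (Nat.eq_one_of_dvd_coprimes ((Nat.coprime_two_left.2 ho).pow_left k)
      (orderOf_dvd_of_pow_eq_one hk) ((orderOf_map_dvd f _).trans (by rw [Subgroup.orderOf_mk])))
  have hP0c : ∀ x, x ∈ P0 → x ∈ R → x = 1 := by
    intro x hx hxR
    obtain ⟨k, hk⟩ := hP02 ⟨x, hx⟩
    exact orderOf_eq_one_iff.1 (Nat.eq_one_of_dvd_coprimes ((Nat.coprime_two_left.2 (hRodd x hxR)).pow_left k)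
      (orderOf_dvd_of_pow_eq_one (congrArg Subtype.val hk)) dvd_rfl)
  haveI hRn : (R.subgroupOf K).Normal := by
    refine ⟨fun x hx n => ?_⟩
    obtain ⟨z, hz, hzx⟩ := hx
    refine hoddR _ ?_ ?_
    · intro p hp
      have hp' : (n : M)⁻¹ * p * n ∈ P0 := by
        have := (Subgroup.mem_normalizer_iff.1 (K.inv_mem n.2) p).1 hp
        simpa using this
      have hzc : (x : M) ∈ Cc := by have := z.2; rwa [show ((z : Cc) : M) = (x : M) from hzx] at this
      have h := hzc _ hp'
      show p * ((n : M) * x * (n : M)⁻¹) = (n : M) * x * (n : M)⁻¹ * p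
      calc p * ((n : M) * x * (n : M)⁻¹) = (n : M) * (((n : M)⁻¹ * p * n) * x) * (n : M)⁻¹ := by group
        _ = _ := by rw [h]; group
    · show Odd (orderOf ((n : M) * x * (n : M)⁻¹))
      rw [CfsgLib.JComp.orderOf_conj_eq]
      exact hRodd _ ⟨z, hz, hzx⟩
  have hRC : R ≤ C := (Subgroup.map_subtype_le _).trans hCcC
  set π := QuotientGroup.mk' (R.subgroupOf K)
  have hP0K : P0 ≤ K := Subgroup.le_normalizer
  haveI : ((P0.subgroupOf K).map π).Normal :=
    Subgroup.Normal.map Subgroup.normal_in_normalizer π (QuotientGroup.mk'_surjective _)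
  have hle : (P0.subgroupOf K).map π ≤ pCore 2 (K ⧸ R.subgroupOf K) :=
    le_pCore ((hP02.comap_of_injective K.subtype K.subtype_injective).map π)
  have hcon : Subgroup.centralizer (pCore 2 (K ⧸ R.subgroupOf K) : Set (K ⧸ R.subgroupOf K)) ≤
      pCore 2 (K ⧸ R.subgroupOf K) := by
    intro y hy
    obtain ⟨x, rfl⟩ := QuotientGroup.mk'_surjective _ y
    have hxc : (x : M) ∈ Cc := by
      intro p hp
      have hcomm := hy _ (hle ⟨⟨p, hP0K hp⟩, hp, rfl⟩)
      have h1 : x * ⟨p, hP0K hp⟩ * x⁻¹ * (⟨p, hP0K hp⟩ : K)⁻¹ ∈ R.subgroupOf K := by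
        refine (QuotientGroup.eq_one_iff _).1 ?_
        show π _ = 1
        rw [map_mul, map_mul, map_mul, map_inv, map_inv, ← hcomm, mul_inv_cancel_right, mul_inv_cancel]
      have h2 : (x : M) * p * (x : M)⁻¹ * p⁻¹ ∈ P0 :=
        P0.mul_mem ((Subgroup.mem_normalizer_iff.1 x.2 p).1 hp) (P0.inv_mem hp)
      have h3 := hP0c _ h2 h1
      exact (mul_inv_eq_iff_eq_mul.1 (mul_inv_eq_one.1 h3)).symm
    refine hle ?_
    obtain ⟨⟨a, b⟩, hab⟩ := hcomp.2 ⟨(x : M), hxc⟩
    have hb : ((b : Cc) : M) ∈ P0 := hPz _ b.2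
    refine ⟨⟨_, hP0K hb⟩, hb, ?_⟩
    refine (QuotientGroup.eq.2 ?_)
    show ((b : Cc) : M)⁻¹ * (x : M) ∈ R
    have e : (x : M) = ((a : Cc) : M) * ((b : Cc) : M) := (congrArg Subtype.val hab).symm
    refine hoddR _ (Cc.mul_mem (Cc.inv_mem (b : Cc).2) hxc) ?_
    rw [e, ← mul_assoc]
    have h4 := CfsgLib.JComp.orderOf_conj_eq ((b : Cc) : M)⁻¹ ((a : Cc) : M)
    rw [inv_inv] at h4
    rw [h4]
    exact hRodd _ ⟨a, a.2, rfl⟩
  let f : K ⧸ R.subgroupOf K →* M ⧸ C := QuotientGroup.lift _ ((QuotientGroup.mk' C).comp K.subtype)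
    (fun x hx => (QuotientGroup.eq_one_iff _).2 (hRC hx))
  have hf : Function.Surjective f := by
    intro y
    obtain ⟨m, rfl⟩ := QuotientGroup.mk'_surjective C y
    obtain ⟨k, hk, c, hc, rfl⟩ := Subgroup.mem_sup_of_normal_right.1 (hfr.ge (Subgroup.mem_top m))
    refine ⟨QuotientGroup.mk ⟨k, hk⟩, ?_⟩
    show QuotientGroup.mk' C k = _
    rw [map_mul, show QuotientGroup.mk' C c = 1 from (QuotientGroup.eq_one_iff c).2 hc, mul_one]
  exact compK_of_surjective (fun Y Z _ _ ⟨e⟩ h => TwoF.kind_transfer e h) f hf (hsec K R hcon)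

/-- The conjugates under `M` of `Ω₁(Z(P))` lie in `Ω₁(Z(Ĵ(P)))` if `M` normalizes `J(P)`. -/
theorem normalClosure_le_omegaCenter_jh {M : Type u} [Group M] [Finite M]
    (hfree : ¬ Involves (Equiv.Perm (Fin 4)) M)
    (hsec : ∀ (K R : Subgroup M) [hR : (R.subgroupOf K).Normal],
      Subgroup.centralizer (pCore 2 (K ⧸ R.subgroupOf K) : Set (K ⧸ R.subgroupOf K)) ≤ pCore 2 (K ⧸ R.subgroupOf K) →
        IsCompositionKGroupWith IsSuzukiOrPSL2OddPowerThree (K ⧸ R.subgroupOf K))
    (P : Sylow 2 M) [hJn : (thompsonSubgroupOf 2 (P : Subgroup M)).Normal] :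
    IsElementaryAbelian 2 (Subgroup.normalClosure (omegaCenterOf (P : Subgroup M) : Set M)) ∧
      Subgroup.normalClosure (omegaCenterOf (P : Subgroup M) : Set M) ≤ omegaCenterOf (jh (P : Subgroup M)) := by
  haveI : Fact (Nat.Prime 2) := ⟨Nat.prime_two⟩
  set J := thompsonSubgroupOf 2 (P : Subgroup M)
  have hJP : J ≤ (P : Subgroup M) := Subgroup.map_subtype_le _
  set V := Subgroup.normalClosure (omegaCenterOf (P : Subgroup M) : Set M)
  haveI : (Subgroup.centralizer (J : Set M)).Normal := Subgroup.normal_centralizer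
  have hZ : ∀ x ∈ (P : Subgroup M) ⊓ Subgroup.centralizer ((P : Subgroup M) : Set M), x ^ 2 = 1 → x ∈ J :=
    fun x hx hx2 => mem_thompson_of_commute P hx.1 hx2 fun a ha => hx.2 a (hJP ha)
  have hgen : omegaCenterOf (P : Subgroup M) ≤ J ⊓ Subgroup.centralizer (J : Set M) := by
    rw [omegaCenterOf, omegaOne, Subgroup.closure_le]
    rintro x ⟨hx, hx2⟩
    exact ⟨hZ x hx hx2, fun a ha => hx.2 a (hJP ha)⟩
  have hVJ : V ≤ J ⊓ Subgroup.centralizer (J : Set M) := Subgroup.normalClosure_le_normal hgen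
  haveI hVc : IsMulCommutative V :=
    ⟨⟨fun a b => Subtype.ext ((hVJ b.2).2 _ (hVJ a.2).1)⟩⟩
  have hV : IsElementaryAbelian 2 V := by
    refine ⟨hVc, fun x hx => ?_⟩
    induction hx using Subgroup.closure_induction with
    | mem x hx =>
      obtain ⟨a, ha, hax⟩ := Group.mem_conjugatesOfSet_iff.1 hx
      obtain ⟨g, rfl⟩ := isConj_iff.1 hax
      have ha2 : a ^ 2 = 1 := by
        have hh : ∀ a ∈ omegaCenterOf (P : Subgroup M), a ^ 2 = 1 := by
          intro a ha
          rw [omegaCenterOf, omegaOne] at ha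
          induction ha using Subgroup.closure_induction with
          | mem a ha => exact ha.2
          | one => exact one_pow _
          | mul a b ha' hb iha ihb =>
            have hm := (Subgroup.closure_le (J ⊓ Subgroup.centralizer (J : Set M))).2
              (fun y hy => hgen (Subgroup.subset_closure hy))
            rw [(show Commute a b from (hm hb).2 a (hm ha').1).mul_pow, iha, ihb, one_mul]
          | inv a _ ih => rw [inv_pow, ih, inv_one]
        exact hh a ha
      rw [conj_pow, ha2, mul_one, mul_inv_cancel]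
    | one => exact one_pow _
    | mul x y hx hy ihx ihy =>
      rw [(show Commute x y from Subgroup.mul_comm_of_mem_isMulCommutative V hx hy).mul_pow, ihx, ihy, one_mul]
    | inv x _ ih => rw [inv_pow, ih, inv_one]
  haveI : (Subgroup.centralizer (V : Set M)).Normal := Subgroup.normal_centralizer
  set C := Subgroup.centralizer (V : Set M)
  have hcore : pCore 2 (M ⧸ C) = ⊥ := by
    set π := QuotientGroup.mk' C
    have hT' : pCore 2 (M ⧸ C) ≤ (P : Subgroup M).map π := by
      rw [← Sylow.coe_mapSurjective (QuotientGroup.mk'_surjective C) P]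
      exact pCore_le_sylow _
    set R := (pCore 2 (M ⧸ C)).comap π
    have hRZ : R ≤ Subgroup.centralizer (omegaCenterOf (P : Subgroup M) : Set M) := by
      intro x hx
      obtain ⟨t, ht, he⟩ := hT' hx
      have h1 : x * t⁻¹ ∈ C := (QuotientGroup.eq_one_iff _).1 (by
        show π (x * t⁻¹) = 1
        rw [map_mul, map_inv, ← he, mul_inv_cancel])
      have h2 : omegaCenterOf (P : Subgroup M) ≤ Subgroup.centralizer ((P : Subgroup M) : Set M) :=
        (Subgroup.closure_le _).2 fun z hz => hz.1.2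
      simpa using Subgroup.mul_mem _ (Subgroup.centralizer_le Subgroup.subset_normalClosure h1)
        (show t ∈ Subgroup.centralizer (omegaCenterOf (P : Subgroup M) : Set M) from fun z hz => (h2 hz t ht).symm)
    haveI : R.Normal := Subgroup.Normal.comap inferInstance π
    haveI : (Subgroup.centralizer (R : Set M)).Normal := Subgroup.normal_centralizer
    have hVR : V ≤ Subgroup.centralizer (R : Set M) :=
      Subgroup.normalClosure_le_normal fun z hz r hr => ((hRZ hr) z hz).symm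
    refine (Subgroup.eq_bot_iff_forall _).2 fun y hy => ?_
    obtain ⟨x, rfl⟩ := QuotientGroup.mk'_surjective C y
    exact (QuotientGroup.eq_one_iff x).2 fun w hw => ((hVR hw) x hy).symm
  have hcq := compK_automizer hsec hV
  have hjC : jh (P : Subgroup M) ≤ C := by
    rw [jh_eq]
    refine sSup_le ?_
    rintro U ⟨hUS, hU, hJ⟩
    exact (isEGroup_iff U).1 hU V ⟨(hVJ.trans inf_le_left).trans hJ, Subgroup.le_normalizer_of_normal, hV,
      fun R _ hR => bnd_of_reduced_quot hfree hV hcq hcore hR⟩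
  exact ⟨hV, fun v hv => Subgroup.subset_closure
    ⟨⟨thompson_le_jh P (hVJ hv).1, fun z hz => (hjC hz v hv).symm⟩, hV.2 v hv⟩⟩

/-- `Ω₁(Z(Ĵ(Q)))` as a functor. -/
def omegaJhFun : ∀ (Q : Type u) [Group Q], Subgroup Q := fun Q _ => omegaCenterOf (jh (⊤ : Subgroup Q))

theorem inducedFunctor_omegaJhFun {X : Type u} [Group X] [Finite X] (P : Subgroup X) :
    inducedFunctor omegaJhFun P = omegaCenterOf (jh P) := by
  show (omegaCenterOf (jh (⊤ : Subgroup P))).map P.subtype = _
  rw [← JComp.omegaCenterOf_map P.subtype P.subtype_injective, jh_map P.subtype P.subtype_injective,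
    ← MonoidHom.range_eq_map, Subgroup.range_subtype]

theorem isCharPFunctor_omegaJhFun : IsCharPFunctor.{u} 2 omegaJhFun := by
  haveI : Fact (Nat.Prime 2) := ⟨Nat.prime_two⟩
  refine ⟨fun Q _ _ hQ hnt e => ?_, fun Q R _ _ _ _ φ => ?_⟩
  · haveI := hQ.center_nontrivial
    obtain ⟨T⟩ := (inferInstance : Nonempty (Sylow 2 Q))
    have hT : (T : Subgroup Q) = ⊤ := (T.3 (Q := ⊤) (hQ.to_subgroup _) le_top).symm
    obtain ⟨n, hn, hc⟩ := (hQ.to_subgroup (Subgroup.center Q)).nontrivial_iff_card.1 inferInstance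
    obtain ⟨z, hz⟩ := exists_prime_orderOf_dvd_card' (G := Subgroup.center Q) 2 (hc ▸ dvd_pow_self 2 hn.ne')
    have hzc : ∀ y : Q, y * (z : Q) = (z : Q) * y := fun y => Subgroup.mem_center_iff.1 z.2 y
    have hz2 : (z : Q) ^ 2 = 1 := by rw [← hz, ← Subgroup.orderOf_coe, pow_orderOf_eq_one]
    have hzJ := mem_thompson_of_commute T (x := (z : Q)) (hT ▸ Subgroup.mem_top _) hz2 fun a _ => hzc a
    have hzm : (z : Q) ∈ omegaJhFun Q := by
      show (z : Q) ∈ omegaCenterOf (jh (⊤ : Subgroup Q))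
      rw [← hT]
      exact Subgroup.subset_closure ⟨⟨thompson_le_jh T hzJ, fun y _ => hzc y⟩, hz2⟩
    rw [e, Subgroup.mem_bot, OneMemClass.coe_eq_one] at hzm
    rw [hzm, orderOf_one] at hz
    omega
  · haveI : Finite R := Finite.of_equiv Q φ.toEquiv
    show (omegaCenterOf (jh (⊤ : Subgroup Q))).map φ.toMonoidHom = omegaCenterOf (jh (⊤ : Subgroup R))
    rw [← JComp.omegaCenterOf_map φ.toMonoidHom φ.injective, jh_map φ.toMonoidHom φ.injective,
      Subgroup.map_top_of_surjective _ φ.surjective]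

/-- Sections of a subgroup are sections. -/
theorem sec_subgroup {G : Type u} [Group G]
    (hsec : ∀ (K R : Subgroup G) [hR : (R.subgroupOf K).Normal],
      Subgroup.centralizer (pCore 2 (K ⧸ R.subgroupOf K) : Set (K ⧸ R.subgroupOf K)) ≤ pCore 2 (K ⧸ R.subgroupOf K) →
        IsCompositionKGroupWith IsSuzukiOrPSL2OddPowerThree (K ⧸ R.subgroupOf K))
    [Finite G] (N : Subgroup G) (K R : Subgroup N) [hR : (R.subgroupOf K).Normal]
    (hcon : Subgroup.centralizer (pCore 2 (K ⧸ R.subgroupOf K) : Set (K ⧸ R.subgroupOf K)) ≤ pCore 2 (K ⧸ R.subgroupOf K)) :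
    IsCompositionKGroupWith IsSuzukiOrPSL2OddPowerThree (K ⧸ R.subgroupOf K) := by
  haveI : Fact (Nat.Prime 2) := ⟨Nat.prime_two⟩
  set K' := K.map N.subtype
  set R' := R.map N.subtype
  let e : K ≃* K' := K.equivMapOfInjective N.subtype N.subtype_injective
  have hmap : (R.subgroupOf K).map e.toMonoidHom = R'.subgroupOf K' := by
    ext x
    constructor
    · rintro ⟨y, hy, rfl⟩
      exact ⟨y, hy, rfl⟩
    · rintro ⟨y, hy, hxy⟩
      obtain ⟨z, rfl⟩ := e.surjective x
      have : (y : N) = (z : N) := N.subtype_injective hxy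
      exact ⟨z, show (z : N) ∈ R from this ▸ hy, rfl⟩
  haveI : (R'.subgroupOf K').Normal := hmap ▸ Subgroup.Normal.map hR _ e.surjective
  let q : K ⧸ R.subgroupOf K ≃* K' ⧸ R'.subgroupOf K' := QuotientGroup.congr _ _ e hmap
  exact compK_of_surjective (fun Y Z _ _ ⟨e⟩ h => TwoF.kind_transfer e h) q.symm.toMonoidHom q.symm.surjective
    (hsec K' R' (StrongFusion.constrained_of_equiv q.symm hcon))

/-- Fusion in `S` is a chain of steps normalizing the join of the conjugates of `Ω₁(Z(S))`. -/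
theorem chain_closure {G : Type u} [Group G] [Finite G] (hfree : ¬ Involves (Equiv.Perm (Fin 4)) G)
    (hsec : ∀ (K R : Subgroup G) [hR : (R.subgroupOf K).Normal],
      Subgroup.centralizer (pCore 2 (K ⧸ R.subgroupOf K) : Set (K ⧸ R.subgroupOf K)) ≤ pCore 2 (K ⧸ R.subgroupOf K) →
        IsCompositionKGroupWith IsSuzukiOrPSL2OddPowerThree (K ⧸ R.subgroupOf K))
    (S : Sylow 2 G) (A : Subgroup G)
    (hAN : Subgroup.normalizer (thompsonSubgroupOf 2 (S : Subgroup G) : Set G) ≤ Subgroup.normalizer (A : Set G))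
    (hAY : A ≤ omegaCenterOf (jh (S : Subgroup G))) (B : Subgroup G) (g : G) (hB : B ≤ (S : Subgroup G))
    (hg : StrongFusion.cm g B ≤ (S : Subgroup G)) :
    StrongFusion.Chain (S : Subgroup G) (Subgroup.normalizer (A : Set G) : Set G) B g := by
  haveI : Fact (Nat.Prime 2) := ⟨Nat.prime_two⟩
  have hW : ∀ W ∈ ({omegaJhFun, thompsonFun} : Set (∀ (Q : Type u) [Group Q], Subgroup Q)),
      Cfsg.IsCharPFunctor.{u} 2 W := by
    rintro W (rfl | rfl)
    exacts [isCharPFunctor_omegaJhFun, isCharPFunctor_thompsonFun]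
  have hch : StrongFusion.Chain (S : Subgroup G) (StrongFusion.steps (StrongFusion.famAt
      ({omegaJhFun, thompsonFun} : Set (∀ (Q : Type u) [Group Q], Subgroup Q)) (S : Subgroup G)) (S : Subgroup G)) B g := by
    refine StrongFusion.ctrl_of_base _ True hW (StrongFusion.base_of_sections hW True
      fun K R _ hcon T' D _ hfull B' x hB' hx => ?_) S _ ⟨le_rfl, fun x _ g hg => hg⟩ (fun _ => rfl) B g hB hg
    rw [hfull trivial]
    have hn := fun W (hWm : W ∈ ({omegaJhFun, thompsonFun} : Set (∀ (Q : Type u) [Group Q], Subgroup Q))) =>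
      Subgroup.le_normalizer.trans (StrongFusion.normalizer_le_normalizer_induced (hW W hWm) T'.2)
    refine StrongFusion.chain_of_product T' (hn _ (Or.inl rfl)) (hn _ (Or.inr rfl))
      (fun n hn => StrongFusion.mem_steps_famAt.2 ⟨_, Or.inl rfl, by rwa [inf_idem]⟩)
      (fun n hn => StrongFusion.mem_steps_famAt.2 ⟨_, Or.inr rfl, by rwa [inf_idem]⟩) (fun y => ?_) hB' hx
    have hf : ¬ Involves (Equiv.Perm (Fin 4)) (↥K ⧸ R.subgroupOf K) := by
      intro hi
      refine hfree ?_
      obtain ⟨K', R', hR', ⟨e⟩⟩ := hi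
      obtain ⟨g', hg'⟩ := Quadratic.exists_surjective_comap (QuotientGroup.mk' (R.subgroupOf K))
        (QuotientGroup.mk'_surjective _) (L := K') (e.toMonoidHom.comp (QuotientGroup.mk' _))
        (e.surjective.comp (QuotientGroup.mk'_surjective _))
      obtain ⟨g'', hg''⟩ := Quadratic.exists_surjective_map K.subtype K.subtype_injective g' hg'
      exact QdSection.involves_of_surjective _ g'' hg''
    obtain ⟨a, ha, b, hb, rfl⟩ := exists_product_omega _ _ rfl hf (hsec K R hcon) hcon T' y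
    refine ⟨a, ?_, b, hb, rfl⟩
    rw [inducedFunctor_omegaJhFun]
    exact Subgroup.centralizer_le_normalizer _ ha
  refine hch.bind le_rfl fun n hn B' _ hB' hnB => .single ?_ hB' hnB
  obtain ⟨W, hWm, hn⟩ := StrongFusion.mem_steps_famAt.1 hn
  rw [inf_idem] at hn
  rcases hWm with rfl | rfl
  · rw [inducedFunctor_omegaJhFun] at hn
    set Y := omegaCenterOf (jh (S : Subgroup G)) with hY
    set Nn := Subgroup.normalizer (Y : Set G)
    haveI : ((Subgroup.centralizer (Y : Set G)).subgroupOf Nn).Normal := ⟨fun c hc x => by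
      have hx := CfsgLib.CharP.normalizer_le_normalizer_centralizer Y x.2
      exact (Subgroup.mem_normalizer_iff.1 hx _).1 hc⟩
    set P := (S : Subgroup G) ⊓ Subgroup.centralizer (Y : Set G)
    have hjP : jh (S : Subgroup G) ≤ P := le_inf (jh_le _) fun j hj y hy =>
      ((Subgroup.closure_le (Subgroup.centralizer (jh (S : Subgroup G) : Set G))).2 (fun z hz => hz.1.2) hy j hj).symm
    have hYn : (S : Subgroup G) ≤ Nn := by
      intro s hs
      refine Local.mem_normalizer_of_map_conj_eq ?_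
      have e : (jh (S : Subgroup G)).map (MulAut.conj s).toMonoidHom = jh (S : Subgroup G) := by
        rw [jh_map _ (MulAut.conj s).injective, Local.map_conj_eq_of_mem_normalizer (Subgroup.le_normalizer hs)]
      rw [hY, ← JComp.omegaCenterOf_map _ (MulAut.conj s).injective, e]
    let SN : Sylow 2 Nn := S.subtype hYn
    obtain ⟨Q, hQ⟩ := PLocal.exists_sylow_inf SN ((Subgroup.centralizer (Y : Set G)).subgroupOf Nn)
    have hfr := Sylow.normalizer_sup_eq_top Q
    rw [hQ] at hfr
    obtain ⟨c, hc, m, hm, hcm⟩ := Subgroup.mem_sup_of_normal_left.1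
      (show (⟨n, hn⟩ : Nn) ∈ (Subgroup.centralizer (Y : Set G)).subgroupOf Nn ⊔ _ by
        rw [sup_comm, hfr]; exact Subgroup.mem_top _)
    have hn' : n = (c : G) * (m : G) := (congrArg Subtype.val hcm).symm
    rw [hn']
    refine Subgroup.mul_mem _ (Subgroup.centralizer_le_normalizer _ (Subgroup.centralizer_le hAY hc)) (hAN ?_)
    have hfix : P.map (MulAut.conj (m : G)).toMonoidHom = P := by
      have h1 := Local.map_conj_eq_of_mem_normalizer hm
      have hP : ((SN : Subgroup Nn) ⊓ (Subgroup.centralizer (Y : Set G)).subgroupOf Nn).map Nn.subtype = P := by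
        ext x
        constructor
        · rintro ⟨y, hy, rfl⟩
          exact hy
        · intro hx
          exact ⟨⟨x, hYn hx.1⟩, hx, rfl⟩
      rw [← hP, Subgroup.map_map, show (MulAut.conj (m : G)).toMonoidHom.comp Nn.subtype =
        Nn.subtype.comp (MulAut.conj m).toMonoidHom from rfl, ← Subgroup.map_map, h1]
    refine Local.mem_normalizer_of_map_conj_eq ?_
    have hJ : thompsonSubgroupOf 2 (S : Subgroup G) = thompsonSubgroupOf 2 P := by
      obtain ⟨A', hA', hA'S⟩ := exists_maxEl_le S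
      have hAP : A' ≤ P := ((PLocal.le_thompsonSubgroupOf hA'S hA').trans (thompson_le_jh S)).trans hjP
      rw [thompson_eq_offJoin' hA' hAP, thompson_eq_offJoin S]
      exact le_antisymm (sSup_le fun D hD => le_offJoin hD.1
        (((PLocal.le_thompsonSubgroupOf hD.2 hD.1).trans (thompson_le_jh S)).trans hjP)) (offJoin_mono _ inf_le_left)
    rw [hJ, ← JComp.thompsonOf_map _ (MulAut.conj (m : G)).injective, hfix]
  · exact hAN hn

end CfsgLib.S3Free.EGrp
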