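import Cfsg.Agent.Lib.S3Free.NoOffender

/-!
Strictness (no offence of a 2-group on a subspace) passes to the subspace spanned by the translates under a
group without a section `S₃`.
-/

set_option autoImplicit false
set_option linter.unusedSectionVars false
set_option maxHeartbeats 1000000

namespace CfsgLib.S3Free

open CfsgLib CfsgLib.Local CfsgLib.OffenderTwo Cfsg

universe u v w z

variable {X : Type u} [Group X] [Finite X] {V : Type v} [CommGroup V] [Finite V]
  {φ : X →* MulAut V}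

section transfer

variable {Y : Type w} [Group Y] [Finite Y] {U : Type z} [CommGroup U] [Finite U]
  (π : X →* Y) (ι : U →* V) (hι : Function.Injective ι) (ψ : Y →* MulAut U)
  (hψ : ∀ x u, ι (ψ (π x) u) = φ x (ι u)) (W : Subgroup U) (hker : π.ker ≤ stab φ (W.map ι))

include hι hψ

theorem mem_stab_map_iff (x : X) : π x ∈ stab ψ W ↔ x ∈ stab φ (W.map ι) := by
  constructor
  · rintro h _ ⟨u, hu, rfl⟩
    rw [← hψ, h u hu]
  · intro h u hu
    exact hι ((hψ x u).trans (h _ ⟨u, hu, rfl⟩))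

include hker

theorem strict_counts {D : Subgroup X} :
    Nat.card (D.map π) * Nat.card ↥(D ⊓ π.ker) = Nat.card D ∧
      Nat.card ↥(D.map π ⊓ stab ψ W) * Nat.card ↥(D ⊓ π.ker) = Nat.card ↥(D ⊓ stab φ (W.map ι)) ∧
      Nat.card ↥(W ⊓ fix ψ (D.map π)) = Nat.card ↥(W.map ι ⊓ fix φ D) := by
  refine ⟨card_map_mul_inf π D, ?_, ?_⟩
  · have e2 := card_map_mul_inf π (D ⊓ stab φ (W.map ι))
    have e3 : (D ⊓ stab φ (W.map ι)).map π = D.map π ⊓ stab ψ W := by
      refine le_antisymm (fun y ⟨d, hd, he⟩ => he ▸ ⟨⟨d, hd.1, rfl⟩, (mem_stab_map_iff π ι hι ψ hψ W d).2 hd.2⟩) ?_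
      rintro y ⟨⟨d, hd, rfl⟩, hy⟩
      exact ⟨d, ⟨hd, (mem_stab_map_iff π ι hι ψ hψ W d).1 hy⟩, rfl⟩
    have e4 : D ⊓ stab φ (W.map ι) ⊓ π.ker = D ⊓ π.ker :=
      le_antisymm (inf_le_inf_right _ inf_le_left) fun d hd => ⟨⟨hd.1, hker hd.2⟩, hd.2⟩
    rwa [e3, e4] at e2
  · rw [← Subgroup.card_map_of_injective hι]
    congr 2
    ext v
    constructor
    · rintro ⟨u, ⟨hu, hf⟩, rfl⟩
      exact ⟨⟨u, hu, rfl⟩, fun d hd => by rw [← hψ, hf _ ⟨d, hd, rfl⟩]⟩
    · rintro ⟨⟨u, hu, rfl⟩, hf⟩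
      refine ⟨u, ⟨hu, ?_⟩, rfl⟩
      rintro _ ⟨d, hd, rfl⟩
      exact hι ((hψ d u).trans (hf d hd))

/-- Strictness in the image. -/
theorem Strict.push_map {T : Subgroup X} (h : Strict φ T (W.map ι)) : Strict ψ (T.map π) W := by
  intro D' hD hsq hcomm hne
  set D := T ⊓ D'.comap π
  have hmap : D.map π = D' := by
    refine le_antisymm (Subgroup.map_le_iff_le_comap.2 inf_le_right) fun y hy => ?_
    obtain ⟨t, ht, rfl⟩ := hD hy
    exact ⟨t, ⟨ht, hy⟩, rfl⟩
  have hs := mem_stab_map_iff π ι hι ψ hψ W (φ := φ)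
  have key := h D inf_le_left (fun a ha => (hs _).1 (by rw [map_mul]; exact hsq _ ha.2))
    (fun a ha b hb => (hs _).1 (by
      rw [map_mul, map_mul, map_mul, map_inv, map_inv]; exact hcomm _ ha.2 _ hb.2))
    (fun hle => hne fun y hy => by
      obtain ⟨d, hd, rfl⟩ := hmap.ge hy
      exact (hs d).2 (hle hd))
  obtain ⟨e1, e2, e3⟩ := strict_counts π ι hι ψ hψ W hker (D := D)
  rw [hmap] at e1 e2 e3
  rw [Subgroup.card_map_of_injective hι, ← e3, ← e2, ← e1] at key
  refine Nat.lt_of_mul_lt_mul_right (a := Nat.card ↥(D ⊓ π.ker)) ?_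
  calc Nat.card D' * Nat.card ↥(W ⊓ fix ψ D') * Nat.card ↥(D ⊓ π.ker)
      = Nat.card D' * Nat.card ↥(D ⊓ π.ker) * Nat.card ↥(W ⊓ fix ψ D') := by ring
    _ < _ := key
    _ = _ := by ring

/-- Strictness from the image. -/
theorem Strict.pull_map {T : Subgroup X} (h : Strict ψ (T.map π) W) : Strict φ T (W.map ι) := by
  intro D hD hsq hcomm hne
  have hs := mem_stab_map_iff π ι hι ψ hψ W (φ := φ)
  have key := h (D.map π) (Subgroup.map_mono hD)
    (by rintro _ ⟨a, ha, rfl⟩; rw [← map_mul]; exact (hs _).2 (hsq a ha))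
    (by
      rintro _ ⟨a, ha, rfl⟩ _ ⟨b, hb, rfl⟩
      rw [← map_inv, ← map_inv, ← map_mul, ← map_mul, ← map_mul]
      exact (hs _).2 (hcomm a ha b hb))
    (fun hle => hne fun d hd => (hs d).1 (hle ⟨d, hd, rfl⟩))
  obtain ⟨e1, e2, e3⟩ := strict_counts π ι hι ψ hψ W hker (D := D)
  rw [Subgroup.card_map_of_injective hι, ← e3, ← e2, ← e1]
  calc Nat.card (D.map π) * Nat.card ↥(D ⊓ π.ker) * Nat.card ↥(W ⊓ fix ψ (D.map π))
      = Nat.card (D.map π) * Nat.card ↥(W ⊓ fix ψ (D.map π)) * Nat.card ↥(D ⊓ π.ker) := by ring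
    _ < Nat.card W * Nat.card ↥(D.map π ⊓ stab ψ W) * Nat.card ↥(D ⊓ π.ker) :=
        Nat.mul_lt_mul_of_pos_right key Nat.card_pos
    _ = _ := by ring

end transfer

/-- A best member of a family in a strict subgroup centralizes the subspace. -/
theorem Fam.le_stab_of_strict {𝒪 : Set (Subgroup X)} (hF : Fam φ 𝒪) {T : Subgroup X} {W : Subgroup V}
    (hstr : Strict φ T W) {A : Subgroup X} (hA : A ∈ 𝒪) (hAT : A ≤ T) : A ≤ stab φ W := by
  by_contra hne
  have hc : ∀ a ∈ A, ∀ b ∈ A, a * b * a⁻¹ * b⁻¹ = 1 := fun a ha b hb => by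
    have h1 := hF.sq A hA (a * b) (A.mul_mem ha hb)
    rw [inv_eq_of_mul_eq_one_right (hF.sq A hA a ha), inv_eq_of_mul_eq_one_right (hF.sq A hA b hb),
      mul_assoc (a * b)]
    exact h1
  have key := hstr A hAT (fun a ha => by rw [hF.sq A hA a ha]; exact one_mem _)
    (fun a ha b hb => by rw [hc a ha b hb]; exact one_mem _) hne
  set B := A ⊓ stab φ W
  have hb := hF.best A hA B inf_le_left
  have hsup : Nat.card W * Nat.card (fix φ A) ≤ Nat.card (fix φ B) * Nat.card ↥(W ⊓ fix φ A) :=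
    (Products.card_mul_card_le W (fix φ A)).trans (Nat.mul_le_mul_right _
      (Subgroup.card_le_of_le (sup_le (fun w hw b hb => hb.2 w hw) (fix_anti inf_le_left))))
  refine key.not_ge (Nat.le_of_mul_le_mul_right ?_ (Nat.card_pos (α := fix φ A)))
  calc Nat.card W * Nat.card B * Nat.card (fix φ A)
      = Nat.card B * (Nat.card W * Nat.card (fix φ A)) := by ring
    _ ≤ Nat.card B * (Nat.card (fix φ B) * Nat.card ↥(W ⊓ fix φ A)) := Nat.mul_le_mul_left _ hsup
    _ = Nat.card B * Nat.card (fix φ B) * Nat.card ↥(W ⊓ fix φ A) := by ring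
    _ ≤ Nat.card A * Nat.card (fix φ A) * Nat.card ↥(W ⊓ fix φ A) := Nat.mul_le_mul_right _ hb
    _ = _ := by ring

/-- The elementary subgroups of the largest value form a family. -/
theorem exists_best_fam (h2 : ∀ v : V, v * v = 1) {A : Subgroup X} (hA : ∀ a ∈ A, a * a = 1) (hA1 : A ≠ ⊥)
    (hbig : Nat.card V ≤ Nat.card A * Nat.card (fix φ A)) :
    ∃ 𝒪 : Set (Subgroup X), Fam φ 𝒪 ∧ ∃ A0 ∈ 𝒪, A0 ≠ ⊥ ∧ Nat.card V ≤ Nat.card A0 * Nat.card (fix φ A0) := by
  classical
  let val : Subgroup X → ℕ := fun B => Nat.card B * Nat.card (fix φ B)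
  set 𝒪 : Set (Subgroup X) := {B | (∀ b ∈ B, b * b = 1) ∧
    ∀ C : Subgroup X, (∀ c ∈ C, c * c = 1) → val C ≤ val B}
  have hvconj : ∀ (g : X) (B : Subgroup X), val (B.map (MulAut.conj g).toMonoidHom) = val B := fun g B => by
    show _ * _ = _ * _
    rw [Subgroup.card_map_of_injective (MulAut.conj g).injective, fix_map_conj,
      Subgroup.card_map_of_injective (φ g).injective]
  refine ⟨𝒪, ⟨?_, fun B hB => hB.1, ?_, ?_⟩, ?_⟩
  · intro g B hB
    refine ⟨?_, fun C hC => (hvconj g B).symm ▸ hB.2 C hC⟩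
    rintro _ ⟨b, hb, rfl⟩
    rw [← map_mul, hB.1 b hb, map_one]
  · exact fun B hB C hC => hB.2 C fun c hc => hB.1 c (hC hc)
  · intro B hB W hinv hmove
    obtain ⟨C, hCB, hCm, hCv, hCq⟩ := quad_of_best h2 hB.1
      (fun C hC => hB.2 C fun c hc => hB.1 c (hC hc)) hinv hmove
    exact ⟨C, ⟨fun c hc => hB.1 c (hCB hc), fun D hD => (hB.2 D hD).trans hCv⟩, hCB, hCm, hCq⟩
  obtain ⟨M0, hM0, hmax⟩ := Set.exists_max_image {B : Subgroup X | ∀ b ∈ B, b * b = 1} val
    (Set.toFinite _) ⟨A, hA⟩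
  by_cases h0 : M0 = ⊥
  · refine ⟨A, ⟨hA, fun C hC => (hmax C hC).trans ?_⟩, hA1, hbig⟩
    subst h0
    show Nat.card (⊥ : Subgroup X) * Nat.card (fix φ (⊥ : Subgroup X)) ≤ _
    rw [Subgroup.card_bot, one_mul]
    exact (Subgroup.card_le_card_group _).trans hbig
  · exact ⟨M0, ⟨hM0, fun C hC => hmax C hC⟩, h0, hbig.trans (hmax A hA)⟩

/-- The faithful case. -/
theorem closure_step (hinj : Function.Injective φ) (h2 : ∀ v : V, v * v = 1) (hfree : ¬ Involves P3 X)
    (T : Sylow 2 X) (W : Subgroup V) (hstr : Strict φ (T : Subgroup X) W)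
    (hgen : (⨆ x : X, tr φ x W) = ⊤)
    (hsub : ∀ L : Subgroup X, L ≠ ⊤ → (T : Subgroup X) ≤ L →
      Strict φ (T : Subgroup X) (⨆ l : L, tr φ (l : X) W)) :
    Strict φ (T : Subgroup X) ⊤ := by
  haveI : Fact (Nat.Prime 2) := ⟨Nat.prime_two⟩
  intro D hD hsq hcomm hne
  have hstab1 : ∀ x : X, x ∈ stab φ (⊤ : Subgroup V) → x = 1 := fun x hx => hinj (MulEquiv.ext fun v => by
    rw [map_one, MulAut.one_apply]; exact hx v (Subgroup.mem_top v))
  have hDst : D ⊓ stab φ (⊤ : Subgroup V) = ⊥ := (Subgroup.eq_bot_iff_forall _).2 fun x hx => hstab1 x hx.2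
  rw [top_inf_eq, hDst, Subgroup.card_bot, mul_one, Subgroup.card_top]
  by_contra hlt
  rw [not_lt] at hlt
  have hD1 : D ≠ ⊥ := fun e => hne (e ▸ bot_le)
  obtain ⟨𝒪, hF, A0, hA0, hA01, hbig⟩ := exists_best_fam h2 (fun a ha => hstab1 _ (hsq a ha)) hD1 hlt
  obtain ⟨S, hS⟩ := (isPGroup_of_sq (hF.sq A0 hA0)).exists_le_sylow
  obtain ⟨g, hg⟩ := MulAction.exists_smul_eq X S T
  set A1 := A0.map (MulAut.conj g).toMonoidHom
  have hA1 : A1 ∈ 𝒪 := hF.conj g A0 hA0
  have hA1T : A1 ≤ (T : Subgroup X) := by rw [← hg]; exact Subgroup.map_mono hS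
  have hA11 : A1 ≠ ⊥ := fun e => hA01 ((Subgroup.map_eq_bot_iff_of_injective _ (MulAut.conj g).injective).1 e)
  have hbig1 : Nat.card V ≤ Nat.card A1 * Nat.card (fix φ A1) := by
    rw [Subgroup.card_map_of_injective (MulAut.conj g).injective, fix_map_conj,
      Subgroup.card_map_of_injective (φ g).injective]
    exact hbig
  set J := offJoin 𝒪 (T : Subgroup X)
  by_cases hJn : J.Normal
  · have hcA : ∀ a ∈ A1, ∀ b ∈ A1, a * b = b * a := fun a ha b hb => by
      have h1 := hF.sq A1 hA1 (a * b) (A1.mul_mem ha hb)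
      rw [mul_eq_one_iff_inv_eq, mul_inv_rev, inv_eq_of_mul_eq_one_right (hF.sq A1 hA1 a ha),
        inv_eq_of_mul_eq_one_right (hF.sq A1 hA1 b hb)] at h1
      exact h1.symm
    exact (strict_tele hinj hgen hstr A1 (hF.sq A1 hA1) hcA
      (fun x d hd => offJoin_le 𝒪 _ (hJn.conj_mem d (le_offJoin hA1 hA1T hd) x)) hA11).not_ge hbig1
  set L := Subgroup.normalizer (J : Set X)
  have hL : L ≠ ⊤ := fun e => hJn (Subgroup.normalizer_eq_top_iff.1 e)
  have hTL : (T : Subgroup X) ≤ L := Subgroup.le_normalizer.trans (hF.normalizer_le _)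
  set W1 := ⨆ l : L, tr φ (l : X) W
  have hstr1 := hsub L hL hTL
  have hLW : L ≤ nrm φ W1 := by
    intro x hx
    have hle : W1.map (φ x).toMonoidHom ≤ W1 := by
      rw [Subgroup.map_iSup]
      refine iSup_le fun l => le_trans (le_of_eq ?_) (le_iSup (fun k : L => tr φ (k : X) W) (⟨x, hx⟩ * l))
      show (W.map (φ (l : X)).toMonoidHom).map (φ x).toMonoidHom = W.map (φ (x * l)).toMonoidHom
      rw [Subgroup.map_map, map_mul]
      rfl
    exact fun w hw => hle ⟨w, hw, rfl⟩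
  have hJW1 : J ≤ stab φ W1 := sSup_le fun A hA => hF.le_stab_of_strict hstr1 hA.1 hA.2
  have hpush := push h2 hfree hF T W1 (hTL.trans hLW) hJW1 hstr1 hLW
  have hW1top : W1 = ⊤ := by
    refine top_le_iff.1 (hgen ▸ iSup_le fun x => ?_)
    rintro _ ⟨w, hw, rfl⟩
    refine (hpush.ge (Subgroup.mem_top x)) w (le_iSup (fun l : L => tr φ (l : X) W) 1 ?_)
    exact ⟨w, hw, by show φ ((1 : L) : X) w = w; rw [OneMemClass.coe_one, map_one, MulAut.one_apply]⟩
  exact hA11 ((Subgroup.eq_bot_iff_forall A1).2 fun a ha =>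
    hstab1 a (hW1top ▸ hJW1 (le_offJoin hA1 hA1T ha)))

theorem strict_closure_aux : ∀ (n : ℕ) (X : Type u) [Group X] [Finite X], Nat.card X = n →
    ∀ (V : Type v) [CommGroup V] [Finite V] (φ : X →* MulAut V) (T : Sylow 2 X) (W : Subgroup V),
      (∀ v : V, v * v = 1) → ¬ Involves P3 X → Strict φ (T : Subgroup X) W →
      Strict φ (T : Subgroup X) (⨆ x : X, tr φ x W) := by
  intro n
  induction n using Nat.strong_induction_on with
  | _ n ih =>
  intro X _ _ hn V _ _ φ T W h2 hfree hstr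
  haveI : Fact (Nat.Prime 2) := ⟨Nat.prime_two⟩
  set V1 := ⨆ x : X, tr φ x W with hV1
  have hV1inv : ∀ (x : X), ∀ v ∈ V1, φ x v ∈ V1 := by
    intro x v hv
    have hle : V1.map (φ x).toMonoidHom ≤ V1 := by
      rw [hV1, Subgroup.map_iSup]
      refine iSup_le fun y => le_trans (le_of_eq ?_) (le_iSup (fun z => tr φ z W) (x * y))
      show (W.map (φ y).toMonoidHom).map (φ x).toMonoidHom = W.map (φ (x * y)).toMonoidHom
      rw [Subgroup.map_map, map_mul]
      rfl
    exact hle ⟨v, hv, rfl⟩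
  have hWV1 : W ≤ V1 := fun w hw => le_iSup (fun z => tr φ z W) 1
    ⟨w, hw, by show φ 1 w = w; rw [map_one, MulAut.one_apply]⟩
  let ρ : X →* MulAut V1 :=
    MonoidHom.mk' (fun x =>
      { toFun := fun w => ⟨φ x w, hV1inv x w w.2⟩
        invFun := fun w => ⟨φ x⁻¹ w, hV1inv x⁻¹ w w.2⟩
        left_inv := fun w => Subtype.ext (by show φ x⁻¹ (φ x w) = w; rw [map_inv, MulAut.inv_apply_self])
        right_inv := fun w => Subtype.ext (by show φ x (φ x⁻¹ w) = w; rw [map_inv, MulAut.apply_inv_self])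
        map_mul' := fun a b => Subtype.ext (map_mul (φ x) _ _) })
      (fun x y => MulEquiv.ext fun w => Subtype.ext (by
        show φ (x * y) w = φ x (φ y w)
        rw [map_mul, MulAut.mul_apply]))
  set K := ρ.ker
  let π := QuotientGroup.mk' K
  have hπ : Function.Surjective π := QuotientGroup.mk'_surjective K
  let ψ : X ⧸ K →* MulAut V1 := QuotientGroup.lift K ρ le_rfl
  have hψinj : Function.Injective ψ := QuotientGroup.kerLift_injective ρ
  have hψ : ∀ x (w : V1), V1.subtype (ψ (π x) w) = φ x (V1.subtype w) := fun x w => rfl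
  have hker : ∀ U : Subgroup V1, π.ker ≤ stab φ (U.map V1.subtype) := by
    intro U k hk
    rw [QuotientGroup.ker_mk'] at hk
    rintro _ ⟨u, -, rfl⟩
    exact congrArg Subtype.val (show ρ k u = u by rw [MonoidHom.mem_ker.1 hk]; rfl)
  set T' : Sylow 2 (X ⧸ K) := T.mapSurjective hπ
  have hT' : (T' : Subgroup (X ⧸ K)) = (T : Subgroup X).map π := Sylow.coe_mapSurjective hπ T
  set W' := W.subgroupOf V1
  have hW' : W'.map V1.subtype = W := Subgroup.map_subgroupOf_eq_of_le hWV1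
  have htop : Strict ψ (T' : Subgroup (X ⧸ K)) ⊤ := by
    refine closure_step hψinj (fun v => Subtype.ext (h2 v)) (fun hi => hfree (involves_of_hom π hπ hi)) T' W'
      ?_ ?_ ?_
    · rw [hT']
      exact Strict.push_map π V1.subtype V1.subtype_injective ψ hψ W' (hker _) (hW'.symm ▸ hstr)
    · refine Subgroup.map_injective V1.subtype_injective ?_
      rw [Subgroup.map_iSup, ← MonoidHom.range_eq_map, Subgroup.range_subtype]
      refine le_antisymm (iSup_le fun x => Subgroup.map_subtype_le _) ?_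
      refine hV1.trans_le (iSup_le fun y => le_trans ?_
        (le_iSup (fun x : X ⧸ K => (tr ψ x W').map V1.subtype) (π y)))
      rintro _ ⟨w, hw, rfl⟩
      exact ⟨ψ (π y) ⟨w, hWV1 hw⟩, ⟨⟨w, hWV1 hw⟩, hw, rfl⟩, rfl⟩
    · intro Lb hLb hTL
      set L := Lb.comap π
      have hTL' : (T : Subgroup X) ≤ L := fun t ht => hTL (hT'.ge ⟨t, ht, rfl⟩)
      have hLtop : L ≠ ⊤ := fun e => hLb (by
        rw [← Subgroup.map_comap_eq_self_of_surjective hπ Lb]
        show L.map π = ⊤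
        rw [e]; exact Subgroup.map_top_of_surjective π hπ)
      let TL : Sylow 2 L := T.subtype hTL'
      have hTLmap : (TL : Subgroup L).map L.subtype = (T : Subgroup X) := Subgroup.map_subgroupOf_eq_of_le hTL'
      have hres := ih (Nat.card L) (hn ▸ lt_of_le_of_ne (Subgroup.card_le_card_group L)
          fun e => hLtop (Subgroup.eq_top_of_card_eq L e)) L rfl V (φ.comp L.subtype) TL W h2
        (fun hi => hfree (involves_of_sub hi)) (Strict.onSubgroup (hTLmap.symm ▸ hstr))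
      rw [hT']
      refine Strict.push_map π V1.subtype V1.subtype_injective ψ hψ _ (hker _) ?_
      have e : (⨆ l : Lb, tr ψ (l : X ⧸ K) W').map V1.subtype = ⨆ l : L, tr (φ.comp L.subtype) l W := by
        rw [Subgroup.map_iSup]
        have e0 : ∀ l : L, (tr ψ (π (l : X)) W').map V1.subtype = tr (φ.comp L.subtype) l W := fun l => by
          conv_rhs => rw [← hW']
          simp only [tr, Subgroup.map_map]
          rfl
        refine le_antisymm (iSup_le fun l => ?_) (iSup_le fun l => ?_)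
        · obtain ⟨x, hx⟩ := hπ (l : X ⧸ K)
          have hxL : x ∈ L := Subgroup.mem_comap.2 (hx.symm ▸ l.2)
          refine le_trans (le_of_eq ?_) (le_iSup (fun k : L => tr (φ.comp L.subtype) k W) ⟨x, hxL⟩)
          exact (congrArg (fun q => (tr ψ q W').map V1.subtype) hx).symm.trans (e0 ⟨x, hxL⟩)
        · exact (e0 l).ge.trans
            (le_iSup (fun k : Lb => (tr ψ (k : X ⧸ K) W').map V1.subtype) ⟨π (l : X), l.2⟩)
      rw [e]
      intro D hD hsq hcomm hne
      have h := hres (D.subgroupOf L) (fun d hd => hD hd) (fun a ha => hsq _ ha)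
        (fun a ha b hb => hcomm _ ha _ hb)
        (fun hle => hne fun d hd => hle (x := ⟨d, hTL' (hD hd)⟩) hd)
      have hDL : D ≤ L := hD.trans hTL'
      have e1 : D ⊓ stab φ (⨆ l : L, tr (φ.comp L.subtype) l W) =
          (D.subgroupOf L ⊓ stab (φ.comp L.subtype) (⨆ l : L, tr (φ.comp L.subtype) l W)).map L.subtype := by
        ext y
        constructor
        · rintro ⟨hy, hys⟩; exact ⟨⟨y, hDL hy⟩, ⟨hy, hys⟩, rfl⟩
        · rintro ⟨d, ⟨hd, hds⟩, rfl⟩; exact ⟨hd, hds⟩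
      rw [← fix_map, Subgroup.map_subgroupOf_eq_of_le hDL,
        Nat.card_congr (Subgroup.subgroupOfEquivOfLe hDL).toEquiv] at h
      rwa [e1, Subgroup.card_map_of_injective L.subtype_injective]
  have := Strict.pull_map π V1.subtype V1.subtype_injective ψ hψ ⊤ (hker _) (T := (T : Subgroup X)) (hT' ▸ htop)
  rwa [← MonoidHom.range_eq_map, Subgroup.range_subtype] at this

/-- Strictness passes to the span of the translates. -/
theorem strict_closure (h2 : ∀ v : V, v * v = 1) (hfree : ¬ Involves P3 X) (T : Sylow 2 X) {W : Subgroup V}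
    (hstr : Strict φ (T : Subgroup X) W) : Strict φ (T : Subgroup X) (⨆ x : X, tr φ x W) :=
  strict_closure_aux _ X rfl V φ T W h2 hfree hstr

end CfsgLib.S3Free
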