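import Cfsg.Agent.Lib.S3Free.Gen

/-!
The generation argument for an arbitrary subgroup `M` containing the normalizer of the join.
-/

set_option autoImplicit false
set_option linter.unusedSectionVars false

namespace CfsgLib.S3Free

open CfsgLib CfsgLib.Local CfsgLib.OffenderTwo Cfsg

universe u v

variable {X : Type u} [Group X] [Finite X] {V : Type v} [CommGroup V] [Finite V]
  {φ : X →* MulAut V} {𝒪 : Set (Subgroup X)}

/-- A proper subgroup `M` containing the normalizer of the join, absorbing every proper subgroup with an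
offender in a Sylow subgroup inside `M`, contains every proper overgroup of a quadratic offender in `T`. -/
theorem step_over (hinj : Function.Injective φ) (hN : ∀ U : Subgroup X, IsPGroup 2 U → offJoin 𝒪 U ≠ ⊥ →
      ¬ (offJoin 𝒪 U).Normal) (hF : Fam φ 𝒪) (T : Sylow 2 X) (M : Subgroup X) (hM : M ≠ ⊤)
    (hTM : (T : Subgroup X) ≤ M)
    (hNJ : Subgroup.normalizer (offJoin 𝒪 (T : Subgroup X) : Set X) ≤ M)
    (hsub : ∀ H : Subgroup X, H ≠ ⊤ → ∀ (S : Sylow 2 H) (P : Sylow 2 X),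
      (S : Subgroup H).map H.subtype ≤ (P : Subgroup X) → (P : Subgroup X) ≤ M →
      offJoin 𝒪 ((S : Subgroup H).map H.subtype) ≠ ⊥ →
      H ⊓ Subgroup.normalizer (offJoin 𝒪 ((S : Subgroup H).map H.subtype) : Set X) ≤ M → H ≤ M) :
    ∃ B ∈ 𝒪, B ≤ (T : Subgroup X) ∧ B ≠ ⊥ ∧ (∀ b ∈ B, ∀ v : V, φ b v / v ∈ fix φ B) ∧
      Nat.card V ≤ Nat.card B * Nat.card (fix φ B) ∧
      ∀ H : Subgroup X, H ≠ ⊤ → B ≤ H → H ≤ M := by
  haveI : Fact (Nat.Prime 2) := ⟨Nat.prime_two⟩
  classical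
  have hNT : Subgroup.normalizer ((T : Subgroup X) : Set X) ≤ M := (hF.normalizer_le _).trans hNJ
  have hcjM : ∀ m ∈ M, M.map (MulAut.conj m).toMonoidHom ≤ M := fun m hm =>
    map_conj_le fun x hx => M.mul_mem (M.mul_mem hm hx) (M.inv_mem hm)
  -- Sylow subgroups inside `M`
  have hsyl : ∀ S : Subgroup X, IsPGroup 2 S → S ≤ M → ∃ m ∈ M, S ≤ (T : Subgroup X).map (MulAut.conj m).toMonoidHom := by
    intro S hS hSM
    obtain ⟨c, hc, P, hP, -, hTP, hSP⟩ := exists_conj_isPGroup (p := 2) T.2 hS hTM hSM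
    rw [T.3 hP hTP] at hSP
    refine ⟨c⁻¹, M.inv_mem hc, fun s hs => mem_map_conj.2 ?_⟩
    simpa using hSP ⟨s, hs, rfl⟩
  have hTconj : ∀ x : X, (T : Subgroup X).map (MulAut.conj x).toMonoidHom ≤ M → x ∈ M := by
    intro x hx
    obtain ⟨m, hm, hle⟩ := hsyl _ (T.2.map _) hx
    have hn : m⁻¹ * x ∈ Subgroup.normalizer ((T : Subgroup X) : Set X) := by
      refine mem_normalizer_of_map_conj_eq (Subgroup.eq_of_le_of_card_ge ?_
        (Subgroup.card_map_of_injective (MulAut.conj (m⁻¹ * x)).injective).ge)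
      rw [← map_conj_mul]
      refine map_conj_le fun y hy => ?_
      simpa using mem_map_conj.1 (hle hy)
    simpa using M.mul_mem hm (hNT hn)
  have hnorm : ∀ m ∈ M, Subgroup.normalizer
      (offJoin 𝒪 ((T : Subgroup X).map (MulAut.conj m).toMonoidHom) : Set X) ≤ M := by
    intro m hm y hy
    rw [← hF.map_offJoin] at hy
    have h1 : m⁻¹ * y * m ∈ Subgroup.normalizer (offJoin 𝒪 (T : Subgroup X) : Set X) := by
      refine mem_normalizer_of_map_conj_eq ?_
      rw [← map_conj_mul, ← map_conj_mul, map_conj_eq_of_mem_normalizer hy, map_conj_mul, inv_mul_cancel]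
      ext z; simp
    simpa [mul_assoc] using M.mul_mem (M.mul_mem hm (hNJ h1)) (M.inv_mem hm)
  -- a non-trivial join lies in one conjugate of `M`
  have huniq : ∀ U : Subgroup X, IsPGroup 2 U → offJoin 𝒪 U ≠ ⊥ → U ≤ M →
      ∀ x : X, U ≤ M.map (MulAut.conj x).toMonoidHom → x ∈ M := by
    by_contra hne
    push Not at hne
    let PU : Set (Subgroup X) := {U | IsPGroup 2 U ∧ offJoin 𝒪 U ≠ ⊥ ∧ U ≤ M ∧
      ∃ x, U ≤ M.map (MulAut.conj x).toMonoidHom ∧ x ∉ M}
    let f : Subgroup X → ℕ := fun U => Nat.card (offJoin 𝒪 U) * (Nat.card X + 1) + Nat.card U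
    have hPU : PU.Nonempty := by
      obtain ⟨U, h1, h3, h4, x, h5, h6⟩ := hne
      exact ⟨U, h1, h3, h4, x, h5, h6⟩
    obtain ⟨U, ⟨hU2, hUJ, hUM, x, hUx, hx⟩, hmax⟩ := Set.exists_max_image PU f (Set.toFinite _) hPU
    have hfgt : ∀ U' : Subgroup X, U < U' → f U < f U' := fun U' hlt => by
      have h1 : Nat.card (offJoin 𝒪 U) ≤ Nat.card (offJoin 𝒪 U') :=
        Subgroup.card_le_of_le (offJoin_mono 𝒪 hlt.le)
      have h3 : Nat.card U < Nat.card U' := lt_of_le_of_ne (Subgroup.card_le_of_le hlt.le)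
        fun e => hlt.ne (Subgroup.eq_of_le_of_card_ge hlt.le e.ge)
      show _ * _ + _ < _ * _ + _
      have := Nat.mul_le_mul_right (Nat.card X + 1) h1
      omega
    have hfgtJ : ∀ U' : Subgroup X, offJoin 𝒪 U < offJoin 𝒪 U' → f U < f U' := fun U' hlt => by
      have h3 : Nat.card (offJoin 𝒪 U) < Nat.card (offJoin 𝒪 U') := lt_of_le_of_ne
        (Subgroup.card_le_of_le hlt.le) fun e => hlt.ne (Subgroup.eq_of_le_of_card_ge hlt.le e.ge)
      have h4 : Nat.card U ≤ Nat.card X := Subgroup.card_le_card_group U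
      show _ * _ + _ < _ * _ + _
      nlinarith [Nat.card_pos (α := U')]
    set H := Subgroup.normalizer (offJoin 𝒪 U : Set X) with hHdef
    have hUH : Subgroup.normalizer (U : Set X) ≤ H := hF.normalizer_le U
    have hJM : offJoin 𝒪 U ≤ M := (offJoin_le _ _).trans hUM
    have hH : H ≠ ⊤ := by
      intro e
      exact hN U hU2 hUJ (Subgroup.normalizer_eq_top_iff.1 e)
    obtain ⟨m, hm, hUT⟩ := hsyl U hU2 hUM
    set T1 := (T : Subgroup X).map (MulAut.conj m).toMonoidHom with hT1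
    have hT1M : T1 ≤ M := (Subgroup.map_mono hTM).trans (hcjM m hm)
    have hne1 : U ≠ T1 := by
      rintro rfl
      refine hx ?_
      have h1 : x⁻¹ * m ∈ M := hTconj _ (by
        rw [← map_conj_mul]
        refine map_conj_le fun y hy => ?_
        simpa using mem_map_conj.1 (hUx hy))
      simpa using M.mul_mem hm (M.inv_mem h1)
    set U1 := T1 ⊓ Subgroup.normalizer (U : Set X)
    have hU1 : U < U1 := WeakClosed.lt_inf_normalizer' (p := 2) (T.2.map _) hUT hne1
    obtain ⟨S, hS⟩ := ((T.2.map (MulAut.conj m).toMonoidHom).to_le (inf_le_left : U1 ≤ T1)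
      |>.comap_subtype (K := H)).exists_le_sylow
    set S' := (S : Subgroup H).map H.subtype with hS'def
    have hS'H : S' ≤ H := Subgroup.map_subtype_le _
    have hS'2 : IsPGroup 2 S' := S.2.map _
    have hU1S : U1 ≤ S' := fun y hy => ⟨⟨y, hUH hy.2⟩, hS hy, rfl⟩
    obtain ⟨P, hP⟩ := hS'2.exists_le_sylow
    obtain ⟨y, hy⟩ := MulAction.exists_smul_eq X T P
    have hPeq : (P : Subgroup X) = (T : Subgroup X).map (MulAut.conj y).toMonoidHom := by rw [← hy]; rfl
    have hyM : y ∈ M := by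
      by_contra hyM
      refine absurd (hmax U1 ⟨hS'2.to_le hU1S, ?_, inf_le_left.trans hT1M, y, ?_, hyM⟩) (hfgt U1 hU1).not_ge
      · exact fun e => hUJ (le_bot_iff.1 (e ▸ offJoin_mono 𝒪 hU1.le))
      · exact (hU1S.trans hP).trans (hPeq ▸ Subgroup.map_mono hTM)
    have hPM : (P : Subgroup X) ≤ M := hPeq ▸ (Subgroup.map_mono hTM).trans (hcjM y hyM)
    have hJU : offJoin 𝒪 U ≤ offJoin 𝒪 S' := offJoin_mono 𝒪 (hU1.le.trans hU1S)
    have hHM : H ≤ M := by
      rcases eq_or_lt_of_le hJU with he | hlt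
      · by_cases hSP : S' = (P : Subgroup X)
        · rw [hHdef, he, hSP, hPeq]
          exact hnorm y hyM
        · exfalso
          have hlt' := WeakClosed.lt_inf_normalizer' (p := 2) P.2 hP hSP
          have hle : (P : Subgroup X) ⊓ Subgroup.normalizer (S' : Set X) ≤ H := by
            refine inf_le_right.trans ?_
            rw [hHdef, he]
            exact hF.normalizer_le S'
          have hmaxS := S.3 ((P.2.to_le (inf_le_left : (P : Subgroup X) ⊓ Subgroup.normalizer (S' : Set X) ≤ _)).comap_subtype (K := H))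
            (fun z hz => hlt'.le ⟨z, hz, rfl⟩)
          exact hlt'.not_ge fun z hz => ⟨⟨z, hle hz⟩, by rw [← hmaxS]; exact hz, rfl⟩
      · refine hsub H hH S P hP hPM (fun e => hUJ (le_bot_iff.1 (e ▸ hJU))) ?_
        intro z hz
        by_contra hzM
        refine absurd (hmax (offJoin 𝒪 S') ⟨hS'2.to_le (offJoin_le _ _), ?_, ?_, z, ?_, hzM⟩)
          (hfgtJ _ (by rwa [offJoin_idem])).not_ge
        · rw [offJoin_idem]
          exact fun e => hUJ (le_bot_iff.1 (e ▸ hJU))
        · exact ((offJoin_le _ _).trans hP).trans hPM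
        · rw [← map_conj_eq_of_mem_normalizer hz.2]
          exact Subgroup.map_mono (((offJoin_le _ _).trans hP).trans hPM)
    -- the other side
    have hUxinv : U.map (MulAut.conj x⁻¹).toMonoidHom ≤ M := map_conj_le fun y hy => by
      simpa using mem_map_conj.1 (hUx hy)
    obtain ⟨m', hm', hUT'⟩ := hsyl _ (hU2.map _) hUxinv
    set T2 := (T : Subgroup X).map (MulAut.conj (x * m')).toMonoidHom with hT2
    have hUT2 : U ≤ T2 := fun z hz => by
      have h1 := mem_map_conj.1 (hUT' ⟨z, hz, rfl⟩)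
      refine mem_map_conj.2 ?_
      simpa [mul_assoc] using h1
    have hne2 : U ≠ T2 := by
      intro e
      refine hx ?_
      have h1 := hTconj (x * m') (hT2 ▸ e ▸ hUM)
      simpa using M.mul_mem h1 (M.inv_mem hm')
    have hU2' : U < T2 ⊓ Subgroup.normalizer (U : Set X) :=
      WeakClosed.lt_inf_normalizer' (p := 2) (T.2.map _) hUT2 hne2
    refine absurd (hmax _ ⟨(T.2.map _).to_le inf_le_left, ?_, (inf_le_right.trans hUH).trans hHM, x, ?_, hx⟩)
      (hfgt _ hU2').not_ge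
    · exact fun e => hUJ (le_bot_iff.1 (e ▸ offJoin_mono 𝒪 hU2'.le))
    · refine inf_le_left.trans ?_
      rw [← map_conj_mul]
      exact Subgroup.map_mono ((Subgroup.map_mono hTM).trans (hcjM m' hm'))
  -- an offender in `T`
  obtain ⟨A, hA, hAT, hA1⟩ : ∃ A ∈ 𝒪, A ≤ (T : Subgroup X) ∧ A ≠ ⊥ := by
    by_contra hne
    push Not at hne
    refine hM (top_le_iff.1 (le_trans ?_ hNJ))
    rw [show offJoin 𝒪 (T : Subgroup X) = ⊥ from le_bot_iff.1 (sSup_le fun A hA => (hne A hA.1 hA.2).le),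
      Subgroup.normalizer_eq_top]
  obtain ⟨B, hB, hBA, hBm, hBq⟩ := hF.quad A hA ⊤ (fun _ _ _ _ => Subgroup.mem_top _) fun hle => hA1
    ((Subgroup.eq_bot_iff_forall A).2 fun a ha => hinj (MulEquiv.ext fun w => by
      rw [map_one, MulAut.one_apply]; exact hle ha w (Subgroup.mem_top w)))
  have hB1 : B ≠ ⊥ := fun e => hBm (e ▸ bot_le)
  have hBJ : offJoin 𝒪 B = B := le_antisymm (offJoin_le _ _) (le_offJoin hB le_rfl)
  have hover : ∀ H : Subgroup X, H ≠ ⊤ → B ≤ H → H ≤ M := by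
    intro H hH hBH
    obtain ⟨S, hS⟩ := ((isPGroup_of_sq (hF.sq B hB)).comap_subtype (K := H)).exists_le_sylow
    set S' := (S : Subgroup H).map H.subtype
    have hBS : B ≤ S' := fun b hb => ⟨⟨b, hBH hb⟩, hS hb, rfl⟩
    obtain ⟨P, hP⟩ := (S.2.map H.subtype).exists_le_sylow
    obtain ⟨y, hy⟩ := MulAction.exists_smul_eq X T P
    have hPeq : (P : Subgroup X) = (T : Subgroup X).map (MulAut.conj y).toMonoidHom := by rw [← hy]; rfl
    have hBM : B ≤ M := (hBA.trans hAT).trans hTM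
    have hyM : y ∈ M := huniq B (isPGroup_of_sq (hF.sq B hB)) (hBJ.symm ▸ hB1) hBM y
      ((hBS.trans hP).trans (hPeq ▸ Subgroup.map_mono hTM))
    have hPM : (P : Subgroup X) ≤ M := hPeq ▸ (Subgroup.map_mono hTM).trans (hcjM y hyM)
    refine hsub H hH S P hP hPM (fun e => hB1 (le_bot_iff.1 ((le_offJoin hB hBS).trans e.le))) ?_
    intro z hz
    refine huniq B (isPGroup_of_sq (hF.sq B hB)) (hBJ.symm ▸ hB1) hBM z ?_
    refine (le_offJoin hB hBS).trans ?_
    rw [← map_conj_eq_of_mem_normalizer hz.2]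
    exact Subgroup.map_mono (((offJoin_le _ _).trans hP).trans hPM)
  refine ⟨B, hB, hBA.trans hAT, hB1, ?_, ?_, hover⟩
  · exact fun b hb w c hc => hBq c hc b hb w (Subgroup.mem_top w)
  · have h := hF.best B hB ⊥ bot_le
    rwa [Subgroup.card_bot, one_mul, show fix φ (⊥ : Subgroup X) = ⊤ from
      eq_top_iff.2 fun w _ a ha => by rw [Subgroup.mem_bot.1 ha, map_one, MulAut.one_apply],
      Subgroup.card_top] at h

/-- There is no proper subgroup `M` containing the normalizer of the join which absorbs every proper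
subgroup having an offender in a Sylow subgroup inside `M`, if the group has no normal 2-subgroup. -/
theorem step_false (hinj : Function.Injective φ) (h2 : ∀ v : V, v * v = 1) (hR : pCore 2 X = ⊥)
    (hfree : ¬ Involves P3 X) (hF : Fam φ 𝒪) (T : Sylow 2 X) (M : Subgroup X) (hM : M ≠ ⊤)
    (hTM : (T : Subgroup X) ≤ M)
    (hNJ : Subgroup.normalizer (offJoin 𝒪 (T : Subgroup X) : Set X) ≤ M)
    (hsub : ∀ H : Subgroup X, H ≠ ⊤ → ∀ (S : Sylow 2 H) (P : Sylow 2 X),
      (S : Subgroup H).map H.subtype ≤ (P : Subgroup X) → (P : Subgroup X) ≤ M →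
      offJoin 𝒪 ((S : Subgroup H).map H.subtype) ≠ ⊥ →
      H ⊓ Subgroup.normalizer (offJoin 𝒪 ((S : Subgroup H).map H.subtype) : Set X) ≤ M → H ≤ M) : False := by
  have hN : ∀ U : Subgroup X, IsPGroup 2 U → offJoin 𝒪 U ≠ ⊥ → ¬ (offJoin 𝒪 U).Normal := fun U hU hne hn =>
    haveI := hn
    hne (le_bot_iff.1 (hR ▸ le_pCore (hU.to_le (offJoin_le _ _))))
  obtain ⟨B, hB, hBT, hB1, hquad, hbig, hover⟩ := step_over hinj hN hF T M hM hTM hNJ hsub
  exact hfree (Pair.involves (φ := φ) (M := M) (A := B) (Pair.of_core hinj h2 hR (hF.sq B hB) hB1 hquad hbig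
    (hBT.trans hTM) hM hover))

end CfsgLib.S3Free
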