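import Cfsg.Agent.Lib.S3Free.Group
import Cfsg.Agent.Lib.S3Free.Step
import Cfsg.Agent.Lib.ClassTwoSylow
import Cfsg.Agent.Lib.JComp.Comp
import Cfsg.Agent.Lib.PLocal.StableNormal

/-!
An `S₄`-free group of characteristic 2 is generated by the centralizer of `Z(T)` and the normalizer
of `J(T)`.
-/

set_option autoImplicit false
set_option maxHeartbeats 800000

namespace CfsgLib.S3Free

open CfsgLib CfsgLib.Local CfsgLib.OffenderTwo Cfsg
open scoped IsMulCommutative

universe u

variable {G : Type u} [Group G] [Finite G]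

/-- A 2-subgroup containing a largest elementary abelian subgroup has the join of those it contains
as Thompson subgroup. -/
theorem thompson_eq_offJoin' {P A : Subgroup G} (hA : A ∈ maxEl G) (hAP : A ≤ P) :
    thompsonSubgroupOf 2 P = offJoin (maxEl G) P := by
  haveI : Fact (Nat.Prime 2) := ⟨Nat.prime_two⟩
  refine le_antisymm ?_ (sSup_le fun B hB => PLocal.le_thompsonSubgroupOf hB.2 hB.1)
  rw [thompsonSubgroupOf, Subgroup.map_le_iff_le_comap]
  refine sSup_le fun B hB => Subgroup.map_le_iff_le_comap.1 (le_offJoin ?_ (Subgroup.map_subtype_le _))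
  refine ⟨PLocal.isElementary_map (p := 2) _ hB.1, fun D hD => (hA.2 D hD).trans ?_⟩
  rw [Subgroup.card_map_of_injective P.subtype_injective,
    ← Nat.card_congr (Subgroup.subgroupOfEquivOfLe hAP).toEquiv]
  refine hB.2 _ ⟨?_, fun x hx => Subtype.ext (hA.1.2 _ hx)⟩
  haveI := hA.1.1
  exact ⟨⟨fun a b => Subtype.ext (Subtype.ext (Subgroup.mul_comm_of_mem_isMulCommutative A a.2 b.2))⟩⟩

theorem offJoin_image_sub (C : Subgroup G) [C.Normal] {S : Subgroup G} (hS : IsPGroup 2 S)
    (hmax : ∀ P : Subgroup G, IsPGroup 2 P → S ≤ P → P ≤ C ⊔ S → P = S) :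
    offJoin ((fun A => A.map (QuotientGroup.mk' C)) '' maxEl G) (S.map (QuotientGroup.mk' C)) =
      (offJoin (maxEl G) S).map (QuotientGroup.mk' C) := by
  haveI : Fact (Nat.Prime 2) := ⟨Nat.prime_two⟩
  set π := QuotientGroup.mk' C
  refine le_antisymm ?_ (map_offJoin_le π (𝒪 := maxEl G) (𝒪' := (fun A : Subgroup G => A.map π) '' maxEl G) (fun A hA => ⟨A, hA, rfl⟩) _)
  refine sSup_le ?_
  rintro _ ⟨⟨A, hA, rfl⟩, hAT⟩
  have hAC : A ≤ C ⊔ S := fun a ha => by
    obtain ⟨t, ht, he⟩ := hAT ⟨a, ha, rfl⟩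
    have hk : a * t⁻¹ ∈ C := (QuotientGroup.eq_one_iff _).1 (by
      show π (a * t⁻¹) = 1
      rw [map_mul, map_inv, ← he, mul_inv_cancel])
    simpa using (C ⊔ S).mul_mem (Subgroup.mem_sup_left hk) (Subgroup.mem_sup_right ht)
  obtain ⟨c, hc, P, hP, hPle, hTP, hAP⟩ := exists_conj_isPGroup (p := 2) hS
    (PLocal.isPGroup_elementary hA.1) le_sup_right hAC
  rw [hmax P hP hTP hPle] at hAP
  obtain ⟨k, hk, t, ht, rfl⟩ := Subgroup.mem_sup_of_normal_left.1 hc
  have hA' := le_offJoin (maxEl_conj (k * t) hA) hAP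
  rintro _ ⟨a, ha, rfl⟩
  refine ⟨t⁻¹ * (k * t * a * (k * t)⁻¹) * t, ?_, ?_⟩
  · have hm : k * t * a * (k * t)⁻¹ ∈ offJoin (maxEl G) S := hA' ⟨a, ha, rfl⟩
    have htN : t⁻¹ ∈ Subgroup.normalizer (offJoin (maxEl G) S : Set G) := by
      refine mem_normalizer_of_map_conj_eq (Subgroup.eq_of_le_of_card_ge ?_
        (Subgroup.card_map_of_injective (MulAut.conj t⁻¹).injective).ge)
      refine (map_offJoin_le _ (𝒪' := maxEl G) (fun A hA => maxEl_conj t⁻¹ hA) _).trans (offJoin_mono _ ?_)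
      exact (map_conj_eq_of_mem_normalizer (Subgroup.le_normalizer (S.inv_mem ht))).le
    exact SetLike.mem_coe.2 (by simpa only [inv_inv] using (Subgroup.mem_normalizer_iff.1 htN _).1 hm)
  · have hk1 : π k = 1 := (QuotientGroup.eq_one_iff k).2 hk
    simp [map_mul, map_inv, hk1, mul_assoc]

theorem char_two_overgroup (hcon : Subgroup.centralizer (pCore 2 G : Set G) ≤ pCore 2 G) {H : Subgroup G}
    (hH : pCore 2 G ≤ H) : Subgroup.centralizer (pCore 2 H : Set H) ≤ pCore 2 H := by
  haveI : ((pCore 2 G).subgroupOf H).Normal := Subgroup.Normal.subgroupOf inferInstance H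
  have hQ : (pCore 2 G).subgroupOf H ≤ pCore 2 H :=
    le_pCore ((isPGroup_pCore 2).comap_of_injective H.subtype H.subtype_injective)
  intro x hx
  refine hQ (hcon fun q hq => ?_)
  exact congrArg Subtype.val (hx ⟨q, hH hq⟩ (hQ hq))

theorem generation : ∀ (n : ℕ) (G : Type u) [Group G] [Finite G], Nat.card G = n →
    ¬ Involves (Equiv.Perm (Fin 4)) G → Subgroup.centralizer (pCore 2 G : Set G) ≤ pCore 2 G →
    ∀ T : Sylow 2 G, Subgroup.centralizer
        (((T : Subgroup G) ⊓ Subgroup.centralizer ((T : Subgroup G) : Set G) : Subgroup G) : Set G) ⊔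
      Subgroup.normalizer (thompsonSubgroupOf 2 (T : Subgroup G) : Set G) = ⊤ := by
  intro n
  induction n using Nat.strong_induction_on with
  | _ n ih =>
  intro G _ _ hn hfree hcon T
  haveI : Fact (Nat.Prime 2) := ⟨Nat.prime_two⟩
  set Q := pCore 2 G
  have hQT : Q ≤ (T : Subgroup G) := pCore_le_sylow T
  set Z := (T : Subgroup G) ⊓ Subgroup.centralizer ((T : Subgroup G) : Set G) with hZdef
  set M := Subgroup.centralizer (Z : Set G) ⊔
    Subgroup.normalizer (thompsonSubgroupOf 2 (T : Subgroup G) : Set G) with hMdef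
  by_contra hM
  have hTM : (T : Subgroup G) ≤ M :=
    fun t ht => (le_sup_left : _ ≤ M) (show t ∈ Subgroup.centralizer (Z : Set G) from fun z hz => (hz.2 t ht).symm)
  have hnJ : ∀ g : G, g ∈ Subgroup.normalizer ((T : Subgroup G) : Set G) →
      g ∈ Subgroup.normalizer (thompsonSubgroupOf 2 (T : Subgroup G) : Set G) := by
    intro g hg
    refine mem_normalizer_of_map_conj_eq ?_
    rw [← JComp.thompsonOf_map (f := (MulAut.conj g).toMonoidHom) (MulAut.conj g).injective,
      map_conj_eq_of_mem_normalizer hg]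
  -- the module
  have hZQ : ∀ z ∈ Z, z ∈ Q ⊓ Subgroup.centralizer (Q : Set G) := fun z hz =>
    ⟨hcon fun q hq => hz.2 q (hQT hq), fun q hq => hz.2 q (hQT hq)⟩
  set W := Subgroup.normalClosure (Z : Set G) with hW
  have hWQ : W ≤ Q ⊓ Subgroup.centralizer (Q : Set G) := Subgroup.normalClosure_le_normal fun z hz => hZQ z hz
  have hWc : ∀ a ∈ W, ∀ b ∈ W, a * b = b * a := fun a ha b hb => (hWQ hb).2 a (hWQ ha).1
  have hW2 : IsPGroup 2 W := (isPGroup_pCore 2).to_le (hWQ.trans inf_le_left)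
  let V : Subgroup G :=
    { carrier := {x | x ∈ W ∧ x ^ 2 = 1}
      one_mem' := ⟨W.one_mem, one_pow 2⟩
      mul_mem' := fun {a b} ha hb => ⟨W.mul_mem ha.1 hb.1, by
        rw [(show Commute a b from hWc a ha.1 b hb.1).mul_pow, ha.2, hb.2, one_mul]⟩
      inv_mem' := fun {a} ha => ⟨W.inv_mem ha.1, by rw [inv_pow, ha.2, inv_one]⟩ }
  have hVW : V ≤ W := fun x hx => hx.1
  haveI hVn : V.Normal := ⟨fun x hx g => ⟨(inferInstance : W.Normal).conj_mem x hx.1 g, by
    rw [conj_pow, hx.2, mul_one, mul_inv_cancel]⟩⟩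
  haveI hVc : IsMulCommutative V := ⟨⟨fun a b => Subtype.ext (hWc a a.2.1 b b.2.1)⟩⟩
  have hV : IsElementaryAbelian 2 V := ⟨hVc, fun x hx => hx.2⟩
  set D := Subgroup.centralizer (W : Set G) with hD
  haveI : D.Normal := Subgroup.normal_centralizer
  have hDZ : D ≤ Subgroup.centralizer (Z : Set G) := Subgroup.centralizer_le Subgroup.subset_normalClosure
  have hQD : Q ≤ D := fun q hq w hw => ((hWQ hw).2 q hq).symm
  have hcoreD : pCore 2 (G ⧸ D) = ⊥ := by
    set π := QuotientGroup.mk' D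
    have hT' : pCore 2 (G ⧸ D) ≤ (T : Subgroup G).map π := by
      rw [← Sylow.coe_mapSurjective (QuotientGroup.mk'_surjective D) T]
      exact pCore_le_sylow _
    set R := (pCore 2 (G ⧸ D)).comap π
    have hRZ : R ≤ Subgroup.centralizer (Z : Set G) := by
      intro x hx
      obtain ⟨t, ht, he⟩ := hT' hx
      have h1 : x * t⁻¹ ∈ D := (QuotientGroup.eq_one_iff _).1 (by
        show π (x * t⁻¹) = 1
        rw [map_mul, map_inv, ← he, mul_inv_cancel])
      simpa using Subgroup.mul_mem _ (hDZ h1) (show t ∈ Subgroup.centralizer (Z : Set G) from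
        fun z hz => (hz.2 t ht).symm)
    haveI : R.Normal := Subgroup.Normal.comap inferInstance π
    haveI : (Subgroup.centralizer (R : Set G)).Normal := Subgroup.normal_centralizer
    have hWR : W ≤ Subgroup.centralizer (R : Set G) := Subgroup.normalClosure_le_normal fun z hz r hr =>
      ((hRZ hr) z hz).symm
    refine (Subgroup.eq_bot_iff_forall _).2 fun y hy => ?_
    obtain ⟨x, rfl⟩ := QuotientGroup.mk'_surjective D y
    exact (QuotientGroup.eq_one_iff x).2 fun w hw => ((hWR hw) x hy).symm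
  set C := Subgroup.centralizer (V : Set G) with hCdef
  haveI : C.Normal := Subgroup.normal_centralizer
  have hCD : C = D := by
    refine le_antisymm ?_ (Subgroup.centralizer_le hVW)
    set π := QuotientGroup.mk' D
    haveI : (C.map π).Normal := Subgroup.Normal.map inferInstance π (QuotientGroup.mk'_surjective D)
    have h2 : IsPGroup 2 (C.map π) := by
      rintro ⟨_, x, hx, rfl⟩
      obtain ⟨k, m, hm2, hkm⟩ := Nat.exists_eq_pow_mul_and_not_dvd (orderOf_pos x).ne' 2 (by norm_num)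
      refine ⟨k, Subtype.ext ?_⟩
      show (π x) ^ 2 ^ k = 1
      rw [← map_pow]
      refine (QuotientGroup.eq_one_iff _).2 ?_
      have hy : x ^ 2 ^ k ∈ C := C.pow_mem hx _
      have hodd : Odd (orderOf (x ^ 2 ^ k)) := by
        rw [orderOf_pow' x (pow_ne_zero k two_ne_zero), hkm, Nat.gcd_mul_right_left,
          Nat.mul_div_cancel_left m (Nat.two_pow_pos k)]
        exact Nat.odd_iff.2 (by omega)
      intro w hw
      have h := ClassTwoSylow.fixes_abelian_two hW2 hWc hodd
        (fun a ha => (inferInstance : W.Normal).conj_mem a ha _)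
        (fun a ha h2 => mul_inv_eq_iff_eq_mul.2 (hy a ⟨ha, by rw [sq]; exact h2⟩).symm) w hw
      exact (mul_inv_eq_iff_eq_mul.1 h).symm
    have h3 := le_pCore h2
    rw [hcoreD] at h3
    exact fun x hx => (QuotientGroup.eq_one_iff x).1 (Subgroup.mem_bot.1 (h3 ⟨x, hx, rfl⟩))
  have hCM : C ≤ M := hCD.le.trans (hDZ.trans le_sup_left)
  have hQC : Q ≤ C := hQD.trans hCD.ge
  have hcore : pCore 2 (G ⧸ C) = ⊥ := by
    clear_value C; subst hCD; exact hcoreD
  let π := QuotientGroup.mk' C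
  have hπ : Function.Surjective π := QuotientGroup.mk'_surjective C
  let ρ : G →* MulAut V := MulAut.conjNormal
  have hρC : C ≤ ρ.ker := fun c hc => MulEquiv.ext fun v => Subtype.ext (by
    show ((MulAut.conjNormal c v : V) : G) = v
    rw [MulAut.conjNormal_apply, mul_inv_eq_iff_eq_mul]
    exact (hc v v.2).symm)
  let φ : G ⧸ C →* MulAut V := QuotientGroup.lift C ρ hρC
  have hval : ∀ g (v : V), ((φ (π g) v : V) : G) = g * v * g⁻¹ := fun g v => MulAut.conjNormal_apply g v
  have hinj : Function.Injective φ := by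
    refine (injective_iff_map_eq_one φ).2 fun y hy => ?_
    obtain ⟨g, rfl⟩ := hπ y
    refine (QuotientGroup.eq_one_iff g).2 fun v hv => ?_
    have := congrArg Subtype.val (show φ (π g) ⟨v, hv⟩ = ⟨v, hv⟩ by rw [hy]; rfl)
    rw [hval] at this
    exact (mul_inv_eq_iff_eq_mul.1 this).symm
  have hF := fam_image hV φ hval
  set T' : Sylow 2 (G ⧸ C) := T.mapSurjective hπ
  have hT' : (T' : Subgroup (G ⧸ C)) = (T : Subgroup G).map π := Sylow.coe_mapSurjective hπ T
  have hMcomap : (M.map π).comap π = M := by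
    rw [Subgroup.comap_map_eq, QuotientGroup.ker_mk', sup_eq_left.2 hCM]
  refine step_false hinj (fun v => Subtype.ext (by rw [Subgroup.coe_mul, ← pow_two]; exact hV.2 v v.2))
    hcore (not_involves_quotient hfree V ((isPGroup_pCore 2).to_le (hVW.trans (hWQ.trans inf_le_left)))) hF T'
    (M.map π) (fun e => hM ?_) (hT' ▸ Subgroup.map_mono hTM) ?_ ?_
  · rw [← hMcomap, e, Subgroup.comap_top]
  · rw [hT', offJoin_image C T, ← Subgroup.map_comap_eq_self_of_surjective hπ
      (Subgroup.normalizer (((thompsonSubgroupOf 2 (T : Subgroup G)).map π : Subgroup (G ⧸ C)) : Set (G ⧸ C)))]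
    exact Subgroup.map_mono ((comap_normalizer_le C T).trans (sup_le hCM le_sup_right))
  intro Hb hHb S P hSP hPM hne hN
  set S' := (S : Subgroup Hb).map Hb.subtype with hS'def
  set H := Hb.comap π
  have hCH : C ≤ H := fun c hc => by
    show π c ∈ Hb
    rw [show π c = 1 from (QuotientGroup.eq_one_iff c).2 hc]; exact Hb.one_mem
  have hHtop : H ≠ ⊤ := fun e => hHb (by
    rw [← Subgroup.map_comap_eq_self_of_surjective hπ Hb]
    show H.map π = ⊤
    rw [e]; exact Subgroup.map_top_of_surjective π hπ)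
  -- the Sylow subgroup over `P`
  obtain ⟨y, hy⟩ := MulAction.exists_smul_eq (G ⧸ C) T' P
  obtain ⟨g, rfl⟩ := hπ y
  set P0 : Sylow 2 G := g • T
  have hP0 : (P0 : Subgroup G) = (T : Subgroup G).map (MulAut.conj g).toMonoidHom := rfl
  have hP0map : (P0 : Subgroup G).map π = (P : Subgroup (G ⧸ C)) := by
    rw [hP0, ← hy, show ((π g • T' : Sylow 2 (G ⧸ C)) : Subgroup (G ⧸ C)) =
      (T' : Subgroup (G ⧸ C)).map (MulAut.conj (π g)).toMonoidHom from rfl, hT', Subgroup.map_map, Subgroup.map_map]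
    congr 1
  have hP0M : (P0 : Subgroup G) ≤ M := fun x hx => hMcomap.le (hPM (hP0map.le ⟨x, hx, rfl⟩))
  have hgM : g ∈ M := by
    obtain ⟨c, hc, R, hR, -, hTR, hcR⟩ := exists_conj_isPGroup (p := 2) T.2 P0.2 hTM hP0M
    rw [T.3 hR hTR] at hcR
    have hcg : c * g ∈ Subgroup.normalizer ((T : Subgroup G) : Set G) := by
      refine mem_normalizer_of_map_conj_eq (Subgroup.eq_of_le_of_card_ge ?_
        (Subgroup.card_map_of_injective (MulAut.conj (c * g)).injective).ge)
      rw [← map_conj_mul, ← hP0]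
      exact hcR
    simpa using M.mul_mem (M.inv_mem hc) ((le_sup_right : _ ≤ M) (hnJ _ hcg))
  set K := S'.comap π
  have hCK : C ≤ K := fun c hc => by
    show π c ∈ S'
    rw [show π c = 1 from (QuotientGroup.eq_one_iff c).2 hc]; exact S'.one_mem
  set S2 := K ⊓ (P0 : Subgroup G)
  have hS2map : S2.map π = S' := by
    refine le_antisymm (Subgroup.map_le_iff_le_comap.2 inf_le_left) fun z hz => ?_
    obtain ⟨x, hx, rfl⟩ := hP0map.ge (hSP hz)
    exact ⟨x, ⟨hz, hx⟩, rfl⟩
  have hS2H : S2 ≤ H := fun x hx => (Subgroup.map_subtype_le _ : S' ≤ Hb) hx.1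
  have hS2p : IsPGroup 2 S2 := P0.2.to_le inf_le_right
  obtain ⟨PC, hPC⟩ := PLocal.exists_sylow_inf P0 C
  have hKeq : ∀ R : Subgroup G, IsPGroup 2 R → S2 ≤ R → R ≤ H → R = S2 := by
    intro R hR hle hRH
    have hRK : R ≤ K := by
      have h1 : R.map π ≤ Hb := Subgroup.map_le_iff_le_comap.2 hRH
      have h2 : (R.map π).subgroupOf Hb = (S : Subgroup Hb) :=
        S.3 ((hR.map π).comap_of_injective Hb.subtype Hb.subtype_injective) fun s hs => by
          show (s : G ⧸ C) ∈ R.map π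
          exact Subgroup.map_mono hle (hS2map.ge ⟨s, hs, rfl⟩)
      intro x hx
      exact ⟨⟨π x, h1 ⟨x, hx, rfl⟩⟩, h2.le ⟨x, hx, rfl⟩, rfl⟩
    refine le_antisymm (fun x hx => ?_) hle
    obtain ⟨s, hs, he⟩ := hS2map.ge (show π x ∈ S' from hRK hx)
    have hc : x * s⁻¹ ∈ R ⊓ C := ⟨R.mul_mem hx (R.inv_mem (hle hs)), (QuotientGroup.eq_one_iff _).1 (by
      show π (x * s⁻¹) = 1
      rw [map_mul, map_inv, ← he, mul_inv_cancel])⟩
    have h3 : (R ⊓ C).subgroupOf C = (PC : Subgroup C) :=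
      PC.3 ((hR.to_le inf_le_left).comap_of_injective C.subtype C.subtype_injective) fun p hp => by
        have : (p : G) ∈ (P0 : Subgroup G) ⊓ C := hPC.le ⟨p, hp, rfl⟩
        exact ⟨hle ⟨hCK p.2, this.1⟩, p.2⟩
    have h4 : x * s⁻¹ ∈ (P0 : Subgroup G) ⊓ C := hPC.le ⟨⟨_, hc.2⟩, h3.le hc, rfl⟩
    simpa using S2.mul_mem (show x * s⁻¹ ∈ S2 from ⟨hCK h4.2, h4.1⟩) hs
  let SH : Sylow 2 H :=
    { toSubgroup := S2.subgroupOf H
      isPGroup' := hS2p.comap_of_injective H.subtype H.subtype_injective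
      is_maximal' := fun {R} hR hle => by
        have h1 := hKeq (R.map H.subtype) (hR.map _)
          (fun x hx => ⟨⟨x, hS2H hx⟩, hle hx, rfl⟩) (Subgroup.map_subtype_le _)
        rw [← Subgroup.comap_map_eq_self_of_injective H.subtype_injective R, h1]
        rfl }
  have hSH : (SH : Subgroup H).map H.subtype = S2 := Subgroup.map_subgroupOf_eq_of_le hS2H
  -- the largest elementary subgroup inside
  have himg : offJoin ((fun A => A.map π) '' maxEl G) S' = (offJoin (maxEl G) S2).map π := by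
    rw [← hS2map]
    exact offJoin_image_sub C hS2p fun R hR h1 h2 => hKeq R hR h1 (h2.trans (sup_le hCH hS2H))
  obtain ⟨A, hA, hAS⟩ : ∃ A, A ∈ maxEl G ∧ A ≤ S2 := by
    by_contra hno
    push Not at hno
    refine hne ?_
    rw [himg, show offJoin (maxEl G) S2 = ⊥ from le_bot_iff.1 (sSup_le fun B hB => absurd hB.2 (hno B hB.1)),
      Subgroup.map_bot]
  have hJ := thompson_eq_offJoin' hA hAS
  have hgen := ih (Nat.card H) (hn ▸ lt_of_le_of_ne (Subgroup.card_le_card_group H)
      fun e => hHtop (Subgroup.eq_top_of_card_eq H e)) H rfl (fun hi => hfree (ThompsonComplement.involves_of_subgroup hi))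
    (char_two_overgroup hcon (hQC.trans hCH)) SH
  have hmap := congrArg (Subgroup.map H.subtype) hgen
  rw [Subgroup.map_sup, ← MonoidHom.range_eq_map, Subgroup.range_subtype] at hmap
  have hHM : H ≤ M := by
    refine hmap.ge.trans (sup_le ?_ ?_)
    · rintro _ ⟨x, hx, rfl⟩
      -- the centre of `P0` lies in `S2`
      have hx' : g⁻¹ * (x : G) * g ∈ Subgroup.centralizer (Z : Set G) := by
        intro z hz
        have hzP : g * z * g⁻¹ ∈ (P0 : Subgroup G) := hP0.ge ⟨z, hz.1, rfl⟩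
        have hzc : ∀ p ∈ (P0 : Subgroup G), p * (g * z * g⁻¹) = g * z * g⁻¹ * p := by
          intro p hp
          obtain ⟨t, ht, rfl⟩ := hP0.le hp
          show g * t * g⁻¹ * (g * z * g⁻¹) = g * z * g⁻¹ * (g * t * g⁻¹)
          calc g * t * g⁻¹ * (g * z * g⁻¹) = g * (t * z) * g⁻¹ := by group
            _ = _ := by rw [hz.2 t ht]; group
        have hzS : g * z * g⁻¹ ∈ S2 :=
          ⟨hCK (hQC ((inferInstance : Q.Normal).conj_mem z (hZQ z hz).1 g)), hzP⟩
        have h1 := congrArg Subtype.val (hx ⟨_, hS2H hzS⟩ ⟨hzS, fun p hp => Subtype.ext (hzc p hp.2)⟩)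
        change g * z * g⁻¹ * (x : G) = (x : G) * (g * z * g⁻¹) at h1
        calc z * (g⁻¹ * x * g) = g⁻¹ * (g * z * g⁻¹ * x) * g := by group
          _ = _ := by rw [h1]; group
      simpa [mul_assoc] using M.mul_mem (M.mul_mem hgM ((le_sup_left : _ ≤ M) hx')) (M.inv_mem hgM)
    · rintro _ ⟨x, hx, rfl⟩
      refine hMcomap.le (hN ⟨x.2, ?_⟩)
      rw [himg, ← hJ]
      refine Subgroup.le_normalizer_map π ⟨_, ?_, rfl⟩
      rw [← hSH, JComp.thompsonOf_map (f := H.subtype) H.subtype_injective]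
      exact Subgroup.le_normalizer_map H.subtype ⟨x, hx, rfl⟩
  rw [← Subgroup.map_comap_eq_self_of_surjective hπ Hb]
  exact Subgroup.map_mono hHM

/-- Generation in an `S₄`-free group of characteristic 2. -/
theorem centralizer_center_sup_normalizer (hfree : ¬ Involves (Equiv.Perm (Fin 4)) G)
    (hcon : Subgroup.centralizer (pCore 2 G : Set G) ≤ pCore 2 G) (T : Sylow 2 G) :
    Subgroup.centralizer
        (((T : Subgroup G) ⊓ Subgroup.centralizer ((T : Subgroup G) : Set G) : Subgroup G) : Set G) ⊔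
      Subgroup.normalizer (thompsonSubgroupOf 2 (T : Subgroup G) : Set G) = ⊤ :=
  generation _ G rfl hfree hcon T

end CfsgLib.S3Free
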