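import Cfsg.Agent.Lib.S3Free.Pair
import Cfsg.Agent.Lib.Quadratic.Stable
import Cfsg.Agent.Lib.WeakClosed.Reduce

/-!
An `S₃`-free group acting on an elementary abelian 2-group is generated by the stabilizer of the fixed points of
a Sylow 2-subgroup and the normalizer of the join of its best offenders.
-/

set_option autoImplicit false
set_option linter.unusedSectionVars false

namespace CfsgLib.S3Free

open CfsgLib CfsgLib.Local CfsgLib.OffenderTwo Cfsg

universe u v

variable {X : Type u} [Group X] {V : Type v} [CommGroup V]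

theorem involves_of_hom {Y : Type*} [Group Y] (f : X →* Y) (hf : Function.Surjective f)
    (h : Involves P3 Y) : Involves P3 X := by
  obtain ⟨K, R, hR, ⟨e⟩⟩ := h
  obtain ⟨g', hg'⟩ := Quadratic.exists_surjective_comap f hf (L := K)
    (e.toMonoidHom.comp (QuotientGroup.mk' _)) (e.surjective.comp (QuotientGroup.mk'_surjective _))
  exact QdSection.involves_of_surjective _ g' hg'

theorem involves_of_sub {H : Subgroup X} (h : Involves P3 H) : Involves P3 X := by
  obtain ⟨K, R, hR, ⟨e⟩⟩ := h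
  obtain ⟨g', hg'⟩ := Quadratic.exists_surjective_map H.subtype H.subtype_injective (L := K)
    (e.toMonoidHom.comp (QuotientGroup.mk' _)) (e.surjective.comp (QuotientGroup.mk'_surjective _))
  exact QdSection.involves_of_surjective _ g' hg'

/-- The elements fixing every member of `W`. -/
def stab (φ : X →* MulAut V) (W : Subgroup V) : Subgroup X where
  carrier := {x | ∀ w ∈ W, φ x w = w}
  one_mem' := fun w _ => by rw [map_one, MulAut.one_apply]
  mul_mem' := fun {x y} hx hy w hw => by rw [map_mul, MulAut.mul_apply, hy w hw, hx w hw]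
  inv_mem' := fun {x} hx w hw => by
    conv_lhs => rw [← hx w hw]
    rw [map_inv, MulAut.inv_apply_self]

theorem stab_anti {φ : X →* MulAut V} {W W' : Subgroup V} (h : W ≤ W') : stab φ W' ≤ stab φ W :=
  fun _ hx w hw => hx w (h hw)

theorem le_stab_fix (φ : X →* MulAut V) (A : Subgroup X) : A ≤ stab φ (fix φ A) :=
  fun _ ha _ hw => hw _ ha

/-- A conjugation-invariant family of elementary best offenders with quadratic members. -/
structure Fam (φ : X →* MulAut V) (𝒪 : Set (Subgroup X)) : Prop where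
  conj : ∀ g : X, ∀ A ∈ 𝒪, A.map (MulAut.conj g).toMonoidHom ∈ 𝒪
  sq : ∀ A ∈ 𝒪, ∀ a ∈ A, a * a = 1
  best : ∀ A ∈ 𝒪, ∀ B : Subgroup X, B ≤ A →
    Nat.card B * Nat.card (fix φ B) ≤ Nat.card A * Nat.card (fix φ A)
  quad : ∀ A ∈ 𝒪, ∀ W : Subgroup V, (∀ a ∈ A, ∀ w ∈ W, φ a w ∈ W) → ¬ A ≤ stab φ W →
    ∃ B ∈ 𝒪, B ≤ A ∧ ¬ B ≤ stab φ W ∧ ∀ b ∈ B, ∀ c ∈ B, ∀ w ∈ W, φ b (φ c w / w) = φ c w / w

/-- The join of the members of the family inside `T`. -/
def offJoin (𝒪 : Set (Subgroup X)) (T : Subgroup X) : Subgroup X := sSup {A | A ∈ 𝒪 ∧ A ≤ T}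

theorem offJoin_le (𝒪 : Set (Subgroup X)) (T : Subgroup X) : offJoin 𝒪 T ≤ T :=
  sSup_le fun _ hA => hA.2

theorem le_offJoin {𝒪 : Set (Subgroup X)} {T A : Subgroup X} (hA : A ∈ 𝒪) (hAT : A ≤ T) :
    A ≤ offJoin 𝒪 T :=
  le_sSup ⟨hA, hAT⟩

theorem offJoin_mono (𝒪 : Set (Subgroup X)) {T T' : Subgroup X} (h : T ≤ T') : offJoin 𝒪 T ≤ offJoin 𝒪 T' :=
  sSup_le fun _ hA => le_offJoin hA.1 (hA.2.trans h)

theorem offJoin_idem (𝒪 : Set (Subgroup X)) (T : Subgroup X) : offJoin 𝒪 (offJoin 𝒪 T) = offJoin 𝒪 T :=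
  le_antisymm (offJoin_le _ _) (sSup_le fun _ hA => le_offJoin hA.1 (le_offJoin hA.1 hA.2))

theorem map_offJoin_le {Y : Type*} [Group Y] (f : X →* Y) {𝒪 : Set (Subgroup X)} {𝒪' : Set (Subgroup Y)}
    (h : ∀ A ∈ 𝒪, A.map f ∈ 𝒪') (T : Subgroup X) : (offJoin 𝒪 T).map f ≤ offJoin 𝒪' (T.map f) := by
  rw [Subgroup.map_le_iff_le_comap]
  exact sSup_le fun A hA => Subgroup.map_le_iff_le_comap.1
    (le_offJoin (h A hA.1) (Subgroup.map_mono hA.2))

variable {φ : X →* MulAut V} {𝒪 : Set (Subgroup X)}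

theorem Fam.map_offJoin (h : Fam φ 𝒪) (g : X) (T : Subgroup X) :
    (offJoin 𝒪 T).map (MulAut.conj g).toMonoidHom = offJoin 𝒪 (T.map (MulAut.conj g).toMonoidHom) := by
  refine le_antisymm (map_offJoin_le _ (h.conj g) T) (sSup_le fun A hA a ha => mem_map_conj.2 ?_)
  have hA' : A.map (MulAut.conj g⁻¹).toMonoidHom ≤ T := map_conj_le fun x hx => by
    simpa using mem_map_conj.1 (hA.2 hx)
  exact le_offJoin (h.conj g⁻¹ A hA.1) hA' ⟨a, ha, by simp⟩

theorem Fam.normalizer_le (h : Fam φ 𝒪) (T : Subgroup X) :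
    Subgroup.normalizer (T : Set X) ≤ Subgroup.normalizer (offJoin 𝒪 T : Set X) := fun g hg =>
  mem_normalizer_of_map_conj_eq (by rw [h.map_offJoin, map_conj_eq_of_mem_normalizer hg])

variable [Finite X]

/-- A Sylow subgroup containing the join of another Sylow subgroup has the same join. -/
theorem Fam.offJoin_eq (h : Fam φ 𝒪) {T S : Sylow 2 X} (hle : offJoin 𝒪 (T : Subgroup X) ≤ (S : Subgroup X)) :
    offJoin 𝒪 (S : Subgroup X) = offJoin 𝒪 (T : Subgroup X) := by
  obtain ⟨g, rfl⟩ := MulAction.exists_smul_eq X T S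
  refine (Subgroup.eq_of_le_of_card_ge ((offJoin_idem 𝒪 _).ge.trans (offJoin_mono 𝒪 hle)) ?_).symm
  rw [show ((g • T : Sylow 2 X) : Subgroup X) = (T : Subgroup X).map (MulAut.conj g).toMonoidHom from rfl,
    ← h.map_offJoin, Subgroup.card_map_of_injective (MulAut.conj g).injective]

theorem card_map_mul_inf {Y : Type*} [Group Y] (f : X →* Y) (H : Subgroup X) :
    Nat.card (H.map f) * Nat.card ↥(H ⊓ f.ker) = Nat.card H := by
  have h1 := Subgroup.card_mul_index ((f.comp H.subtype).ker)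
  rw [Subgroup.index_ker, MonoidHom.range_comp, Subgroup.range_subtype] at h1
  rw [mul_comm, ← h1]
  congr 1
  rw [← Subgroup.card_map_of_injective (H.subtype_injective) (K := (f.comp H.subtype).ker)]
  congr 2
  ext x
  constructor
  · rintro ⟨hxH, hxf⟩; exact ⟨⟨x, hxH⟩, hxf, rfl⟩
  · rintro ⟨⟨y, hy⟩, hy', rfl⟩; exact ⟨hy, hy'⟩

/-- The inductive statement. -/
def GenGood (X : Type u) [Group X] : Prop :=
  ∀ (V : Type v) [CommGroup V] [Finite V] (φ : X →* MulAut V) (𝒪 : Set (Subgroup X)) (T : Sylow 2 X),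
    (∀ v : V, v * v = 1) → ¬ Involves P3 X → Fam φ 𝒪 →
      stab φ (fix φ (T : Subgroup X)) ⊔ Subgroup.normalizer (offJoin 𝒪 (T : Subgroup X) : Set X) = ⊤

section step

variable [Finite V] (ih : ∀ (Y : Type u) [Group Y] [Finite Y], Nat.card Y < Nat.card X → GenGood.{u, v} Y)
  (h2 : ∀ v : V, v * v = 1) (hfree : ¬ Involves P3 X) (hF : Fam φ 𝒪)

include ih h2 hfree hF

/-- Reduction by a kernel on an invariant subgroup. -/
theorem gen_of_kernel (T : Sylow 2 X) (W : Subgroup V) (hW : ∀ x : X, ∀ w ∈ W, φ x w ∈ W)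
    (hT : fix φ (T : Subgroup X) ≤ W) {K : Subgroup X} [K.Normal] (hK : K ≠ ⊥) (hKW : K ≤ stab φ W) :
    stab φ (fix φ (T : Subgroup X)) ⊔ Subgroup.normalizer (offJoin 𝒪 (T : Subgroup X) : Set X) = ⊤ := by
  haveI : Fact (Nat.Prime 2) := ⟨Nat.prime_two⟩
  let ρ : X →* MulAut W :=
    MonoidHom.mk' (fun x =>
      { toFun := fun w => ⟨φ x w, hW x w w.2⟩
        invFun := fun w => ⟨φ x⁻¹ w, hW x⁻¹ w w.2⟩
        left_inv := fun w => Subtype.ext (by show φ x⁻¹ (φ x w) = w; rw [map_inv, MulAut.inv_apply_self])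
        right_inv := fun w => Subtype.ext (by show φ x (φ x⁻¹ w) = w; rw [map_inv, MulAut.apply_inv_self])
        map_mul' := fun a b => Subtype.ext (map_mul (φ x) _ _) })
      (fun x y => MulEquiv.ext fun w => Subtype.ext (by
        show φ (x * y) w = φ x (φ y w)
        rw [map_mul, MulAut.mul_apply]))
  have hρK : K ≤ ρ.ker := fun k hk => MulEquiv.ext fun w => Subtype.ext (hKW hk w w.2)
  let π := QuotientGroup.mk' K
  let ψ : X ⧸ K →* MulAut W := QuotientGroup.lift K ρ hρK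
  have hπ : Function.Surjective π := QuotientGroup.mk'_surjective K
  have hψ : ∀ x (w : W), ((ψ (π x) w : W) : V) = φ x w := fun x w => rfl
  have hfix : ∀ B : Subgroup X, fix ψ (B.map π) = (fix φ B).subgroupOf W := by
    intro B
    ext w
    rw [Subgroup.mem_subgroupOf]
    constructor
    · intro hw b hb
      exact congrArg Subtype.val (hw (π b) ⟨b, hb, rfl⟩)
    · rintro hw _ ⟨b, hb, rfl⟩
      exact Subtype.ext (hw b hb)
  have hcard : ∀ B : Subgroup X, Nat.card (fix ψ (B.map π)) = Nat.card ↥(W ⊓ fix φ B) := fun B => by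
    rw [hfix, ← Subgroup.card_map_of_injective W.subtype_injective, Subgroup.subgroupOf_map_subtype, inf_comm]
  set 𝒪' : Set (Subgroup (X ⧸ K)) := (fun A => A.map π) '' 𝒪
  have hF' : Fam ψ 𝒪' := by
    refine ⟨?_, ?_, ?_, ?_⟩
    · rintro g _ ⟨A, hA, rfl⟩
      obtain ⟨x, rfl⟩ := hπ g
      refine ⟨_, hF.conj x A hA, ?_⟩
      ext z
      constructor
      · rintro ⟨_, ⟨a, ha, rfl⟩, rfl⟩
        exact ⟨π a, ⟨a, ha, rfl⟩, by simp⟩
      · rintro ⟨_, ⟨a, ha, rfl⟩, rfl⟩
        exact ⟨_, ⟨a, ha, rfl⟩, by simp⟩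
    · rintro _ ⟨A, hA, rfl⟩ _ ⟨a, ha, rfl⟩
      rw [← map_mul, hF.sq A hA a ha, map_one]
    · rintro _ ⟨A, hA, rfl⟩ B' hB'
      set B := A ⊓ B'.comap π
      have hBmap : B.map π = B' := by
        refine le_antisymm ?_ fun y hy => ?_
        · rw [Subgroup.map_le_iff_le_comap]; exact inf_le_right
        · obtain ⟨a, ha, rfl⟩ := hB' hy
          exact ⟨a, ⟨ha, hy⟩, rfl⟩
      have hker : B ⊓ π.ker = A ⊓ π.ker := by
        refine le_antisymm (inf_le_inf_right _ inf_le_left) fun a ha => ⟨⟨ha.1, ?_⟩, ha.2⟩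
        show π a ∈ B'
        rw [MonoidHom.mem_ker.1 ha.2]
        exact B'.one_mem
      have eA := card_map_mul_inf π A
      have eB := card_map_mul_inf π B
      rw [hker, hBmap] at eB
      have hb := hF.best A hA B inf_le_left
      rw [← hBmap, hcard, hcard, hBmap]
      have hsup : Nat.card ↥(W ⊓ fix φ B) * Nat.card (fix φ A) ≤ Nat.card (fix φ B) * Nat.card ↥(W ⊓ fix φ A) := by
        rw [← card_sup_inf (W ⊓ fix φ B) (fix φ A)]
        refine Nat.mul_le_mul (Subgroup.card_le_of_le (sup_le inf_le_right (fix_anti inf_le_left))) ?_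
        exact Subgroup.card_le_of_le (le_inf (inf_le_left.trans inf_le_left) inf_le_right)
      have hpos : 0 < Nat.card (fix φ A) * Nat.card ↥(A ⊓ π.ker) := Nat.mul_pos Nat.card_pos Nat.card_pos
      refine Nat.le_of_mul_le_mul_right ?_ hpos
      calc Nat.card B' * Nat.card ↥(W ⊓ fix φ B) * (Nat.card (fix φ A) * Nat.card ↥(A ⊓ π.ker))
          = Nat.card B * (Nat.card ↥(W ⊓ fix φ B) * Nat.card (fix φ A)) := by rw [← eB]; ring
        _ ≤ Nat.card B * (Nat.card (fix φ B) * Nat.card ↥(W ⊓ fix φ A)) := Nat.mul_le_mul_left _ hsup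
        _ = Nat.card B * Nat.card (fix φ B) * Nat.card ↥(W ⊓ fix φ A) := by ring
        _ ≤ Nat.card A * Nat.card (fix φ A) * Nat.card ↥(W ⊓ fix φ A) := Nat.mul_le_mul_right _ hb
        _ = _ := by rw [← eA]; ring
    · rintro _ ⟨A, hA, rfl⟩ W' hinv hmove
      obtain ⟨B, hB, hBA, hBmove, hBq⟩ := hF.quad A hA (W'.map W.subtype)
        (by
          rintro a ha _ ⟨w, hw, rfl⟩
          exact ⟨ψ (π a) w, hinv (π a) ⟨a, ha, rfl⟩ w hw, rfl⟩)
        (fun hle => hmove (by
          rintro _ ⟨a, ha, rfl⟩ w hw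
          exact Subtype.ext (hle ha _ ⟨w, hw, rfl⟩)))
      refine ⟨B.map π, ⟨B, hB, rfl⟩, Subgroup.map_mono hBA, fun hle => hBmove ?_, ?_⟩
      · rintro b hb _ ⟨w, hw, rfl⟩
        exact congrArg Subtype.val (hle ⟨b, hb, rfl⟩ w hw)
      · rintro _ ⟨b, hb, rfl⟩ _ ⟨c, hc, rfl⟩ w hw
        exact Subtype.ext (hBq b hb c hc _ ⟨w, hw, rfl⟩)
  have hlt : Nat.card (X ⧸ K) < Nat.card X := by
    have h1 : Nat.card (X ⧸ K) * Nat.card K = Nat.card X := (Subgroup.card_eq_card_quotient_mul_card_subgroup K).symm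
    have h3 : 2 ≤ Nat.card K := (Subgroup.one_lt_card_iff_ne_bot K).2 hK
    have h4 : 0 < Nat.card (X ⧸ K) := Nat.card_pos
    nlinarith
  set T' : Sylow 2 (X ⧸ K) := T.mapSurjective hπ
  have hT' : (T' : Subgroup (X ⧸ K)) = (T : Subgroup X).map π := Sylow.coe_mapSurjective hπ T
  have hgen := ih (X ⧸ K) hlt W ψ 𝒪' T' (fun w => Subtype.ext (h2 w))
    (fun hi => hfree (involves_of_hom π hπ hi)) hF'
  set J := offJoin 𝒪 (T : Subgroup X)
  have hJT : (T : Subgroup X) ≤ Subgroup.normalizer (J : Set X) :=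
    (Subgroup.le_normalizer).trans (hF.normalizer_le _)
  have hJ : offJoin 𝒪' (T' : Subgroup (X ⧸ K)) = J.map π := by
    rw [hT']
    refine le_antisymm ?_ (map_offJoin_le π (𝒪 := 𝒪) (𝒪' := 𝒪') (fun A hA => ⟨A, hA, rfl⟩) _)
    refine sSup_le ?_
    rintro _ ⟨⟨A, hA, rfl⟩, hAT⟩
    have hAC : A ≤ K ⊔ (T : Subgroup X) := fun a ha => by
      obtain ⟨t, ht, he⟩ := hAT ⟨a, ha, rfl⟩
      have hk : a * t⁻¹ ∈ K := (QuotientGroup.eq_one_iff _).1 (by
        show π (a * t⁻¹) = 1
        rw [map_mul, map_inv, ← he, mul_inv_cancel])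
      simpa using (K ⊔ (T : Subgroup X)).mul_mem (Subgroup.mem_sup_left hk) (Subgroup.mem_sup_right ht)
    obtain ⟨c, hc, P, hP, -, hTP, hAP⟩ := exists_conj_isPGroup (p := 2) T.2
      (isPGroup_of_sq (hF.sq A hA)) le_sup_right hAC
    rw [T.3 hP hTP] at hAP
    have hA' : A.map (MulAut.conj c).toMonoidHom ≤ J := le_offJoin (hF.conj c A hA) hAP
    obtain ⟨k, hk, t, ht, rfl⟩ := Subgroup.mem_sup_of_normal_left.1 hc
    rintro _ ⟨a, ha, rfl⟩
    refine ⟨t⁻¹ * (k * t * a * (k * t)⁻¹) * t, ?_, ?_⟩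
    · have hm : k * t * a * (k * t)⁻¹ ∈ J := hA' ⟨a, ha, rfl⟩
      simpa using (Subgroup.mem_normalizer_iff.1 ((Subgroup.normalizer (J : Set X)).inv_mem (hJT ht)) _).1 hm
    · have hk1 : π k = 1 := (QuotientGroup.eq_one_iff k).2 hk
      simp [map_mul, map_inv, hk1, mul_assoc]
  have hKS : K ≤ stab φ (fix φ (T : Subgroup X)) := hKW.trans (stab_anti hT)
  refine top_le_iff.1 ?_
  rw [← Subgroup.comap_top π, ← hgen, ← Subgroup.comap_sup_eq π _ _ hπ]
  refine sup_le ((?_ : _ ≤ stab φ (fix φ (T : Subgroup X))).trans le_sup_left) ?_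
  · intro x hx w hw
    refine congrArg Subtype.val (hx (⟨w, hT hw⟩ : W) ?_)
    rw [hT', hfix]
    exact hw
  · rw [hJ]
    intro x hx
    have hL : ∀ y ∈ K ⊔ J, x * y * x⁻¹ ∈ K ⊔ J := by
      intro y hy
      rw [← show (J.map π).comap π = K ⊔ J by rw [Subgroup.comap_map_eq, QuotientGroup.ker_mk', sup_comm]] at hy ⊢
      show π (x * y * x⁻¹) ∈ J.map π
      rw [map_mul, map_mul, map_inv]
      exact (Subgroup.mem_normalizer_iff.1 hx _).1 hy
    have hJ2 : IsPGroup 2 J := T.2.to_le (offJoin_le _ _)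
    obtain ⟨c, hc, P, hP, -, hJP, hxP⟩ := exists_conj_isPGroup (p := 2) hJ2
      (hJ2.map (MulAut.conj x).toMonoidHom) (le_sup_right : J ≤ K ⊔ J)
      (map_conj_le fun y hy => hL y (Subgroup.mem_sup_right hy))
    obtain ⟨S, hS⟩ := hP.exists_le_sylow
    have hSJ := hF.offJoin_eq (T := T) (S := S) (hJP.trans hS)
    have hcx : c * x ∈ Subgroup.normalizer (J : Set X) := by
      refine mem_normalizer_of_map_conj_eq (Subgroup.eq_of_le_of_card_ge ?_
        (Subgroup.card_map_of_injective (MulAut.conj (c * x)).injective).ge)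
      rw [← map_conj_mul] at *
      have h1 : ((J.map (MulAut.conj x).toMonoidHom).map (MulAut.conj c).toMonoidHom) ≤ (S : Subgroup X) :=
        hxP.trans hS
      rw [map_conj_mul, hF.map_offJoin, ← offJoin_idem]
      rw [map_conj_mul, hF.map_offJoin] at h1
      exact (offJoin_mono 𝒪 h1).trans hSJ.le
    have hcm : c ∈ stab φ (fix φ (T : Subgroup X)) ⊔ Subgroup.normalizer (J : Set X) :=
      sup_le (hKS.trans le_sup_left) (Subgroup.le_normalizer.trans le_sup_right) hc
    simpa using Subgroup.mul_mem _ (Subgroup.inv_mem _ hcm) (Subgroup.mem_sup_right hcx)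

theorem gen_step (T : Sylow 2 X) :
    stab φ (fix φ (T : Subgroup X)) ⊔ Subgroup.normalizer (offJoin 𝒪 (T : Subgroup X) : Set X) = ⊤ := by
  haveI : Fact (Nat.Prime 2) := ⟨Nat.prime_two⟩
  classical
  by_cases hker : φ.ker = ⊥
  swap
  · exact gen_of_kernel ih h2 hfree hF T ⊤ (fun _ _ _ => Subgroup.mem_top _) le_top hker
      fun k hk w _ => by rw [MonoidHom.mem_ker.1 hk, MulAut.one_apply]
  have hinj : Function.Injective φ := (MonoidHom.ker_eq_bot_iff φ).1 hker
  set R := pCore 2 X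
  by_cases hR : R = ⊥
  swap
  · have hinv : ∀ x : X, ∀ w ∈ fix φ R, φ x w ∈ fix φ R := by
      intro x w hw r hr
      have h1 := hw _ ((inferInstance : R.Normal).conj_mem r hr x⁻¹)
      rw [inv_inv] at h1
      conv_rhs => rw [← h1]
      rw [← MulAut.mul_apply, ← map_mul, ← MulAut.mul_apply, ← map_mul]
      group
    exact gen_of_kernel ih h2 hfree hF T (fix φ R) hinv (fix_anti (pCore_le_sylow T)) hR (le_stab_fix φ R)
  set Z := fix φ (T : Subgroup X)
  set M := stab φ Z ⊔ Subgroup.normalizer (offJoin 𝒪 (T : Subgroup X) : Set X) with hMdef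
  by_contra hM
  have hTM : (T : Subgroup X) ≤ M := (le_stab_fix φ _).trans le_sup_left
  have hNT : Subgroup.normalizer ((T : Subgroup X) : Set X) ≤ M := (hF.normalizer_le _).trans le_sup_right
  have hcjM : ∀ m ∈ M, M.map (MulAut.conj m).toMonoidHom ≤ M := fun m hm =>
    map_conj_le fun x hx => M.mul_mem (M.mul_mem hm hx) (M.inv_mem hm)
  -- Sylow subgroups inside `M`
  have hsyl : ∀ S : Subgroup X, IsPGroup 2 S → S ≤ M → ∃ m ∈ M, S ≤ (T : Subgroup X).map (MulAut.conj m).toMonoidHom := by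
    intro S hS hSM
    obtain ⟨c, hc, P, hP, -, hTP, hSP⟩ := exists_conj_isPGroup (p := 2) T.2 hS hTM hSM
    rw [T.3 hP hTP] at hSP
    refine ⟨c⁻¹, M.inv_mem hc, fun s hs => mem_map_conj.2 ?_⟩
    simpa using hSP ⟨s, hs, rfl⟩
  have hTconj : ∀ x : X, (T : Subgroup X).map (MulAut.conj x).toMonoidHom ≤ M → x ∈ M := by
    intro x hx
    obtain ⟨m, hm, hle⟩ := hsyl _ (T.2.map _) hx
    have hn : m⁻¹ * x ∈ Subgroup.normalizer ((T : Subgroup X) : Set X) := by
      refine mem_normalizer_of_map_conj_eq (Subgroup.eq_of_le_of_card_ge ?_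
        (Subgroup.card_map_of_injective (MulAut.conj (m⁻¹ * x)).injective).ge)
      rw [← map_conj_mul]
      refine map_conj_le fun y hy => ?_
      simpa using mem_map_conj.1 (hle hy)
    simpa using M.mul_mem hm (hNT hn)
  -- the two parts for a Sylow subgroup in `M`
  have hstab : ∀ m ∈ M, stab φ (fix φ ((T : Subgroup X).map (MulAut.conj m).toMonoidHom)) ≤ M := by
    intro m hm y hy
    have h1 : m⁻¹ * y * m ∈ stab φ Z := by
      intro w hw
      have hw' : φ m w ∈ fix φ ((T : Subgroup X).map (MulAut.conj m).toMonoidHom) := by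
        rw [fix_map_conj]; exact ⟨w, hw, rfl⟩
      rw [map_mul, map_mul, MulAut.mul_apply, MulAut.mul_apply, hy _ hw', map_inv, MulAut.inv_apply_self]
    simpa [mul_assoc] using M.mul_mem (M.mul_mem hm (le_sup_left (b := Subgroup.normalizer _) h1 : _ ∈ M)) (M.inv_mem hm)
  have hnorm : ∀ m ∈ M, Subgroup.normalizer
      (offJoin 𝒪 ((T : Subgroup X).map (MulAut.conj m).toMonoidHom) : Set X) ≤ M := by
    intro m hm y hy
    rw [← hF.map_offJoin] at hy
    have h1 : m⁻¹ * y * m ∈ Subgroup.normalizer (offJoin 𝒪 (T : Subgroup X) : Set X) := by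
      refine mem_normalizer_of_map_conj_eq ?_
      rw [← map_conj_mul, ← map_conj_mul, map_conj_eq_of_mem_normalizer hy, map_conj_mul, inv_mul_cancel]
      ext z; simp
    simpa [mul_assoc] using M.mul_mem (M.mul_mem hm (le_sup_right (a := stab φ Z) h1 : _ ∈ M)) (M.inv_mem hm)
  have hsub : ∀ H : Subgroup X, H ≠ ⊤ → ∀ S : Sylow 2 H, ∀ L : Subgroup X,
      H ⊓ stab φ (fix φ ((S : Subgroup H).map H.subtype)) ≤ L →
      H ⊓ Subgroup.normalizer (offJoin 𝒪 ((S : Subgroup H).map H.subtype) : Set X) ≤ L → H ≤ L := by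
    intro H hH S L hA hB
    have hlt : Nat.card H < Nat.card X :=
      lt_of_le_of_ne (Subgroup.card_le_card_group H) fun e => hH (Subgroup.eq_top_of_card_eq H e)
    set 𝒪H : Set (Subgroup H) := {A | A.map H.subtype ∈ 𝒪}
    have hFH : Fam (φ.comp H.subtype) 𝒪H := by
      refine ⟨fun g A hA => ?_, fun A hA a ha => Subtype.ext (hF.sq _ hA a ⟨a, ha, rfl⟩), fun A hA B hB => ?_, ?_⟩
      · show (A.map (MulAut.conj g).toMonoidHom).map H.subtype ∈ 𝒪
        have e : (A.map (MulAut.conj g).toMonoidHom).map H.subtype =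
            (A.map H.subtype).map (MulAut.conj (g : X)).toMonoidHom := by
          rw [Subgroup.map_map, Subgroup.map_map]
          rfl
        rw [e]
        exact hF.conj _ _ hA
      · have := hF.best _ hA (B.map H.subtype) (Subgroup.map_mono hB)
        rwa [Subgroup.card_map_of_injective H.subtype_injective,
          Subgroup.card_map_of_injective H.subtype_injective, fix_map, fix_map] at this
      · intro A hA W hinv hmove
        obtain ⟨B, hB, hBA, hBm, hBq⟩ := hF.quad _ hA W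
          (by rintro _ ⟨a, ha, rfl⟩ w hw; exact hinv a ha w hw)
          (fun hle => hmove fun a ha => hle ⟨a, ha, rfl⟩)
        have hBH : B ≤ H := hBA.trans (Subgroup.map_subtype_le A)
        refine ⟨B.subgroupOf H, ?_, ?_, fun hle => hBm fun b hb => hle (x := ⟨b, hBH hb⟩) hb, ?_⟩
        · show (B.subgroupOf H).map H.subtype ∈ 𝒪
          rwa [Subgroup.map_subgroupOf_eq_of_le hBH]
        · intro b hb
          obtain ⟨a, ha, he⟩ := hBA hb
          rwa [show b = a from Subtype.ext he.symm]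
        · exact fun b hb c hc w hw => hBq b hb c hc w hw
    have hgen := ih H hlt V (φ.comp H.subtype) 𝒪H S h2 (fun hi => hfree (involves_of_sub hi)) hFH
    have hjoin : (offJoin 𝒪H (S : Subgroup H)).map H.subtype = offJoin 𝒪 ((S : Subgroup H).map H.subtype) := by
      refine le_antisymm (map_offJoin_le _ (fun A hA => hA) _) (sSup_le fun A hA => ?_)
      have hAH : A ≤ H := hA.2.trans (Subgroup.map_subtype_le _)
      rw [← Subgroup.map_subgroupOf_eq_of_le hAH]
      refine Subgroup.map_mono (le_offJoin ?_ ?_)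
      · show (A.subgroupOf H).map H.subtype ∈ 𝒪
        rw [Subgroup.map_subgroupOf_eq_of_le hAH]
        exact hA.1
      · intro a ha
        obtain ⟨s, hs, he⟩ := hA.2 ha
        rwa [show a = s from Subtype.ext he.symm]
    intro x hx
    have h1 : (stab (φ.comp H.subtype) (fix (φ.comp H.subtype) (S : Subgroup H)) ⊔
        Subgroup.normalizer (offJoin 𝒪H (S : Subgroup H) : Set H)).map H.subtype ≤ L := by
      rw [Subgroup.map_sup]
      refine sup_le ?_ ?_
      · rintro _ ⟨y, hy, rfl⟩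
        refine hA ⟨y.2, fun w hw => hy w ?_⟩
        rwa [← fix_map]
      · rintro _ ⟨y, hy, rfl⟩
        refine hB ⟨y.2, ?_⟩
        rw [← hjoin]
        exact Subgroup.le_normalizer_map H.subtype ⟨y, hy, rfl⟩
    rw [hgen] at h1
    exact h1 ⟨⟨x, hx⟩, Subgroup.mem_top _, rfl⟩
  -- a non-trivial join lies in one conjugate of `M`
  have huniq : ∀ U : Subgroup X, IsPGroup 2 U → offJoin 𝒪 U ≠ ⊥ → U ≤ M →
      ∀ x : X, U ≤ M.map (MulAut.conj x).toMonoidHom → x ∈ M := by
    by_contra hne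
    push Not at hne
    let PU : Set (Subgroup X) := {U | IsPGroup 2 U ∧ offJoin 𝒪 U ≠ ⊥ ∧ U ≤ M ∧
      ∃ x, U ≤ M.map (MulAut.conj x).toMonoidHom ∧ x ∉ M}
    let f : Subgroup X → ℕ := fun U => Nat.card (offJoin 𝒪 U) * (Nat.card X + 1) + Nat.card U
    have hPU : PU.Nonempty := by
      obtain ⟨U, h1, h3, h4, x, h5, h6⟩ := hne
      exact ⟨U, h1, h3, h4, x, h5, h6⟩
    obtain ⟨U, ⟨hU2, hUJ, hUM, x, hUx, hx⟩, hmax⟩ := Set.exists_max_image PU f (Set.toFinite _) hPU
    have hfgt : ∀ U' : Subgroup X, U < U' → f U < f U' := fun U' hlt => by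
      have h1 : Nat.card (offJoin 𝒪 U) ≤ Nat.card (offJoin 𝒪 U') :=
        Subgroup.card_le_of_le (offJoin_mono 𝒪 hlt.le)
      have h3 : Nat.card U < Nat.card U' := lt_of_le_of_ne (Subgroup.card_le_of_le hlt.le)
        fun e => hlt.ne (Subgroup.eq_of_le_of_card_ge hlt.le e.ge)
      show _ * _ + _ < _ * _ + _
      have := Nat.mul_le_mul_right (Nat.card X + 1) h1
      omega
    have hfgtJ : ∀ U' : Subgroup X, offJoin 𝒪 U < offJoin 𝒪 U' → f U < f U' := fun U' hlt => by
      have h3 : Nat.card (offJoin 𝒪 U) < Nat.card (offJoin 𝒪 U') := lt_of_le_of_ne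
        (Subgroup.card_le_of_le hlt.le) fun e => hlt.ne (Subgroup.eq_of_le_of_card_ge hlt.le e.ge)
      have h4 : Nat.card U ≤ Nat.card X := Subgroup.card_le_card_group U
      show _ * _ + _ < _ * _ + _
      nlinarith [Nat.card_pos (α := U')]
    set H := Subgroup.normalizer (offJoin 𝒪 U : Set X) with hHdef
    have hUH : Subgroup.normalizer (U : Set X) ≤ H := hF.normalizer_le U
    have hJM : offJoin 𝒪 U ≤ M := (offJoin_le _ _).trans hUM
    have hH : H ≠ ⊤ := by
      intro e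
      haveI := Subgroup.normalizer_eq_top_iff.1 e
      exact hUJ (le_bot_iff.1 (hR ▸ le_pCore (hU2.to_le (offJoin_le _ _))))
    obtain ⟨m, hm, hUT⟩ := hsyl U hU2 hUM
    set T1 := (T : Subgroup X).map (MulAut.conj m).toMonoidHom with hT1
    have hT1M : T1 ≤ M := (Subgroup.map_mono hTM).trans (hcjM m hm)
    have hne1 : U ≠ T1 := by
      rintro rfl
      refine hx ?_
      have h1 : x⁻¹ * m ∈ M := hTconj _ (by
        rw [← map_conj_mul]
        refine map_conj_le fun y hy => ?_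
        simpa using mem_map_conj.1 (hUx hy))
      simpa using M.mul_mem hm (M.inv_mem h1)
    set U1 := T1 ⊓ Subgroup.normalizer (U : Set X)
    have hU1 : U < U1 := WeakClosed.lt_inf_normalizer' (p := 2) (T.2.map _) hUT hne1
    obtain ⟨S, hS⟩ := ((T.2.map (MulAut.conj m).toMonoidHom).to_le (inf_le_left : U1 ≤ T1)
      |>.comap_subtype (K := H)).exists_le_sylow
    set S' := (S : Subgroup H).map H.subtype with hS'def
    have hS'H : S' ≤ H := Subgroup.map_subtype_le _
    have hS'2 : IsPGroup 2 S' := S.2.map _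
    have hU1S : U1 ≤ S' := fun y hy => ⟨⟨y, hUH hy.2⟩, hS hy, rfl⟩
    obtain ⟨P, hP⟩ := hS'2.exists_le_sylow
    obtain ⟨y, hy⟩ := MulAction.exists_smul_eq X T P
    have hPeq : (P : Subgroup X) = (T : Subgroup X).map (MulAut.conj y).toMonoidHom := by rw [← hy]; rfl
    have hyM : y ∈ M := by
      by_contra hyM
      refine absurd (hmax U1 ⟨hS'2.to_le hU1S, ?_, inf_le_left.trans hT1M, y, ?_, hyM⟩) (hfgt U1 hU1).not_ge
      · exact fun e => hUJ (le_bot_iff.1 (e ▸ offJoin_mono 𝒪 hU1.le))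
      · exact (hU1S.trans hP).trans (hPeq ▸ Subgroup.map_mono hTM)
    have hPM : (P : Subgroup X) ≤ M := hPeq ▸ (Subgroup.map_mono hTM).trans (hcjM y hyM)
    have hJU : offJoin 𝒪 U ≤ offJoin 𝒪 S' := offJoin_mono 𝒪 (hU1.le.trans hU1S)
    have hHM : H ≤ M := by
      rcases eq_or_lt_of_le hJU with he | hlt
      · by_cases hSP : S' = (P : Subgroup X)
        · rw [hHdef, he, hSP, hPeq]
          exact hnorm y hyM
        · exfalso
          have hlt' := WeakClosed.lt_inf_normalizer' (p := 2) P.2 hP hSP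
          have hle : (P : Subgroup X) ⊓ Subgroup.normalizer (S' : Set X) ≤ H := by
            refine inf_le_right.trans ?_
            rw [hHdef, he]
            exact hF.normalizer_le S'
          have hmaxS := S.3 ((P.2.to_le (inf_le_left : (P : Subgroup X) ⊓ Subgroup.normalizer (S' : Set X) ≤ _)).comap_subtype (K := H))
            (fun z hz => hlt'.le ⟨z, hz, rfl⟩)
          exact hlt'.not_ge fun z hz => ⟨⟨z, hle hz⟩, by rw [← hmaxS]; exact hz, rfl⟩
      · refine hsub H hH S M ?_ ?_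
        · refine inf_le_right.trans ((stab_anti ?_).trans (hstab y hyM))
          rw [← hPeq]
          exact fix_anti hP
        · intro z hz
          by_contra hzM
          refine absurd (hmax (offJoin 𝒪 S') ⟨hS'2.to_le (offJoin_le _ _), ?_, ?_, z, ?_, hzM⟩)
            (hfgtJ _ (by rwa [offJoin_idem])).not_ge
          · rw [offJoin_idem]
            exact fun e => hUJ (le_bot_iff.1 (e ▸ hJU))
          · exact ((offJoin_le _ _).trans hP).trans hPM
          · rw [← map_conj_eq_of_mem_normalizer hz.2]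
            exact Subgroup.map_mono (((offJoin_le _ _).trans hP).trans hPM)
    -- the other side
    have hUxinv : U.map (MulAut.conj x⁻¹).toMonoidHom ≤ M := map_conj_le fun y hy => by
      simpa using mem_map_conj.1 (hUx hy)
    obtain ⟨m', hm', hUT'⟩ := hsyl _ (hU2.map _) hUxinv
    set T2 := (T : Subgroup X).map (MulAut.conj (x * m')).toMonoidHom with hT2
    have hUT2 : U ≤ T2 := fun z hz => by
      have h1 := mem_map_conj.1 (hUT' ⟨z, hz, rfl⟩)
      refine mem_map_conj.2 ?_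
      simpa [mul_assoc] using h1
    have hne2 : U ≠ T2 := by
      intro e
      refine hx ?_
      have h1 := hTconj (x * m') (hT2 ▸ e ▸ hUM)
      simpa using M.mul_mem h1 (M.inv_mem hm')
    have hU2' : U < T2 ⊓ Subgroup.normalizer (U : Set X) :=
      WeakClosed.lt_inf_normalizer' (p := 2) (T.2.map _) hUT2 hne2
    refine absurd (hmax _ ⟨(T.2.map _).to_le inf_le_left, ?_, (inf_le_right.trans hUH).trans hHM, x, ?_, hx⟩)
      (hfgt _ hU2').not_ge
    · exact fun e => hUJ (le_bot_iff.1 (e ▸ offJoin_mono 𝒪 hU2'.le))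
    · refine inf_le_left.trans ?_
      rw [← map_conj_mul]
      exact Subgroup.map_mono ((Subgroup.map_mono hTM).trans (hcjM m' hm'))
  -- an offender in `T`
  obtain ⟨A, hA, hAT, hA1⟩ : ∃ A ∈ 𝒪, A ≤ (T : Subgroup X) ∧ A ≠ ⊥ := by
    by_contra hne
    push Not at hne
    refine hM (top_le_iff.1 (le_trans ?_ le_sup_right))
    rw [show offJoin 𝒪 (T : Subgroup X) = ⊥ from le_bot_iff.1 (sSup_le fun A hA => (hne A hA.1 hA.2).le),
      Subgroup.normalizer_eq_top]
  obtain ⟨B, hB, hBA, hBm, hBq⟩ := hF.quad A hA ⊤ (fun _ _ _ _ => Subgroup.mem_top _) fun hle => hA1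
    ((Subgroup.eq_bot_iff_forall A).2 fun a ha => hinj (MulEquiv.ext fun w => by
      rw [map_one, MulAut.one_apply]; exact hle ha w (Subgroup.mem_top w)))
  have hB1 : B ≠ ⊥ := fun e => hBm (e ▸ bot_le)
  have hBJ : offJoin 𝒪 B = B := le_antisymm (offJoin_le _ _) (le_offJoin hB le_rfl)
  have hover : ∀ H : Subgroup X, H ≠ ⊤ → B ≤ H → H ≤ M := by
    intro H hH hBH
    obtain ⟨S, hS⟩ := ((isPGroup_of_sq (hF.sq B hB)).comap_subtype (K := H)).exists_le_sylow
    set S' := (S : Subgroup H).map H.subtype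
    have hBS : B ≤ S' := fun b hb => ⟨⟨b, hBH hb⟩, hS hb, rfl⟩
    obtain ⟨P, hP⟩ := (S.2.map H.subtype).exists_le_sylow
    obtain ⟨y, hy⟩ := MulAction.exists_smul_eq X T P
    have hPeq : (P : Subgroup X) = (T : Subgroup X).map (MulAut.conj y).toMonoidHom := by rw [← hy]; rfl
    have hBM : B ≤ M := (hBA.trans hAT).trans hTM
    have hyM : y ∈ M := huniq B (isPGroup_of_sq (hF.sq B hB)) (hBJ.symm ▸ hB1) hBM y
      ((hBS.trans hP).trans (hPeq ▸ Subgroup.map_mono hTM))
    have hPM : (P : Subgroup X) ≤ M := hPeq ▸ (Subgroup.map_mono hTM).trans (hcjM y hyM)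
    refine hsub H hH S M ?_ ?_
    · refine inf_le_right.trans ((stab_anti ?_).trans (hstab y hyM))
      rw [← hPeq]
      exact fix_anti hP
    · intro z hz
      refine huniq B (isPGroup_of_sq (hF.sq B hB)) (hBJ.symm ▸ hB1) hBM z ?_
      refine (le_offJoin hB hBS).trans ?_
      rw [← map_conj_eq_of_mem_normalizer hz.2]
      exact Subgroup.map_mono (((offJoin_le _ _).trans hP).trans hPM)
  refine hfree (Pair.involves (φ := φ) (M := M) (A := B) (Pair.of_core hinj h2 hR (hF.sq B hB) hB1 ?_ ?_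
    ((hBA.trans hAT).trans hTM) hM hover))
  · exact fun b hb w c hc => hBq c hc b hb w (Subgroup.mem_top w)
  · have h := hF.best B hB ⊥ bot_le
    rwa [Subgroup.card_bot, one_mul, show fix φ (⊥ : Subgroup X) = ⊤ from
      eq_top_iff.2 fun w _ a ha => by rw [Subgroup.mem_bot.1 ha, map_one, MulAut.one_apply],
      Subgroup.card_top] at h

end step

theorem genGood : ∀ (X : Type u) [Group X] [Finite X], GenGood.{u, v} X := by
  intro X _ _
  induction hn : Nat.card X using Nat.strong_induction_on generalizing X with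
  | _ n ih =>
    subst hn
    intro V _ _ φ 𝒪 T h2 hfree hF
    exact gen_step (fun Y _ _ hY => ih _ hY Y rfl) h2 hfree hF T

/-- The generation theorem. -/
theorem stab_sup_normalizer [Finite V] (h2 : ∀ v : V, v * v = 1) (hfree : ¬ Involves P3 X) (hF : Fam φ 𝒪)
    (T : Sylow 2 X) :
    stab φ (fix φ (T : Subgroup X)) ⊔ Subgroup.normalizer (offJoin 𝒪 (T : Subgroup X) : Set X) = ⊤ :=
  genGood X V φ 𝒪 T h2 hfree hF

end CfsgLib.S3Free
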