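import Mathlib.RingTheory.SimpleModule.Basic
import Mathlib.RingTheory.LittleWedderburn
import Mathlib.FieldTheory.Finite.Extension
import Mathlib.Algebra.Module.ZMod
import Mathlib.RingTheory.AdjoinRoot

/-!
A counting bound for an invariant space `E` of linear maps with no offending subspace: if every
non-zero `D ≤ E` has `|D| * |ann D| < |U|` and `E` contains a simple submodule `E1`, then
`|E| * |E1| * |ann E| ≤ |U|`.
-/

set_option autoImplicit false

namespace CfsgLib.S3Free

open Module LinearMap Polynomial

local notation "F2" => ZMod 2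

/-- A finite module killed by an irreducible polynomial in an endomorphism has cardinality a power
of `2 ^ natDegree`. -/
theorem exists_card_eq_pow {M : Type*} [AddCommGroup M] [Module F2 M] [Finite M] (τ : Module.End F2 M)
    {q : F2[X]} (hq : Irreducible q) (h0 : aeval τ q = 0) : ∃ n, Nat.card M = (2 ^ q.natDegree) ^ n := by
  haveI : Fact (Irreducible q) := ⟨hq⟩
  let ψ : AdjoinRoot q →+* Module.End F2 M :=
    Ideal.Quotient.lift _ (aeval τ : F2[X] →ₐ[F2] Module.End F2 M).toRingHom (fun a ha => by
      obtain ⟨b, rfl⟩ := Ideal.mem_span_singleton'.1 ha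
      show aeval τ (b * q) = 0
      rw [map_mul, h0, mul_zero])
  letI : Module (AdjoinRoot q) M := Module.compHom M ψ
  haveI : Module.Finite (AdjoinRoot q) M := Module.Finite.of_finite
  refine ⟨Module.finrank (AdjoinRoot q) M, ?_⟩
  rw [Module.natCard_eq_pow_finrank (K := AdjoinRoot q)]
  congr 1
  haveI : Module.Finite F2 (AdjoinRoot q) := (AdjoinRoot.powerBasis hq.ne_zero).finite
  rw [Module.natCard_eq_pow_finrank (K := F2) (V := AdjoinRoot q), Nat.card_zmod,
    (AdjoinRoot.powerBasis hq.ne_zero).finrank, AdjoinRoot.powerBasis_dim]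

theorem f2_cases : ∀ x : F2, x = 0 ∨ x = 1 := by decide

theorem aeval_comm {M : Type*} [AddCommGroup M] [Module F2 M] (τ : Module.End F2 M) (q : F2[X]) :
    Commute (aeval τ q) τ := by
  show aeval τ q * τ = τ * aeval τ q
  conv_lhs => arg 2; rw [← aeval_X (R := F2) τ]
  conv_rhs => arg 1; rw [← aeval_X (R := F2) τ]
  rw [← map_mul, ← map_mul, mul_comm]

/-- A finite simple module has an endomorphism in the image of the ring with irreducible annihilator
of full degree. -/
theorem exists_irreducible_acting {R M : Type*} [Ring R] [AddCommGroup M] [Module F2 M] [Module R M]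
    [SMulCommClass R F2 M] [IsSimpleModule R M] [Finite M] :
    ∃ (r : R) (q : F2[X]), Irreducible q ∧ (2 ^ q.natDegree = Nat.card M) ∧
      ∀ g : Module.End F2 M, (∀ m, g m = r • m) → aeval g q = 0 := by
  classical
  let D := Module.End R M
  haveI : Finite D := Finite.of_injective (fun f : D => (f : M → M)) DFunLike.coe_injective
  letI : Field D := Fintype.ofFinite D |> fun h => letI := h; littleWedderburn D
  haveI : Module.Finite D M := Module.Finite.of_finite
  haveI : Nontrivial M := IsSimpleModule.nontrivial R M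
  set n := Module.finrank D M
  haveI : NeZero n := ⟨(Module.finrank_pos (R := D) (M := M)).ne'⟩
  have hD2 : (2 : D) = 0 := by
    refine LinearMap.ext fun m => ?_
    show (2 : D) • m = 0
    rw [two_smul, ← two_smul F2, show (2 : F2) = 0 from rfl, zero_smul]
  haveI : CharP D 2 := CharTwo.of_one_ne_zero_of_two_eq_zero one_ne_zero hD2
  letI : Algebra F2 D := ZMod.algebra D 2
  let L := FiniteField.Extension D 2 n
  haveI : Fact (Nat.Prime 2) := ⟨Nat.prime_two⟩
  obtain ⟨e⟩ : Nonempty (M ≃ₗ[D] L) :=
    FiniteDimensional.nonempty_linearEquiv_of_finrank_eq (by rw [FiniteField.finrank_extension])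
  haveI : CharP L 2 := charP_of_injective_algebraMap (algebraMap D L).injective 2
  letI : Algebra F2 L := ZMod.algebra L 2
  haveI : Module.Finite F2 L := Module.Finite.of_finite
  obtain ⟨θ, hθ⟩ := Field.exists_primitive_element F2 L
  set q := minpoly F2 θ
  have hint : IsIntegral F2 θ := IsIntegral.of_finite F2 θ
  have hqd : q.natDegree = Module.finrank F2 L := by
    rw [← IntermediateField.adjoin.finrank hint, hθ, IntermediateField.finrank_top']
  let f : Module.End D M := e.symm.toLinearMap ∘ₗ (LinearMap.mulLeft D θ) ∘ₗ e.toLinearMap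
  obtain ⟨r, hr⟩ := Module.Finite.toModuleEnd_moduleEnd_surjective (R := R) (M := M) f
  refine ⟨r, q, minpoly.irreducible hint, ?_, fun g hg => ?_⟩
  · rw [hqd, Nat.card_congr e.toEquiv, Module.natCard_eq_pow_finrank (K := F2) (V := L), Nat.card_zmod]
  · have hcomm : ∀ (p : F2[X]) (m : M), e (aeval g p m) = aeval θ p * e m := by
      intro p
      induction p using Polynomial.induction_on' with
      | add a b ha hb => intro m; rw [map_add, map_add, LinearMap.add_apply, map_add, ha, hb, add_mul]
      | monomial k c =>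
        intro m
        induction k generalizing m with
        | zero =>
          rw [Polynomial.monomial_zero_left, aeval_C, aeval_C]
          obtain rfl | rfl : c = 0 ∨ c = 1 := f2_cases c
          · simp
          · simp
        | succ k ih =>
          rw [← Polynomial.monomial_mul_X, map_mul, map_mul, aeval_X, aeval_X, Module.End.mul_apply, ih,
            hg, ← show f m = r • m from (DFunLike.congr_fun hr m).symm]
          show _ * e (e.symm (θ * e m)) = _
          rw [e.apply_symm_apply]
          ring
    refine LinearMap.ext fun m => e.injective ?_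
    rw [hcomm, minpoly.aeval, zero_mul, LinearMap.zero_apply, map_zero]

variable {G U : Type*} [Group G] [AddCommGroup U] [Module F2 U] [Finite U]

/-- The annihilator of a set of maps. -/
def annOf (D : Submodule F2 (Module.End F2 U)) : Submodule F2 U := ⨅ e ∈ D, LinearMap.ker e

omit [Finite U] in
theorem mem_annOf {D : Submodule F2 (Module.End F2 U)} {u : U} : u ∈ annOf D ↔ ∀ e ∈ D, e u = 0 := by
  simp [annOf]

omit [Finite U] in
theorem comp_aeval {D : Submodule F2 (Module.End F2 U)} {τ : Module.End F2 U}
    (hτ : ∀ e ∈ D, e * τ ∈ D) : ∀ (p : F2[X]), ∀ e ∈ D, e * aeval τ p ∈ D := by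
  intro p
  induction p using Polynomial.induction_on' with
  | add a b ha hb => intro e he; rw [map_add, mul_add]; exact D.add_mem (ha e he) (hb e he)
  | monomial k c =>
    intro e he
    rw [aeval_monomial, ← Algebra.smul_def, mul_smul_comm]
    refine D.smul_mem c ?_
    induction k generalizing e with
    | zero => rwa [pow_zero, mul_one]
    | succ k ih => rw [pow_succ', ← mul_assoc]; exact ih _ (hτ e he)

/-- The counting bound. -/
theorem semistable (ρ : G →* Module.End F2 U) (E E1 : Submodule F2 (Module.End F2 U))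
    (hE : ∀ g, ∀ e ∈ E, e * ρ g ∈ E) (hle : E1 ≤ E) (hne : E1 ≠ ⊥) (hE1 : ∀ g, ∀ e ∈ E1, e * ρ g ∈ E1)
    (hirr : ∀ D ≤ E1, (∀ g, ∀ e ∈ D, e * ρ g ∈ D) → D = ⊥ ∨ D = E1)
    (hstr : ∀ D ≤ E, D ≠ ⊥ → Nat.card D * Nat.card (annOf D) < Nat.card U) :
    Nat.card E * Nat.card E1 * Nat.card (annOf E) ≤ Nat.card U := by
  classical
  haveI : Finite (Module.End F2 U) := Finite.of_injective (fun f : Module.End F2 U => (f : U → U)) DFunLike.coe_injective
  let S : Subalgebra F2 (Module.End F2 E1) :=
    { carrier := {f | ∃ τ : Module.End F2 U, (∀ e ∈ E, e * τ ∈ E) ∧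
        ∀ x : E1, ((f x : E1) : Module.End F2 U) = (x : Module.End F2 U) * τ}
      mul_mem' := by
        rintro f f' ⟨τ, h1, h2⟩ ⟨τ', h1', h2'⟩
        refine ⟨τ' * τ, fun e he => ?_, fun x => ?_⟩
        · rw [← mul_assoc]; exact h1 _ (h1' e he)
        · rw [Module.End.mul_apply, h2, h2', mul_assoc]
      one_mem' := ⟨1, fun e he => by rwa [mul_one], fun x => by rw [mul_one]; rfl⟩
      add_mem' := by
        rintro f f' ⟨τ, h1, h2⟩ ⟨τ', h1', h2'⟩
        refine ⟨τ + τ', fun e he => ?_, fun x => ?_⟩
        · rw [mul_add]; exact E.add_mem (h1 e he) (h1' e he)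
        · rw [LinearMap.add_apply, Submodule.coe_add, h2, h2', mul_add]
      zero_mem' := ⟨0, fun e _ => by rw [mul_zero]; exact E.zero_mem, fun x => by
        rw [mul_zero, LinearMap.zero_apply, ZeroMemClass.coe_zero]⟩
      algebraMap_mem' := fun c => ⟨c • 1, fun e he => by
        rw [mul_smul_comm, mul_one]; exact E.smul_mem c he, fun x => by
        rw [Module.algebraMap_end_apply, Submodule.coe_smul, mul_smul_comm, mul_one]⟩ }
  have hsimple : IsSimpleModule S E1 := by
    haveI : Nontrivial E1 := Submodule.nontrivial_iff_ne_bot.2 hne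
    haveI : Nontrivial (Submodule S E1) := (Submodule.nontrivial_iff S).2 inferInstance
    refine { eq_bot_or_eq_top := fun N => ?_ }
    let N' : Submodule F2 E1 :=
      { carrier := N
        add_mem' := N.add_mem
        zero_mem' := N.zero_mem
        smul_mem' := fun c x hx => by
          have h := N.smul_mem (algebraMap F2 S c) hx
          rwa [algebraMap_smul] at h }
    rcases hirr (N'.map E1.subtype) (Submodule.map_subtype_le _ _) (by
      rintro g _ ⟨x, hx, rfl⟩
      let f : Module.End F2 E1 :=
        { toFun := fun y => ⟨(y : Module.End F2 U) * ρ g, hE1 g y y.2⟩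
          map_add' := fun a b => Subtype.ext (add_mul _ _ _)
          map_smul' := fun c a => Subtype.ext (smul_mul_assoc c _ _) }
      exact ⟨f x, N.smul_mem (⟨f, ρ g, hE g, fun y => rfl⟩ : S) hx, rfl⟩) with h | h
    · refine Or.inl ((Submodule.eq_bot_iff N).2 fun x hx => Subtype.ext ?_)
      exact (Submodule.eq_bot_iff _).1 h _ ⟨x, hx, rfl⟩
    · refine Or.inr (Submodule.eq_top_iff'.2 fun x => ?_)
      obtain ⟨y, hy, hyx⟩ := h.ge x.2
      rwa [← show y = x from Subtype.ext hyx]
  obtain ⟨⟨f, τ, hτ, hfτ⟩, q, hq, hqd, hkill⟩ := exists_irreducible_acting (R := S) (M := E1)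
  have hq0 := hkill f fun m => rfl
  set h := aeval τ q with hh
  have hEh : ∀ e ∈ E, e * h ∈ E := comp_aeval hτ q
  have hE1h : ∀ x : E1, (x : Module.End F2 U) * h = 0 := by
    have key : ∀ (p : F2[X]) (x : E1), ((aeval f p x : E1) : Module.End F2 U) = (x : Module.End F2 U) * aeval τ p := by
      intro p
      induction p using Polynomial.induction_on' with
      | add a b ha hb => intro x; rw [map_add, map_add, LinearMap.add_apply, Submodule.coe_add, ha, hb, mul_add]
      | monomial k c =>
        intro x
        rw [aeval_monomial, aeval_monomial, ← Algebra.smul_def, ← Algebra.smul_def, LinearMap.smul_apply,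
          Submodule.coe_smul, mul_smul_comm]
        congr 1
        induction k generalizing x with
        | zero => simp
        | succ k ih =>
          rw [pow_succ, pow_succ', Module.End.mul_apply, ih, hfτ, mul_assoc]
    intro x
    rw [← key, hq0, LinearMap.zero_apply, ZeroMemClass.coe_zero]
  set A0 := annOf E
  have hA0 : ∀ u ∈ A0, τ u ∈ A0 := fun u hu =>
    mem_annOf.2 fun e he => mem_annOf.1 hu _ (hτ e he)
  let μ : Module.End F2 (Module.End F2 U) := LinearMap.mulRight F2 h
  set D1 := E ⊓ LinearMap.ker μ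
  set D2 := E.map μ
  have hD1ne : D1 ≠ ⊥ := by
    obtain ⟨x, hx, hx0⟩ := (Submodule.ne_bot_iff _).1 hne
    exact (Submodule.ne_bot_iff _).2 ⟨x, ⟨hle hx, hE1h ⟨x, hx⟩⟩, hx0⟩
  have hann1 : LinearMap.range h ⊔ A0 ≤ annOf D1 := by
    refine sup_le ?_ fun u hu => mem_annOf.2 fun e he => mem_annOf.1 hu e he.1
    rintro _ ⟨u, rfl⟩
    exact mem_annOf.2 fun e he => DFunLike.congr_fun (LinearMap.mem_ker.1 he.2 : e * h = 0) u
  set R1 := LinearMap.range h ⊔ A0 with hR1
  have hR1τ : R1 ≤ R1.comap τ := by
    refine sup_le ?_ fun u hu => Submodule.mem_sup_right (hA0 u hu)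
    rintro _ ⟨u, rfl⟩
    refine Submodule.mem_sup_left ⟨τ u, ?_⟩
    show h (τ u) = τ (h u)
    rw [← Module.End.mul_apply, ← Module.End.mul_apply]
    exact congrFun (congrArg DFunLike.coe
      (show Commute h τ from aeval_comm τ q).eq) u
  -- the quotient
  haveI : Finite (U ⧸ R1) := Finite.of_surjective _ (Submodule.Quotient.mk_surjective R1)
  obtain ⟨a, ha⟩ := exists_card_eq_pow (R1.mapQ R1 τ hR1τ) hq (by
    refine LinearMap.ext fun y => ?_
    obtain ⟨u, rfl⟩ := Submodule.Quotient.mk_surjective R1 y
    have key : ∀ (p : F2[X]) (u : U), aeval (R1.mapQ R1 τ hR1τ) p (Submodule.Quotient.mk u) =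
        Submodule.Quotient.mk (aeval τ p u) := by
      intro p
      induction p using Polynomial.induction_on' with
      | add a b ha hb => intro u; simp only [map_add, LinearMap.add_apply, ha, hb, Submodule.Quotient.mk_add]
      | monomial k c =>
        intro u
        simp only [aeval_monomial, ← Algebra.smul_def, LinearMap.smul_apply]
        rw [Submodule.Quotient.mk_smul]
        congr 1
        induction k generalizing u with
        | zero => simp
        | succ k ih => rw [pow_succ, pow_succ, Module.End.mul_apply, Module.End.mul_apply, Submodule.mapQ_apply, ih]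
    rw [key, LinearMap.zero_apply, Submodule.Quotient.mk_eq_zero]
    exact Submodule.mem_sup_left ⟨u, rfl⟩)
  obtain ⟨b, hb⟩ := exists_card_eq_pow (M := D1)
    { toFun := fun e => ⟨(e : Module.End F2 U) * τ, hτ _ e.2.1, by
        show (e : Module.End F2 U) * τ * h = 0
        rw [mul_assoc, (show Commute τ h from (aeval_comm τ q).symm).eq,
          ← mul_assoc, show (e : Module.End F2 U) * h = 0 from e.2.2, zero_mul]⟩
      map_add' := fun x y => Subtype.ext (add_mul _ _ _)
      map_smul' := fun c x => Subtype.ext (smul_mul_assoc c _ _) } hq (by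
    refine LinearMap.ext fun x => Subtype.ext ?_
    have key : ∀ (p : F2[X]) (T : Module.End F2 D1), (∀ y, ((T y : D1) : Module.End F2 U) = (y : Module.End F2 U) * τ) →
        ∀ y, ((aeval T p y : D1) : Module.End F2 U) = (y : Module.End F2 U) * aeval τ p := by
      intro p T hT
      induction p using Polynomial.induction_on' with
      | add a b ha hb => intro y; rw [map_add, map_add, LinearMap.add_apply, Submodule.coe_add, ha, hb, mul_add]
      | monomial k c =>
        intro y
        rw [aeval_monomial, aeval_monomial, ← Algebra.smul_def, ← Algebra.smul_def, LinearMap.smul_apply,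
          Submodule.coe_smul, mul_smul_comm]
        congr 1
        induction k generalizing y with
        | zero => simp
        | succ k ih => rw [pow_succ, pow_succ', Module.End.mul_apply, ih, hT, mul_assoc]
    rw [key q _ (fun y => rfl), LinearMap.zero_apply, ZeroMemClass.coe_zero]
    exact x.2.2)
  have hU1 := Submodule.card_eq_card_quotient_mul_card R1
  have h1 : Nat.card D1 * 2 ^ q.natDegree ≤ Nat.card (U ⧸ R1) := by
    have h2 : Nat.card D1 * Nat.card R1 < Nat.card (U ⧸ R1) * Nat.card R1 := by
      refine lt_of_le_of_lt ?_ ((hstr D1 inf_le_left hD1ne).trans_eq (by rw [hU1, mul_comm]))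
      exact Nat.mul_le_mul_left _ (Nat.card_mono (Set.toFinite _) hann1)
    have h3 := Nat.lt_of_mul_lt_mul_right h2
    rw [ha, hb] at h3 ⊢
    rw [← pow_succ]
    exact Nat.pow_le_pow_right (Nat.two_pow_pos _)
      (Nat.succ_le_of_lt ((Nat.pow_lt_pow_iff_right (Nat.one_lt_two_pow (hq.natDegree_pos.ne'))).1 h3))
  have h2 : Nat.card D2 * Nat.card (A0.comap h) ≤ Nat.card U := by
    rcases eq_or_ne D2 ⊥ with e | e
    · rw [e, Nat.card_unique, one_mul]
      exact Nat.card_le_card_of_injective _ Subtype.val_injective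
    refine le_trans (Nat.mul_le_mul_left _ (Nat.card_mono (Set.toFinite _) ?_)) (hstr D2 ?_ e).le
    · intro u hu
      refine mem_annOf.2 ?_
      rintro _ ⟨e', he', rfl⟩
      exact mem_annOf.1 hu e' he'
    · rintro _ ⟨e', he', rfl⟩
      exact hEh e' he'
  have hcard : Nat.card E = Nat.card D1 * Nat.card D2 := by
    rw [Submodule.card_eq_card_quotient_mul_card (LinearMap.ker (μ.domRestrict E))]
    refine congrArg₂ (· * ·) (Nat.card_congr ?_) ?_
    · exact
        { toFun := fun x => ⟨(x : E), (x : E).2, x.2⟩
          invFun := fun x => ⟨⟨x, x.2.1⟩, x.2.2⟩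
          left_inv := fun _ => rfl
          right_inv := fun _ => rfl }
    · rw [Nat.card_congr (LinearMap.quotKerEquivRange (μ.domRestrict E)).toEquiv, LinearMap.range_domRestrict]
  have hsplit : Nat.card A0 * Nat.card U ≤ Nat.card R1 * Nat.card (A0.comap h) := by
    let p : A0.comap h →ₗ[F2] A0 :=
      { toFun := fun u => ⟨h u, u.2⟩
        map_add' := fun x y => Subtype.ext (map_add h _ _)
        map_smul' := fun c x => Subtype.ext (map_smul h c _) }
    have e1 := Submodule.card_eq_card_quotient_mul_card (LinearMap.ker p)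
    have e2 : Nat.card (LinearMap.ker p) = Nat.card (LinearMap.ker h) := Nat.card_congr
      { toFun := fun x => ⟨x.1.1, congrArg Subtype.val (LinearMap.mem_ker.1 x.2)⟩
        invFun := fun x => ⟨⟨x.1, by show h x.1 ∈ A0; rw [LinearMap.mem_ker.1 x.2]; exact A0.zero_mem⟩,
          LinearMap.mem_ker.2 (Subtype.ext (LinearMap.mem_ker.1 x.2))⟩
        left_inv := fun _ => rfl
        right_inv := fun _ => rfl }
    have e3 := (Nat.card_congr p.quotKerEquivRange.toEquiv)
    have e4 := Submodule.card_eq_card_quotient_mul_card (LinearMap.ker h)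
    have e5 := Nat.card_congr h.quotKerEquivRange.toEquiv
    have e6 : Nat.card (LinearMap.range p) = Nat.card ↥(LinearMap.range h ⊓ A0) := Nat.card_congr
      { toFun := fun x => ⟨x.1.1, by obtain ⟨y, hy⟩ := x.2; exact ⟨⟨y.1, congrArg Subtype.val hy⟩, x.1.2⟩⟩
        invFun := fun x => ⟨⟨x.1, x.2.2⟩, by
          obtain ⟨y, hy⟩ := x.2.1
          exact ⟨⟨y, show h y ∈ A0 by rw [hy]; exact x.2.2⟩, Subtype.ext hy⟩⟩
        left_inv := fun _ => rfl
        right_inv := fun _ => rfl }
    have e7 : Nat.card ↥(LinearMap.range h) * Nat.card A0 =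
        Nat.card R1 * Nat.card ↥(LinearMap.range h ⊓ A0) := by
      rw [Module.natCard_eq_pow_finrank (K := F2), Module.natCard_eq_pow_finrank (K := F2) (V := A0),
        Module.natCard_eq_pow_finrank (K := F2) (V := R1),
        Module.natCard_eq_pow_finrank (K := F2) (V := ↥(LinearMap.range h ⊓ A0)), ← pow_add, ← pow_add,
        Submodule.finrank_sup_add_finrank_inf_eq]
    rw [e2, e3, e6] at e1
    rw [e5] at e4
    rw [e1, e4]
    exact le_of_eq (by linear_combination (Nat.card (LinearMap.ker h)) * e7)
  rw [hcard, ← hqd]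
  refine Nat.le_of_mul_le_mul_left ?_ (Nat.card_pos : 0 < Nat.card U)
  calc Nat.card U * (Nat.card D1 * Nat.card D2 * 2 ^ q.natDegree * Nat.card A0)
      = (Nat.card D1 * 2 ^ q.natDegree) * Nat.card D2 * (Nat.card A0 * Nat.card U) := by ring
    _ ≤ Nat.card (U ⧸ R1) * Nat.card D2 * (Nat.card R1 * Nat.card (A0.comap h)) :=
        Nat.mul_le_mul (Nat.mul_le_mul_right _ h1) hsplit
    _ = Nat.card U * (Nat.card D2 * Nat.card (A0.comap h)) := by rw [hU1]; ring
    _ ≤ Nat.card U * Nat.card U := Nat.mul_le_mul_left _ h2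

end CfsgLib.S3Free
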