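import Cfsg.Agent.Lib.S3Free.Pair
import Cfsg.Agent.Lib.S3Free.Gen
import Cfsg.Agent.Lib.S3Free.Semistable
import Cfsg.Agent.Lib.Products

/-!
The core of the argument that a finite group without a section `S₃` and without normal 2-subgroup
has no offender.

`X` acts faithfully on `V = ⟨W ^ X⟩`, the subgroup `M` stabilises `W` and contains every proper
overgroup of the quadratic offender `B`, which fixes `W`; 2-subgroups of `T` act on `W` without
offence.
-/

set_option autoImplicit false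
set_option linter.unusedSectionVars false
set_option maxHeartbeats 1000000

namespace CfsgLib.S3Free

open CfsgLib CfsgLib.Local CfsgLib.OffenderTwo Cfsg

universe u v

variable {X : Type u} [Group X] {V : Type v} [CommGroup V]

/-- Subgroups of `T` inducing elementary abelian groups on `W` are strictly non-offending. -/
def Strict (φ : X →* MulAut V) (T : Subgroup X) (W : Subgroup V) : Prop :=
  ∀ D : Subgroup X, D ≤ T → (∀ a ∈ D, a * a ∈ stab φ W) →
    (∀ a ∈ D, ∀ b ∈ D, a * b * a⁻¹ * b⁻¹ ∈ stab φ W) → ¬ D ≤ stab φ W →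
    Nat.card D * Nat.card ↥(W ⊓ fix φ D) < Nat.card W * Nat.card ↥(D ⊓ stab φ W)

/-- The translate of `W`. -/
abbrev tr (φ : X →* MulAut V) (x : X) (W : Subgroup V) : Subgroup V := W.map (φ x).toMonoidHom

theorem mem_tr {φ : X →* MulAut V} {x : X} {W : Subgroup V} {v : V} :
    v ∈ tr φ x W ↔ φ x⁻¹ v ∈ W := by
  constructor
  · rintro ⟨w, hw, rfl⟩
    show φ x⁻¹ (φ x w) ∈ W
    rwa [map_inv, MulAut.inv_apply_self]
  · intro h
    exact ⟨_, h, by show φ x (φ x⁻¹ v) = v; rw [map_inv, MulAut.apply_inv_self]⟩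

/-- The elements moving `V` into the fixed vectors of `X`. -/
def chainStab (φ : X →* MulAut V) : Subgroup X where
  carrier := {x | ∀ v : V, φ x v / v ∈ fix φ (⊤ : Subgroup X)}
  one_mem' := fun v => by simp
  mul_mem' := fun {x y} hx hy v => by
    have e : φ (x * y) v / v = φ x (φ y v) / φ y v * (φ y v / v) := by
      rw [map_mul, MulAut.mul_apply, div_mul_div_cancel]
    rw [e]
    exact Subgroup.mul_mem _ (hx _) (hy v)
  inv_mem' := fun {x} hx v => by
    have := Subgroup.inv_mem _ (hx (φ x⁻¹ v))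
    simpa [map_inv] using this

theorem mem_chainStab {φ : X →* MulAut V} {x : X} :
    x ∈ chainStab φ ↔ ∀ v : V, φ x v / v ∈ fix φ (⊤ : Subgroup X) := Iff.rfl

theorem chainStab_conj {φ : X →* MulAut V} {x : X} (hx : x ∈ chainStab φ) (g : X) (v : V) :
    φ (g * x * g⁻¹) v / v = φ x (φ g⁻¹ v) / φ g⁻¹ v := by
  have e : φ (g * x * g⁻¹) v / v = φ g (φ x (φ g⁻¹ v) / φ g⁻¹ v) := by
    rw [map_div, map_mul, map_mul, MulAut.mul_apply, MulAut.mul_apply, map_inv, MulAut.apply_inv_self]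
  rw [e, (hx (φ g⁻¹ v)) g (Subgroup.mem_top g)]

instance chainStab_normal (φ : X →* MulAut V) : (chainStab φ).Normal :=
  ⟨fun x hx g v => by rw [chainStab_conj hx g v]; exact hx _⟩

theorem chainStab_comm {φ : X →* MulAut V} (hinj : Function.Injective φ) {x y : X} (hx : x ∈ chainStab φ)
    (hy : y ∈ chainStab φ) : x * y = y * x := by
  refine hinj (MulEquiv.ext fun v => ?_)
  have key : ∀ a b : X, a ∈ chainStab φ → b ∈ chainStab φ → φ (a * b) v = v * (φ a v / v) * (φ b v / v) := by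
    intro a b ha hb
    rw [map_mul, MulAut.mul_apply]
    conv_lhs => rw [show φ b v = v * (φ b v / v) by rw [mul_div_cancel]]
    rw [map_mul, (hb v) a (Subgroup.mem_top a), mul_div_cancel v (φ a v)]
  rw [key x y hx hy, key y x hy hx, mul_right_comm]

theorem chainStab_sq {φ : X →* MulAut V} (hinj : Function.Injective φ) (h2 : ∀ v : V, v * v = 1) {x : X}
    (hx : x ∈ chainStab φ) : x * x = 1 := by
  refine hinj (MulEquiv.ext fun v => ?_)
  rw [map_one, MulAut.one_apply, map_mul, MulAut.mul_apply]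
  have h := hx v x (Subgroup.mem_top x)
  rw [map_div, div_eq_iff_eq_mul] at h
  rw [h, div_mul_eq_mul_div, h2, one_div]
  exact inv_eq_of_mul_eq_one_right (h2 v)

variable [Finite X] [Finite V] {φ : X →* MulAut V}

/-- Telescoping along the translates of `W`. -/
theorem strict_tele (hinj : Function.Injective φ) {W : Subgroup V}
    (hgen : (⨆ x : X, tr φ x W) = ⊤) {T : Subgroup X} (hstr : Strict φ T W) :
    ∀ D : Subgroup X, (∀ a ∈ D, a * a = 1) → (∀ a ∈ D, ∀ b ∈ D, a * b = b * a) →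
      (∀ x : X, ∀ d ∈ D, x * d * x⁻¹ ∈ T) → D ≠ ⊥ →
      Nat.card D * Nat.card (fix φ D) < Nat.card V := by
  intro D
  induction hn : Nat.card D using Nat.strong_induction_on generalizing D with
  | _ n ih =>
  subst hn
  intro hsq hcomm hT hne
  obtain ⟨x, hx⟩ : ∃ x : X, ¬ D ≤ stab φ (tr φ x W) := by
    by_contra hall
    push Not at hall
    refine hne ((Subgroup.eq_bot_iff_forall D).2 fun d hd => hinj (MulEquiv.ext fun v => ?_))
    rw [map_one, MulAut.one_apply]
    have hle : (⨆ x : X, tr φ x W) ≤ fix φ (Subgroup.zpowers d) := by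
      refine iSup_le fun x w hw => ?_
      refine fun z hz => ?_
      obtain ⟨k, rfl⟩ := Subgroup.mem_zpowers_iff.1 hz
      exact (Subgroup.zpow_mem _ hd k |> hall x) w hw
    rw [hgen] at hle
    exact hle (Subgroup.mem_top v) d (Subgroup.mem_zpowers d)
  set U := tr φ x W
  set D0 := D.map (MulAut.conj x⁻¹).toMonoidHom with hD0
  have hmem0 : ∀ {d : X}, d ∈ D → x⁻¹ * d * x ∈ D0 := fun {d} hd => ⟨d, hd, by simp⟩
  have h0stab : ∀ d : X, x⁻¹ * d * x ∈ stab φ W ↔ d ∈ stab φ U := by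
    intro d
    constructor
    · rintro h _ ⟨w, hw, rfl⟩
      have := h w hw
      rw [map_mul, map_mul, MulAut.mul_apply, MulAut.mul_apply, map_inv] at this
      show φ d (φ x w) = φ x w
      conv_rhs => rw [← this]
      rw [MulAut.apply_inv_self]
    · intro h w hw
      rw [map_mul, map_mul, MulAut.mul_apply, MulAut.mul_apply,
        show φ d (φ x w) = φ x w from h _ ⟨w, hw, rfl⟩, map_inv, MulAut.inv_apply_self]
  have hD0T : D0 ≤ T := by
    rintro _ ⟨d, hd, rfl⟩
    simpa using hT x⁻¹ d hd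
  have h := hstr D0 hD0T
    (by rintro _ ⟨d, hd, rfl⟩; rw [← map_mul, hsq d hd, map_one]; exact one_mem _)
    (by
      rintro _ ⟨a, ha, rfl⟩ _ ⟨b, hb, rfl⟩
      rw [← map_inv, ← map_inv, ← map_mul, ← map_mul, ← map_mul, hcomm a ha b hb,
        mul_inv_cancel_right, mul_inv_cancel, map_one]
      exact one_mem _)
    (fun hle => hx fun d hd => (h0stab d).1 (hle (hmem0 hd)))
  set D1 := D ⊓ stab φ U
  have e1 : Nat.card D0 = Nat.card D := Subgroup.card_map_of_injective (MulAut.conj x⁻¹).injective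
  have e2 : Nat.card ↥(D0 ⊓ stab φ W) = Nat.card D1 := by
    have : D0 ⊓ stab φ W = D1.map (MulAut.conj x⁻¹).toMonoidHom := by
      ext y
      constructor
      · rintro ⟨⟨d, hd, rfl⟩, hy⟩
        refine ⟨d, ⟨hd, (h0stab d).1 ?_⟩, rfl⟩
        simpa using hy
      · rintro ⟨d, ⟨hd, hs⟩, rfl⟩
        exact ⟨⟨d, hd, rfl⟩, by simpa using (h0stab d).2 hs⟩
    rw [this, Subgroup.card_map_of_injective (MulAut.conj x⁻¹).injective]
  have e3 : Nat.card ↥(W ⊓ fix φ D0) = Nat.card ↥(U ⊓ fix φ D) := by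
    have : U ⊓ fix φ D = (W ⊓ fix φ D0).map (φ x).toMonoidHom := by
      rw [Subgroup.map_inf _ _ _ (φ x).injective, hD0, fix_map_conj]
      congr 1
      rw [Subgroup.map_map]
      conv_lhs => rw [← Subgroup.map_id (fix φ D)]
      congr 1
      refine MonoidHom.ext fun v => ?_
      show v = φ x (φ x⁻¹ v)
      rw [map_inv, MulAut.apply_inv_self]
    rw [this, Subgroup.card_map_of_injective (φ x).injective]
  have e4 : Nat.card U = Nat.card W := Subgroup.card_map_of_injective (φ x).injective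
  rw [e1, e2, e3, ← e4] at h
  have h1 : Nat.card D1 * Nat.card (fix φ D1) ≤ Nat.card V := by
    rcases eq_or_ne D1 ⊥ with e | e
    · rw [e, Subgroup.card_bot, one_mul]
      exact Subgroup.card_le_card_group _
    · refine (ih _ ?_ D1 rfl (fun a ha => hsq a ha.1) (fun a ha b hb => hcomm a ha.1 b hb.1)
        (fun y d hd => hT y d hd.1) e).le
      exact lt_of_le_of_ne (Subgroup.card_le_of_le inf_le_left) fun e' =>
        hx ((Subgroup.eq_of_le_of_card_ge inf_le_left e'.ge : D1 = D) ▸ inf_le_right)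
  have hsup : U ⊔ fix φ D ≤ fix φ D1 :=
    sup_le (fun w hw d hd => hd.2 w hw) (fix_anti inf_le_left)
  have hb := Products.card_mul_card_le U (fix φ D)
  refine Nat.lt_of_mul_lt_mul_right (a := Nat.card ↥(U ⊓ fix φ D)) ?_
  calc Nat.card D * Nat.card (fix φ D) * Nat.card ↥(U ⊓ fix φ D)
      = Nat.card D * Nat.card ↥(U ⊓ fix φ D) * Nat.card (fix φ D) := by ring
    _ < Nat.card U * Nat.card D1 * Nat.card (fix φ D) := Nat.mul_lt_mul_of_pos_right h Nat.card_pos
    _ = Nat.card D1 * (Nat.card U * Nat.card (fix φ D)) := by ring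
    _ ≤ Nat.card D1 * (Nat.card (fix φ D1) * Nat.card ↥(U ⊓ fix φ D)) :=
        Nat.mul_le_mul_left _ (hb.trans (Nat.mul_le_mul_right _ (Subgroup.card_le_of_le hsup)))
    _ = Nat.card D1 * Nat.card (fix φ D1) * Nat.card ↥(U ⊓ fix φ D) := by ring
    _ ≤ _ := Nat.mul_le_mul_right _ h1

/-- The hypotheses on the offender and the stabiliser of `W`. -/
structure Cfg (φ : X →* MulAut V) (T : Sylow 2 X) (W : Subgroup V) (M B : Subgroup X) : Prop where
  inj : Function.Injective φ
  two : ∀ v : V, v * v = 1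
  gen : (⨆ x : X, tr φ x W) = ⊤
  proper : M ≠ ⊤
  stabW : ∀ m ∈ M, ∀ w ∈ W, φ m w ∈ W
  hTM : (T : Subgroup X) ≤ M
  hNT : Subgroup.normalizer ((T : Subgroup X) : Set X) ≤ M
  hBT : B ≤ (T : Subgroup X)
  ne : B ≠ ⊥
  sq : ∀ a ∈ B, a * a = 1
  quad : ∀ a ∈ B, ∀ v : V, φ a v / v ∈ fix φ B
  big : Nat.card V ≤ Nat.card B * Nat.card (fix φ B)
  ovr : ∀ H : Subgroup X, H ≠ ⊤ → B ≤ H → H ≤ M
  fixW : W ≤ fix φ B
  str : Strict φ (T : Subgroup X) W

variable {T : Sylow 2 X} {W : Subgroup V} {M B : Subgroup X} (h : Cfg φ T W M B)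

include h

theorem Cfg.normalizer_eq : Subgroup.normalizer (M : Set X) = M := by
  haveI : Fact (Nat.Prime 2) := ⟨Nat.prime_two⟩
  refine le_antisymm (h.ovr _ ?_ ((h.hBT.trans h.hTM).trans Subgroup.le_normalizer)) Subgroup.le_normalizer
  intro e
  haveI := Subgroup.normalizer_eq_top_iff.1 e
  refine h.proper (top_le_iff.1 ?_)
  rw [← Sylow.normalizer_sup_eq_top' T h.hTM]
  exact sup_le h.hNT le_rfl

theorem Cfg.mem_of_cj_le {g : X} (hg : cj B g ≤ M) : g ∈ M := by
  have hg' : g⁻¹ ∈ Subgroup.normalizer (M : Set X) := by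
    refine mem_normalizer_of_map_conj_eq (Subgroup.eq_of_le_of_card_ge ?_
      (Subgroup.card_map_of_injective (MulAut.conj g⁻¹).injective).ge)
    refine h.ovr _ (fun e => h.proper ?_) fun a ha => mem_map_conj.2 ?_
    · refine top_le_iff.1 fun x _ => ?_
      have hx : g⁻¹ * x * g ∈ M.map (MulAut.conj g⁻¹).toMonoidHom := e ▸ Subgroup.mem_top _
      simpa [mul_assoc] using mem_map_conj.1 hx
    · simpa [mul_assoc] using hg ⟨a, ha, rfl⟩
  rw [h.normalizer_eq] at hg'
  simpa using M.inv_mem hg'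

theorem Cfg.gen_pair {g : X} (hg : g ∉ M) : B ⊔ cj B g = ⊤ := by
  by_contra hne
  exact hg (h.mem_of_cj_le (le_sup_right.trans (h.ovr _ hne le_sup_left)))

theorem Cfg.meet {x y : X} (hxy : x⁻¹ * y ∉ M) {w : V} (hx : w ∈ fix φ (cj B x))
    (hy : w ∈ fix φ (cj B y)) : w ∈ fix φ (⊤ : Subgroup X) := by
  rw [fix_map_conj] at hx hy
  obtain ⟨v, hv, rfl⟩ := hx
  obtain ⟨v', hv', he⟩ := hy
  have he' : φ y v' = φ x v := he
  have hv2 : v ∈ fix φ (cj B (x⁻¹ * y)) := by
    rw [fix_map_conj]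
    refine ⟨v', hv', ?_⟩
    show φ (x⁻¹ * y) v' = v
    rw [map_mul, MulAut.mul_apply, he', map_inv, MulAut.inv_apply_self]
  have hle : B ⊔ cj B (x⁻¹ * y) ≤ (MulAction.stabilizer (MulAut V) v).comap φ :=
    sup_le (fun a ha => hv a ha) (fun a ha => hv2 a ha)
  rw [h.gen_pair hxy] at hle
  intro b _
  have h1 : φ (b * x) v = v := hle (Subgroup.mem_top (b * x))
  have h2 : φ x v = v := hle (Subgroup.mem_top x)
  show φ b (φ x v) = φ x v
  rw [← MulAut.mul_apply, ← map_mul, h1, h2]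

theorem Cfg.fix_inf {x : X} (hx : x ∉ M) :
    fix φ B ⊓ fix φ (cj B x) = fix φ (⊤ : Subgroup X) := by
  refine le_antisymm (fun w hw => h.meet (x := 1) (y := x) (by simpa using hx) ?_ hw.2)
    (le_inf (fix_anti le_top) (fix_anti le_top))
  rw [show cj B 1 = B by ext y; simp [cj]]
  exact hw.1

theorem Cfg.card_fix_cj (x : X) : Nat.card (fix φ (cj B x)) = Nat.card (fix φ B) := by
  rw [cj, fix_map_conj, Subgroup.card_map_of_injective (φ x).injective]

theorem Cfg.fix_sup {x : X} (hx : x ∉ M) : fix φ B ⊔ fix φ (cj B x) = ⊤ := by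
  set P := fix φ B
  set U := P ⊔ fix φ (cj B x)
  let S : Subgroup X :=
    { carrier := {b | ∀ w ∈ U, φ b w ∈ U}
      one_mem' := fun w hw => by simpa using hw
      mul_mem' := fun {a b} ha hb w hw => by rw [map_mul, MulAut.mul_apply]; exact ha _ (hb w hw)
      inv_mem' := fun {b} hb w hw => by
        have e : U.map (φ b).toMonoidHom = U :=
          Subgroup.eq_of_le_of_card_ge (by rintro _ ⟨w, hw, rfl⟩; exact hb w hw)
            (Subgroup.card_map_of_injective (φ b).injective).ge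
        obtain ⟨w', hw', rfl⟩ := e.symm ▸ hw
        show φ b⁻¹ (φ b w') ∈ U
        rwa [map_inv, MulAut.inv_apply_self] }
  have hS : S = ⊤ := by
    refine top_le_iff.1 (h.gen_pair hx ▸ sup_le (fun a ha w hw => ?_) ?_)
    · rw [show φ a w = φ a w / w * w by simp]
      exact U.mul_mem (Subgroup.mem_sup_left (h.quad a ha w)) hw
    · rintro _ ⟨a, ha, rfl⟩ w hw
      show φ (x * a * x⁻¹) w ∈ U
      rw [show φ (x * a * x⁻¹) w = φ (x * a * x⁻¹) w / w * w by simp]
      refine U.mul_mem (Subgroup.mem_sup_right ?_) hw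
      rw [cj, fix_map_conj]
      refine ⟨φ a (φ x⁻¹ w) / φ x⁻¹ w, h.quad a ha _, ?_⟩
      show φ x (φ a (φ x⁻¹ w) / φ x⁻¹ w) = φ (x * a * x⁻¹) w / w
      rw [map_div, map_mul, map_mul, MulAut.mul_apply, MulAut.mul_apply, map_inv, MulAut.apply_inv_self]
  refine top_le_iff.1 (h.gen ▸ iSup_le fun y => ?_)
  rintro _ ⟨w, hw, rfl⟩
  exact (show y ∈ S from hS ▸ Subgroup.mem_top y) w (Subgroup.mem_sup_left (h.fixW hw))

theorem Cfg.card_eq {x : X} (hx : x ∉ M) :
    Nat.card V * Nat.card (fix φ (⊤ : Subgroup X)) = Nat.card (fix φ B) * Nat.card (fix φ B) := by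
  have e := card_sup_inf (fix φ B) (fix φ (cj B x))
  rw [h.fix_sup hx, h.fix_inf hx, h.card_fix_cj, Subgroup.card_top] at e
  exact e

/-- Elements of `B` in the core of `M` move `V` into the fixed vectors. -/
theorem Cfg.core_le {a : X} (ha : a ∈ B) (hK : a ∈ M.normalCore) : a ∈ chainStab φ := by
  intro v
  let U : Subgroup V :=
    { carrier := {v | φ a v / v ∈ fix φ (⊤ : Subgroup X)}
      one_mem' := by simp
      mul_mem' := fun {p q} hp hq => by
        show φ a (p * q) / (p * q) ∈ fix φ (⊤ : Subgroup X)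
        rw [map_mul, mul_div_mul_comm]
        exact Subgroup.mul_mem _ hp hq
      inv_mem' := fun {p} hp => by
        show φ a p⁻¹ / p⁻¹ ∈ fix φ (⊤ : Subgroup X)
        rw [map_inv, div_inv_eq_mul, mul_comm, ← div_eq_mul_inv, ← inv_div]
        exact Subgroup.inv_mem _ hp }
  suffices hle : (⨆ x : X, tr φ x W) ≤ U from hle (h.gen ▸ Subgroup.mem_top v)
  refine iSup_le fun y u hu => ?_
  show φ a u / u ∈ fix φ (⊤ : Subgroup X)
  have hu' := mem_tr.1 hu
  by_cases hy : y ∈ M
  · have huW : u ∈ W := by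
      have := h.stabW y hy _ hu'
      rwa [map_inv, MulAut.apply_inv_self] at this
    rw [h.fixW huW a ha, div_self']
    exact one_mem _
  · have hd : φ a u / u ∈ tr φ y W := by
      refine Subgroup.div_mem _ (mem_tr.2 ?_) hu
      have hm : y⁻¹ * a * y ∈ M := by
        have := M.normalCore_le ((inferInstance : M.normalCore.Normal).conj_mem a hK y⁻¹)
        simpa using this
      have := h.stabW _ hm _ hu'
      simp only [map_mul, MulAut.mul_apply, map_inv, MulAut.apply_inv_self] at this ⊢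
      exact this
    have hy' : φ a u / u ∈ fix φ (cj B y) := by
      rw [cj, fix_map_conj]
      obtain ⟨w, hw, e⟩ := hd
      exact ⟨w, h.fixW hw, e⟩
    exact (h.fix_inf hy).le ⟨h.quad a ha u, hy'⟩

/-- An element of `B` outside the core moves every vector outside the centre. -/
theorem Cfg.strong {a : X} (ha : a ∈ B) (hE : a ∉ chainStab φ) {x : X} (hx : x ∉ M) {v : V}
    (hv : v ∈ fix φ (cj B x)) (hd : φ a v / v ∈ fix φ (⊤ : Subgroup X)) : v ∈ fix φ (⊤ : Subgroup X) := by
  by_contra hvC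
  refine hE (h.core_le ha fun y => ?_)
  show y * a * y⁻¹ ∈ M
  by_cases hy : y⁻¹ ∈ M
  · exact M.mul_mem (M.mul_mem (by simpa using M.inv_mem hy) (h.hTM (h.hBT ha))) hy
  by_contra hne
  have hvW : v ∈ fix φ B ⊔ fix φ (cj B y⁻¹) := h.fix_sup hy ▸ Subgroup.mem_top v
  obtain ⟨p, hp, w, hw, rfl⟩ := Subgroup.mem_sup.1 hvW
  have hwC : w ∉ fix φ (⊤ : Subgroup X) := fun hwC => hvC ((h.fix_inf hx).le
    ⟨(fix φ B).mul_mem hp (fix_anti le_top hwC), hv⟩)
  have e : φ a (p * w) / (p * w) = φ a w / w := by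
    rw [map_mul, hp a ha, mul_div_mul_left_eq_div]
  rw [e] at hd
  refine hwC (mem_fix_top_of_apply (x := a) ?_)
  refine h.meet (x := y⁻¹) (y := a * y⁻¹) (by simpa [mul_assoc] using hne) ?_ ?_
  · rw [show φ a w = φ a w / w * w by simp]
    exact Subgroup.mul_mem _ (fix_anti le_top hd) hw
  · rw [cj, fix_map_conj] at hw ⊢
    obtain ⟨q, hq, rfl⟩ := hw
    refine ⟨q, hq, ?_⟩
    show φ (a * y⁻¹) q = φ a (φ y⁻¹ q)
    rw [map_mul, MulAut.mul_apply]

end CfsgLib.S3Free
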