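import Cfsg.Agent.Lib.S3Free.Core

/-!
The configuration of `Core` forces a section `S₃`.
-/

set_option autoImplicit false
set_option linter.unusedSectionVars false
set_option maxHeartbeats 1000000

namespace CfsgLib.S3Free

open CfsgLib CfsgLib.Local CfsgLib.OffenderTwo Cfsg
open scoped IsMulCommutative

universe u v

variable {X : Type u} [Group X] [Finite X] {V : Type v} [CommGroup V] [Finite V]
  {φ : X →* MulAut V} {T : Sylow 2 X} {W : Subgroup V} {M B : Subgroup X} (h : Cfg φ T W M B)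

include h

theorem Cfg.chainStab_le (x : X) : ∀ d ∈ chainStab φ, x * d * x⁻¹ ∈ (T : Subgroup X) := by
  haveI : Fact (Nat.Prime 2) := ⟨Nat.prime_two⟩
  have h2 : IsPGroup 2 (chainStab φ) := isPGroup_of_sq fun a ha => chainStab_sq h.inj h.two ha
  exact fun d hd => pCore_le_sylow T (le_pCore h2 ((inferInstance : (chainStab φ).Normal).conj_mem d hd x))

theorem Cfg.tele {D : Subgroup X} (hD : D ≤ chainStab φ) (hne : D ≠ ⊥) :
    Nat.card D * Nat.card (fix φ D) < Nat.card V :=
  strict_tele h.inj h.gen h.str D (fun a ha => chainStab_sq h.inj h.two (hD ha))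
    (fun a ha b hb => chainStab_comm h.inj (hD ha) (hD hb)) (fun x d hd => h.chainStab_le x d (hD hd)) hne

theorem Cfg.exists_outside_chain : ∃ a ∈ B, a ∉ chainStab φ := by
  by_contra hne
  push Not at hne
  exact (h.tele hne h.ne).not_ge h.big

/-- The bound by the counting lemma. -/
theorem Cfg.counting (E1 : Subgroup X) [E1.Normal] (hle : E1 ≤ chainStab φ) (hne : E1 ≠ ⊥)
    (hmin : ∀ N : Subgroup X, N.Normal → N ≤ E1 → N = ⊥ ∨ N = E1) :
    Nat.card (chainStab φ) * Nat.card E1 * Nat.card (fix φ (chainStab φ)) ≤ Nat.card V := by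
  classical
  letI : Module (ZMod 2) (Additive V) := AddCommGroup.zmodModule (n := 2) fun v => by
    rw [two_nsmul]; exact h.two v
  set E := chainStab φ with hE
  let lin : (V →* V) → Module.End (ZMod 2) (Additive V) := fun f => (MonoidHom.toAdditive f).toZModLinearMap 2
  have hlin : ∀ (f : V →* V) (v : V), lin f (Additive.ofMul v) = Additive.ofMul (f v) := fun f v => rfl
  let d : X → (V →* V) := fun e => MonoidHom.mk' (fun v => φ e v / v) fun p q => by
    rw [map_mul, mul_div_mul_comm]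
  let δ : X → Module.End (ZMod 2) (Additive V) := fun e => lin (d e)
  have hδ : ∀ e v, δ e (Additive.ofMul v) = Additive.ofMul (φ e v / v) := fun e v => rfl
  have hmul : ∀ {a b : X}, a ∈ E → b ∈ E → δ (a * b) = δ a + δ b := by
    intro a b ha hb
    refine LinearMap.ext fun w => ?_
    induction w using Additive.rec with
    | ofMul v =>
      rw [LinearMap.add_apply, hδ, hδ, hδ, ← ofMul_mul]
      refine congrArg _ ?_
      rw [map_mul, MulAut.mul_apply]
      conv_lhs => rw [show φ b v = v * (φ b v / v) by rw [mul_div_cancel]]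
      rw [map_mul, (hb v) a (Subgroup.mem_top a)]
      exact div_mul_eq_mul_div _ _ _ |>.symm.trans rfl
  have hone : δ 1 = 0 := by
    refine LinearMap.ext fun w => ?_
    induction w using Additive.rec with
    | ofMul v => rw [hδ, map_one, MulAut.one_apply, div_self', ofMul_one, LinearMap.zero_apply]
  have hinj : ∀ {a b : X}, a ∈ E → b ∈ E → δ a = δ b → a = b := fun {a b} _ _ hab => h.inj (MulEquiv.ext fun v => by
    have h1 := congrArg Additive.toMul (LinearMap.congr_fun hab (Additive.ofMul v))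
    rw [hδ, hδ] at h1
    exact div_left_inj.1 h1)
  let sub : ∀ D : Subgroup X, D ≤ E → Submodule (ZMod 2) (Module.End (ZMod 2) (Additive V)) := fun D hD =>
    { carrier := {f | ∃ e ∈ D, δ e = f}
      zero_mem' := ⟨1, D.one_mem, hone⟩
      add_mem' := by
        rintro f f' ⟨a, ha, rfl⟩ ⟨b, hb, rfl⟩
        exact ⟨a * b, D.mul_mem ha hb, hmul (hD ha) (hD hb)⟩
      smul_mem' := by
        rintro c f ⟨a, ha, rfl⟩
        obtain rfl | rfl := f2_cases c
        · exact ⟨1, D.one_mem, by rw [zero_smul, hone]⟩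
        · exact ⟨a, ha, by rw [one_smul]⟩ }
  have hcard : ∀ (D : Subgroup X) (hD : D ≤ E), Nat.card (sub D hD) = Nat.card D := fun D hD =>
    (Nat.card_congr (Equiv.ofBijective (fun e : D => (⟨δ e, e, e.2, rfl⟩ : sub D hD))
      ⟨fun a b hab => Subtype.ext (hinj (hD a.2) (hD b.2) (congrArg Subtype.val hab)),
        fun ⟨f, e, he, hef⟩ => ⟨⟨e, he⟩, Subtype.ext hef⟩⟩)).symm
  have hann : ∀ (D : Subgroup X) (hD : D ≤ E), Nat.card (annOf (sub D hD)) = Nat.card (fix φ D) := fun D hD =>
    Nat.card_congr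
      { toFun := fun w => ⟨Additive.toMul w.1, fun e he => div_eq_one.1
          (congrArg Additive.toMul (mem_annOf.1 w.2 _ ⟨e, he, rfl⟩))⟩
        invFun := fun v => ⟨Additive.ofMul v.1, mem_annOf.2 (by
          rintro _ ⟨e, he, rfl⟩
          rw [hδ, v.2 e he, div_self', ofMul_one])⟩
        left_inv := fun _ => rfl
        right_inv := fun _ => rfl }
  let ρ : X →* Module.End (ZMod 2) (Additive V) :=
    { toFun := fun g => lin (φ g).toMonoidHom
      map_one' := LinearMap.ext fun w => by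
        induction w using Additive.rec with
        | ofMul v => rw [hlin, map_one]; rfl
      map_mul' := fun a b => LinearMap.ext fun w => by
        induction w using Additive.rec with
        | ofMul v => rw [Module.End.mul_apply, hlin, hlin, hlin, map_mul]; rfl }
  have hρ : ∀ g, ∀ e ∈ E, δ e * ρ g = δ (g⁻¹ * e * g) := by
    intro g e he
    refine LinearMap.ext fun w => ?_
    induction w using Additive.rec with
    | ofMul v =>
      rw [Module.End.mul_apply, show ρ g (Additive.ofMul v) = Additive.ofMul (φ g v) from rfl, hδ, hδ]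
      refine congrArg _ ?_
      have e1 := chainStab_conj he g⁻¹ v
      rw [inv_inv] at e1
      exact e1.symm
  have hinv : ∀ (D : Subgroup X) (hD : D ≤ E) [D.Normal], ∀ g, ∀ f ∈ sub D hD, f * ρ g ∈ sub D hD := by
    rintro D hD hn g _ ⟨e, he, rfl⟩
    exact ⟨g⁻¹ * e * g, by simpa using hn.conj_mem e he g⁻¹, (hρ g e (hD he)).symm⟩
  let pre : Submodule (ZMod 2) (Module.End (ZMod 2) (Additive V)) → Subgroup X := fun D =>
    { carrier := {e | e ∈ E ∧ δ e ∈ D}
      one_mem' := ⟨E.one_mem, hone ▸ D.zero_mem⟩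
      mul_mem' := fun {a b} ha hb => ⟨E.mul_mem ha.1 hb.1, hmul ha.1 hb.1 ▸ D.add_mem ha.2 hb.2⟩
      inv_mem' := fun {a} ha => by
        rw [inv_eq_of_mul_eq_one_right (chainStab_sq h.inj h.two ha.1)]
        exact ha }
  have hpreE : ∀ D, pre D ≤ E := fun D e he => he.1
  have hsubpre : ∀ D ≤ sub E le_rfl, sub (pre D) (hpreE D) = D := by
    intro D hD
    refine le_antisymm ?_ fun f hf => ?_
    · rintro _ ⟨e, he, rfl⟩; exact he.2
    · obtain ⟨e, he, rfl⟩ := hD hf
      exact ⟨e, ⟨he, hf⟩, rfl⟩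
  have key := semistable ρ (sub E le_rfl) (sub E1 hle) (hinv E le_rfl)
    (by rintro _ ⟨e, he, rfl⟩; exact ⟨e, hle he, rfl⟩)
    (by
      intro e
      refine hne ((Subgroup.eq_bot_iff_forall E1).2 fun x hx => hinj (hle hx) E.one_mem ?_)
      rw [hone]
      exact (Submodule.eq_bot_iff _).1 e _ ⟨x, hx, rfl⟩)
    (hinv E1 hle)
    (by
      intro D hD hDi
      have hDE : D ≤ sub E le_rfl := hD.trans fun f ⟨e, he, hf⟩ => ⟨e, hle he, hf⟩
      have hle1 : pre D ≤ E1 := fun e he => by
        obtain ⟨e', he', heq⟩ := hD he.2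
        rwa [← hinj (hle he') he.1 heq]
      have hn : (pre D).Normal := ⟨fun e he g => ⟨(inferInstance : E.Normal).conj_mem e he.1 g, by
        have := hDi g⁻¹ _ he.2
        rwa [hρ _ _ he.1, inv_inv] at this⟩⟩
      rcases hmin _ hn hle1 with e | e
      · left
        rw [← hsubpre D hDE]
        refine (Submodule.eq_bot_iff _).2 ?_
        rintro _ ⟨x, hx, rfl⟩
        rw [e, Subgroup.mem_bot] at hx
        rw [hx, hone]
      · right
        refine le_antisymm hD ?_
        rintro _ ⟨x, hx, rfl⟩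
        exact (e.ge hx).2)
    (by
      intro D hD hne'
      rw [← hsubpre D hD, hcard _ (hpreE D), hann _ (hpreE D), Nat.card_congr Additive.toMul]
      refine h.tele (hpreE D) fun e => hne' ?_
      rw [← hsubpre D hD]
      refine (Submodule.eq_bot_iff _).2 ?_
      rintro _ ⟨x, hx, rfl⟩
      rw [e, Subgroup.mem_bot] at hx
      rw [hx, hone])
  rwa [hcard E le_rfl, hcard E1 hle, hann E le_rfl, Nat.card_congr Additive.toMul] at key

/-- The configuration involves `S₃`. -/
theorem Cfg.involves : Involves P3 X := by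
  haveI : Fact (Nat.Prime 2) := ⟨Nat.prime_two⟩
  classical
  set E := chainStab φ with hEdef
  set P := fix φ B with hPdef
  set I := fix φ (⊤ : Subgroup X) with hIdef
  obtain ⟨a0, ha0, ha0E⟩ := h.exists_outside_chain
  have hBM : B ≤ M := h.hBT.trans h.hTM
  rcases eq_or_ne E ⊥ with hE | hE
  · refine Pair.involves (φ := φ) (M := M) (A := B) ⟨h.inj, h.two, ?_, ?_, h.sq, h.ne, h.quad, h.big, hBM,
      h.proper, h.ovr⟩
    · exact fun a ha hK => by simpa [← hEdef, hE] using h.core_le ha hK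
    · exact fun a ha hv => by simpa [← hEdef, hE] using (show a ∈ E from hv)
  obtain ⟨g, hg⟩ : ∃ g, g ∉ M := by
    by_contra hne
    push Not at hne
    exact h.proper (top_le_iff.1 fun x _ => hne x)
  have hIP : I ≤ P := fix_anti le_top
  -- `a0` maps onto `P` modulo `I`
  set Q := fix φ (cj B g)
  let f : Q →* V := MonoidHom.mk' (fun v => φ a0 (v : V) / (v : V)) fun p q => by
    rw [Subgroup.coe_mul, map_mul, mul_div_mul_comm]
  have hker : f.ker = I.subgroupOf Q := by
    ext v
    rw [MonoidHom.mem_ker, Subgroup.mem_subgroupOf]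
    constructor
    · intro hv
      exact h.strong ha0 ha0E hg v.2 (show φ a0 (v : V) / v ∈ I by rw [show φ a0 (v : V) / v = 1 from hv]; exact I.one_mem)
    · intro hv
      show φ a0 (v : V) / v = 1
      rw [hv a0 (Subgroup.mem_top a0), div_self']
  have hfI : f.range ⊓ I = ⊥ := by
    refine (Subgroup.eq_bot_iff_forall _).2 ?_
    rintro _ ⟨⟨v, rfl⟩, hv⟩
    have h1 := h.strong ha0 ha0E hg v.2 hv
    show φ a0 (v : V) / v = 1
    rw [h1 a0 (Subgroup.mem_top a0), div_self']
  have hspan : f.range ⊔ I = P := by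
    refine Subgroup.eq_of_le_of_card_ge (sup_le ?_ hIP) ?_
    · rintro _ ⟨v, rfl⟩
      exact h.quad a0 ha0 _
    have e1 := card_sup_inf f.range I
    rw [hfI, Subgroup.card_bot, mul_one] at e1
    have e2 : Nat.card f.ker * Nat.card f.range = Nat.card Q := by
      rw [← Subgroup.index_ker f]; exact Subgroup.card_mul_index f.ker
    rw [hker, Nat.card_congr (Subgroup.subgroupOfEquivOfLe (fix_anti le_top : I ≤ Q)).toEquiv,
      h.card_fix_cj] at e2
    rw [e1, mul_comm, e2]
  have hInv : ∀ {x : X}, x ∈ E → ∀ i ∈ I, φ x i = i := fun {x} _ i hi => hi x (Subgroup.mem_top x)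
  -- commuting with `B` means fixing `P`
  have hC1 : ∀ e ∈ E, (∀ b ∈ B, b * e = e * b) → e ∈ stab φ P := by
    intro e he hc v hv
    replace hv : v ∈ f.range ⊔ I := hspan.ge hv
    obtain ⟨_, ⟨q, rfl⟩, i, hi, rfl⟩ := Subgroup.mem_sup.1 hv
    rw [map_mul, hInv he i hi]
    congr 1
    show φ e (φ a0 (q : V) / q) = φ a0 (q : V) / q
    have h1 : φ e (φ a0 (q : V)) = φ a0 (φ e (q : V)) := by
      rw [← MulAut.mul_apply, ← map_mul, ← hc a0 ha0, map_mul, MulAut.mul_apply]
    have h3 : φ e (q : V) = φ e (q : V) / q * q := by simp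
    rw [map_div, h1, h3, map_mul, (he q) a0 (Subgroup.mem_top a0), mul_div_mul_left_eq_div]
  have hC2 : ∀ e ∈ E, e ∈ stab φ P → ∀ b ∈ B, b * e = e * b := by
    intro e he hs b hb
    refine h.inj (MulEquiv.ext fun v => ?_)
    rw [map_mul, map_mul, MulAut.mul_apply, MulAut.mul_apply]
    have h3 : φ e v = φ e v / v * v := by simp
    have h4 : φ b v = φ b v / v * v := by simp
    conv_lhs => rw [h3, map_mul, (he v) b (Subgroup.mem_top b)]
    conv_rhs => rw [h4, map_mul, hs _ (h.quad b hb v)]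
    conv_rhs => rw [h3]
    conv_lhs => rw [h4]
    ac_rfl
  -- a minimal normal subgroup
  obtain ⟨E1, hE1⟩ := (Set.toFinite {N : Subgroup X | N.Normal ∧ N ≤ E ∧ N ≠ ⊥}).exists_minimal
    ⟨E, inferInstance, le_rfl, hE⟩
  obtain ⟨hE1n, hE1E, hE1ne⟩ := hE1.prop
  haveI := hE1n
  have hmin : ∀ N : Subgroup X, N.Normal → N ≤ E1 → N = ⊥ ∨ N = E1 := fun N hN hle => by
    rcases eq_or_ne N ⊥ with e | e
    · exact Or.inl e
    · exact Or.inr (le_antisymm hle (hE1.le_of_le ⟨hN, hle.trans hE1E, e⟩ hle))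
  have hcount := h.counting E1 hE1E hE1ne hmin
  set C := E1 ⊓ stab φ P with hCdef
  set Cg := C.map (MulAut.conj g).toMonoidHom
  have hCg : C ⊓ Cg = ⊥ := by
    refine (Subgroup.eq_bot_iff_forall _).2 ?_
    rintro e ⟨hC, c, hc, hce⟩
    refine h.inj (MulEquiv.ext fun v => ?_)
    rw [map_one, MulAut.one_apply]
    have hv : v ∈ P ⊔ fix φ (cj B g) := h.fix_sup hg ▸ Subgroup.mem_top v
    obtain ⟨p, hp, q, hq, rfl⟩ := Subgroup.mem_sup.1 hv
    rw [map_mul, hC.2 p hp]
    congr 1
    rw [cj, fix_map_conj] at hq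
    obtain ⟨w, hw, rfl⟩ := hq
    rw [← hce]
    show φ (g * c * g⁻¹) (φ g w) = φ g w
    rw [map_mul, map_mul, MulAut.mul_apply, MulAut.mul_apply, map_inv, MulAut.inv_apply_self, hc.2 w hw]
  have hcomm : ∀ b ∈ B, ∀ e ∈ E1, b * e * b⁻¹ * e⁻¹ ∈ C := by
    intro b hb e he
    refine ⟨E1.mul_mem (hE1n.conj_mem e he b) (E1.inv_mem he), fun p hp => ?_⟩
    have he' : e⁻¹ = e := inv_eq_of_mul_eq_one_right (chainStab_sq h.inj h.two (hE1E he))
    have hb' : b⁻¹ = b := inv_eq_of_mul_eq_one_right (h.sq b hb)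
    have hep : φ e p = φ e p / p * p := by simp
    have hee : ∀ w : V, φ e (φ e w) = w := fun w => by
      rw [← MulAut.mul_apply, ← map_mul, chainStab_sq h.inj h.two (hE1E he), map_one, MulAut.one_apply]
    rw [he', hb', map_mul, map_mul, map_mul, MulAut.mul_apply, MulAut.mul_apply, MulAut.mul_apply, hep,
      map_mul (φ b), (hE1E he p) b (Subgroup.mem_top b), hp b hb, ← hep, hee, hp b hb]
  have hC0 : C ≠ ⊥ := by
    intro e0
    have hc : ∀ e ∈ E1, e ∈ stab φ P := fun e he => hC1 e (hE1E he) fun b hb => by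
      have h1 := hcomm b hb e he
      rw [e0, Subgroup.mem_bot, mul_inv_eq_one, mul_inv_eq_iff_eq_mul] at h1
      exact h1
    exact hE1ne (le_bot_iff.1 (e0 ▸ fun e he => ⟨he, hc e he⟩))
  have hCB : ∀ b ∈ B, ∀ c ∈ C, b * c = c * b := fun b hb c hc => hC2 c (hE1E hc.1) hc.2 b hb
  have hE1comm : ∀ x ∈ E1, ∀ y ∈ E1, x * y = y * x := fun x hx y hy =>
    chainStab_comm h.inj (hE1E hx) (hE1E hy)
  have hCgE : Cg ≤ E1 := map_conj_le fun c hc => hE1n.conj_mem c hc.1 g
  have hcg : ∀ b ∈ cj B g, ∀ c ∈ Cg, b * c = c * b := by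
    rintro _ ⟨b, hb, rfl⟩ _ ⟨c, hc, rfl⟩
    rw [← map_mul, ← map_mul, hCB b hb c hc]
  have hcomg : ∀ b ∈ cj B g, ∀ e ∈ E1, b * e * b⁻¹ * e⁻¹ ∈ Cg := by
    rintro _ ⟨b, hb, rfl⟩ e he
    refine ⟨_, hcomm b hb _ (hE1n.conj_mem e he g⁻¹), ?_⟩
    simp [mul_assoc]
  have hDn : (C ⊔ Cg).Normal := by
    refine Subgroup.normalizer_eq_top_iff.1 (top_le_iff.1 (h.gen_pair hg ▸ sup_le ?_ ?_))
    · intro b hb
      refine mem_normalizer_of_map_conj_eq (Subgroup.eq_of_le_of_card_ge ?_
        (Subgroup.card_map_of_injective (MulAut.conj b).injective).ge)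
      rw [Subgroup.map_sup]
      refine sup_le (map_conj_le fun c hc => ?_) (map_conj_le fun c hc => ?_)
      · rw [hCB b hb c hc, mul_inv_cancel_right]; exact Subgroup.mem_sup_left hc
      · have := (C ⊔ Cg).mul_mem (Subgroup.mem_sup_left (hcomm b hb c (hCgE hc))) (Subgroup.mem_sup_right hc)
        simpa using this
    · intro b hb
      refine mem_normalizer_of_map_conj_eq (Subgroup.eq_of_le_of_card_ge ?_
        (Subgroup.card_map_of_injective (MulAut.conj b).injective).ge)
      rw [Subgroup.map_sup]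
      refine sup_le (map_conj_le fun c hc => ?_) (map_conj_le fun c hc => ?_)
      · have := (C ⊔ Cg).mul_mem (Subgroup.mem_sup_right (hcomg b hb c hc.1)) (Subgroup.mem_sup_left hc)
        simpa using this
      · rw [hcg b hb c hc, mul_inv_cancel_right]; exact Subgroup.mem_sup_right hc
  have hD : C ⊔ Cg = E1 := (hmin _ hDn (sup_le inf_le_left hCgE)).resolve_left
    fun e => hC0 (le_bot_iff.1 (e ▸ le_sup_left))
  have hE1card : Nat.card E1 ≤ Nat.card C * Nat.card C := by
    rw [← hD]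
    calc Nat.card ↥(C ⊔ Cg) ≤ Nat.card C * Nat.card Cg :=
          by
            rw [← Nat.card_prod]
            refine Nat.card_le_card_of_surjective (fun p : C × Cg => (⟨(p.1 : X) * p.2,
              (C ⊔ Cg).mul_mem (Subgroup.mem_sup_left p.1.2) (Subgroup.mem_sup_right p.2.2)⟩ : ↥(C ⊔ Cg))) ?_
            rintro ⟨y, hy⟩
            obtain ⟨c, hc, d, hd, rfl⟩ := mem_sup_of_le_normalizer (fun c hc =>
              Subgroup.centralizer_le_normalizer _ fun x (hx : x ∈ C) => hE1comm x hx.1 c (hCgE hc)) hy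
            exact ⟨⟨⟨c, hc⟩, ⟨d, hd⟩⟩, rfl⟩
      _ = _ := by rw [Subgroup.card_map_of_injective (MulAut.conj g).injective]
  -- the kernel
  set N := Subgroup.centralizer (E1 : Set X)
  haveI : N.Normal := Subgroup.normal_centralizer
  have hNM : N ≤ M := by
    by_contra hNM
    have htop : N ⊔ B = ⊤ := by
      by_contra hne
      exact hNM (le_sup_left.trans (h.ovr _ hne le_sup_right))
    have hCn : C.Normal := by
      refine Subgroup.normalizer_eq_top_iff.1 (top_le_iff.1 (htop ▸ sup_le ?_ ?_))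
      · exact fun x hx => Subgroup.centralizer_le_normalizer _ fun c hc => hx c hc.1
      · exact fun b hb => Subgroup.centralizer_le_normalizer _ fun c hc => (hCB b hb c hc).symm
    haveI := hCn
    refine hC0 (le_bot_iff.1 (hCg ▸ le_inf le_rfl fun c hc => ⟨g⁻¹ * c * g, ?_, by simp [mul_assoc]⟩))
    simpa using hCn.conj_mem c hc g⁻¹
  have hNcore : N ≤ M.normalCore := (Subgroup.normal_le_normalCore).2 hNM
  -- the numbers
  set K := B ⊓ E
  set Kg := K.map (MulAut.conj g).toMonoidHom
  have hK2 : Nat.card K * Nat.card K ≤ Nat.card E := by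
    have hdis : K ⊓ Kg = ⊥ := by
      refine (Subgroup.eq_bot_iff_forall _).2 ?_
      rintro e ⟨hK, hKg⟩
      refine h.inj (MulEquiv.ext fun v => ?_)
      rw [map_one, MulAut.one_apply]
      have hv : v ∈ P ⊔ fix φ (cj B g) := h.fix_sup hg ▸ Subgroup.mem_top v
      obtain ⟨p, hp, q, hq, rfl⟩ := Subgroup.mem_sup.1 hv
      rw [map_mul, hp e hK.1, hq e (Subgroup.map_mono inf_le_left hKg)]
    have hle : K ⊔ Kg ≤ E := sup_le inf_le_right (map_conj_le fun c hc => (inferInstance : E.Normal).conj_mem c hc.2 g)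
    calc Nat.card K * Nat.card K = Nat.card K * Nat.card Kg := by
          rw [Subgroup.card_map_of_injective (MulAut.conj g).injective]
      _ ≤ Nat.card ↥(K ⊔ Kg) * Nat.card ↥(K ⊓ Kg) := Products.card_mul_card_le K Kg
      _ ≤ _ := by rw [hdis, Subgroup.card_bot, mul_one]; exact Subgroup.card_le_of_le hle
  have hIfix : Nat.card I ≤ Nat.card (fix φ E) := Subgroup.card_le_of_le (fix_anti le_top)
  have hPcard := h.card_eq hg
  have hP : Nat.card P ≤ Nat.card B * Nat.card I := by
    refine Nat.le_of_mul_le_mul_left ?_ (Nat.card_pos (α := P))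
    calc Nat.card P * Nat.card P = Nat.card V * Nat.card I := hPcard.symm
      _ ≤ Nat.card B * Nat.card P * Nat.card I := Nat.mul_le_mul_right _ h.big
      _ = _ := by ring
  have hCC : Nat.card C * Nat.card C ≤ Nat.card E1 := by
    calc Nat.card C * Nat.card C = Nat.card C * Nat.card Cg := by
          rw [Subgroup.card_map_of_injective (MulAut.conj g).injective]
      _ ≤ Nat.card ↥(C ⊔ Cg) * Nat.card ↥(C ⊓ Cg) := Products.card_mul_card_le C Cg
      _ = Nat.card E1 := by rw [hD, hCg, Subgroup.card_bot, mul_one]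
  have hBKC : Nat.card K * Nat.card C ≤ Nat.card B := by
    have h1 : Nat.card K * Nat.card C * Nat.card I * (Nat.card K * Nat.card C * Nat.card I) ≤
        Nat.card P * Nat.card P := by
      rw [← hPcard]
      calc Nat.card K * Nat.card C * Nat.card I * (Nat.card K * Nat.card C * Nat.card I)
          = (Nat.card K * Nat.card K) * (Nat.card C * Nat.card C) * Nat.card I * Nat.card I := by ring
        _ ≤ Nat.card E * Nat.card E1 * Nat.card (fix φ E) * Nat.card I :=
            Nat.mul_le_mul_right _ (Nat.mul_le_mul (Nat.mul_le_mul hK2 hCC) hIfix)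
        _ ≤ _ := Nat.mul_le_mul_right _ hcount
    exact Nat.le_of_mul_le_mul_right ((Nat.mul_self_le_mul_self_iff.1 h1).trans hP) Nat.card_pos
  -- the module `E1`
  haveI : IsMulCommutative E1 := ⟨⟨fun x y => Subtype.ext (hE1comm x x.2 y y.2)⟩⟩
  let π := QuotientGroup.mk' N
  have hπ : Function.Surjective π := QuotientGroup.mk'_surjective N
  have hN : N ≤ (MulAut.conjNormal : X →* MulAut E1).ker := fun c hc => MulEquiv.ext fun v => Subtype.ext (by
    show ((MulAut.conjNormal c v : E1) : X) = v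
    rw [MulAut.conjNormal_apply, mul_inv_eq_iff_eq_mul]
    exact (hc v v.2).symm)
  let ψ : X ⧸ N →* MulAut E1 := QuotientGroup.lift N MulAut.conjNormal hN
  have hval : ∀ x (e : E1), ((ψ (π x) e : E1) : X) = x * e * x⁻¹ := fun x e => MulAut.conjNormal_apply x e
  have hfix : ∀ e : E1, e ∈ fix ψ (B.map π) ↔ (e : X) ∈ C := by
    intro e
    constructor
    · intro he
      refine ⟨e.2, hC1 e (hE1E e.2) fun b hb => ?_⟩
      have := congrArg Subtype.val (he (π b) ⟨b, hb, rfl⟩)
      rw [hval] at this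
      exact mul_inv_eq_iff_eq_mul.1 this
    · rintro hC' _ ⟨b, hb, rfl⟩
      refine Subtype.ext ?_
      rw [hval, hCB b hb _ hC', mul_inv_cancel_right]
  have hfixcard : Nat.card (fix ψ (B.map π)) = Nat.card C := Nat.card_congr
    { toFun := fun e => ⟨e.1, (hfix e.1).1 e.2⟩
      invFun := fun c => ⟨⟨c.1, c.2.1⟩, (hfix _).2 c.2⟩
      left_inv := fun _ => rfl
      right_inv := fun _ => rfl }
  have hψinj : Function.Injective ψ := by
    refine (injective_iff_map_eq_one ψ).2 fun y hy => ?_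
    obtain ⟨x, rfl⟩ := hπ y
    refine (QuotientGroup.eq_one_iff x).2 fun e he => ?_
    have := congrArg Subtype.val (show ψ (π x) ⟨e, he⟩ = ⟨e, he⟩ by rw [hy]; rfl)
    rw [hval] at this
    exact (mul_inv_eq_iff_eq_mul.1 this).symm
  have htwo : ∀ e : E1, e * e = 1 := fun e => Subtype.ext (chainStab_sq h.inj h.two (hE1E e.2))
  have hMmap : (M.map π).comap π = M := by
    rw [Subgroup.comap_map_eq, QuotientGroup.ker_mk', sup_eq_left.2 hNM]
  have hcore : pCore 2 (X ⧸ N) = ⊥ := by
    set R := pCore 2 (X ⧸ N)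
    let F : Subgroup X :=
      { carrier := {e | e ∈ E1 ∧ ∀ x, π x ∈ R → x * e = e * x}
        one_mem' := ⟨E1.one_mem, fun x _ => by rw [mul_one, one_mul]⟩
        mul_mem' := fun {p q} hp hq => ⟨E1.mul_mem hp.1 hq.1, fun x hx => by
          rw [← mul_assoc, hp.2 x hx, mul_assoc, hq.2 x hx, mul_assoc]⟩
        inv_mem' := fun {p} hp => ⟨E1.inv_mem hp.1, fun x hx =>
          ((show Commute x p from hp.2 x hx).inv_right).eq⟩ }
    have hFn : F.Normal := ⟨fun e he y => ⟨hE1n.conj_mem e he.1 y, fun x hx => by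
      have h1 := he.2 (y⁻¹ * x * y) (by
        rw [map_mul, map_mul, map_inv]
        simpa using (inferInstance : R.Normal).conj_mem _ hx (π y)⁻¹)
      calc x * (y * e * y⁻¹) = y * ((y⁻¹ * x * y) * e) * y⁻¹ := by group
        _ = _ := by rw [h1]; group⟩⟩
    letI : MulAction R E1 := MulAction.compHom E1 (ψ.comp R.subtype)
    have h2 : 2 ∣ Nat.card E1 := by
      obtain ⟨k, hk⟩ := IsPGroup.iff_card.1 (isPGroup_of_sq fun a (ha : a ∈ E1) => chainStab_sq h.inj h.two (hE1E ha))
      rcases k with _ | k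
      · exact absurd (Subgroup.card_eq_one.1 (by simpa using hk)) hE1ne
      · exact hk ▸ dvd_pow_self 2 k.succ_ne_zero
    obtain ⟨e, he, he1⟩ := (isPGroup_pCore (G := X ⧸ N) 2).exists_fixed_point_of_prime_dvd_card_of_fixed_point
      E1 h2 (a := 1) (fun r => map_one (ψ (r : X ⧸ N)))
    have heF : (e : X) ∈ F := ⟨e.2, fun x hx => by
      have h1 := congrArg Subtype.val (he ⟨π x, hx⟩ : ψ (π x) e = e)
      change ((ψ (π x) e : E1) : X) = (e : X) at h1
      rw [hval] at h1
      exact mul_inv_eq_iff_eq_mul.1 h1⟩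
    have hFE : F = E1 := (hmin F hFn fun x hx => hx.1).resolve_left fun e0 => he1 (Subtype.ext
      (Subgroup.mem_bot.1 (e0 ▸ heF)).symm)
    refine (Subgroup.eq_bot_iff_forall _).2 fun y hy => ?_
    obtain ⟨x, rfl⟩ := hπ y
    exact (QuotientGroup.eq_one_iff x).2 fun e he => ((hFE.ge he).2 x hy).symm
  have hBmap : Nat.card B ≤ Nat.card (B.map π) * Nat.card K := by
    rw [← card_map_mul_inf π B]
    refine Nat.mul_le_mul_left _ (Subgroup.card_le_of_le ?_)
    rw [QuotientGroup.ker_mk']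
    exact fun x hx => ⟨hx.1, h.core_le hx.1 (hNcore hx.2)⟩
  have hCB' : Nat.card C ≤ Nat.card (B.map π) :=
    Nat.le_of_mul_le_mul_right (le_trans (le_of_eq (mul_comm _ _)) (hBKC.trans hBmap)) Nat.card_pos
  refine involves_of_hom π hπ (Pair.involves (φ := ψ) (M := M.map π) (A := B.map π)
    (Pair.of_core hψinj htwo hcore ?_ ?_ ?_ ?_ (Subgroup.map_mono hBM) ?_ ?_))
  · rintro _ ⟨a, ha, rfl⟩
    rw [← map_mul, h.sq a ha, map_one]
  · intro e0
    refine ha0E (h.core_le ha0 (hNcore ((QuotientGroup.eq_one_iff a0).1 ?_)))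
    exact Subgroup.mem_bot.1 (e0 ▸ ⟨a0, ha0, rfl⟩)
  · rintro _ ⟨b, hb, rfl⟩ e
    rw [hfix, Subgroup.coe_div, hval, div_eq_mul_inv]
    exact hcomm b hb e e.2
  · rw [hfixcard]
    exact hE1card.trans (Nat.mul_le_mul_right _ hCB')
  · intro e0
    exact h.proper (by rw [← hMmap, e0, Subgroup.comap_top])
  · intro H hH hBH
    have h1 : H.comap π ≤ M := h.ovr _ (fun e0 => hH (Subgroup.comap_injective hπ (by rw [e0, Subgroup.comap_top])))
      fun b hb => hBH ⟨b, hb, rfl⟩
    rw [← Subgroup.map_comap_eq_self_of_surjective hπ H]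
    exact Subgroup.map_mono h1

end CfsgLib.S3Free
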