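import Cfsg.Agent.Lib.S3Free.Push
import Cfsg.Agent.Lib.PLocal.Timmesfeld
import Mathlib.GroupTheory.SemidirectProduct

/-!
A finite group without a section `S₃` and without normal 2-subgroup has no offender on a faithful
elementary abelian 2-group: `|A| |C_V(A)| < |V|` for every non-trivial elementary abelian 2-subgroup `A`.
-/

set_option autoImplicit false
set_option linter.unusedSectionVars false
set_option maxHeartbeats 1000000

namespace CfsgLib.S3Free

open CfsgLib CfsgLib.Local CfsgLib.OffenderTwo Cfsg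
open scoped commutatorElement

universe u v

variable {X : Type u} [Group X] [Finite X] {V : Type v} [CommGroup V] [Finite V]

/-- Timmesfeld replacement for a best offender. -/
theorem quad_of_best {φ : X →* MulAut V} (h2 : ∀ v : V, v * v = 1) {A : Subgroup X}
    (hsq : ∀ a ∈ A, a * a = 1)
    (hbest : ∀ B : Subgroup X, B ≤ A → Nat.card B * Nat.card (fix φ B) ≤ Nat.card A * Nat.card (fix φ A))
    {W : Subgroup V} (hinv : ∀ a ∈ A, ∀ w ∈ W, φ a w ∈ W) (hmove : ¬ A ≤ stab φ W) :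
    ∃ B : Subgroup X, B ≤ A ∧ ¬ B ≤ stab φ W ∧
      Nat.card A * Nat.card (fix φ A) ≤ Nat.card B * Nat.card (fix φ B) ∧
      ∀ b ∈ B, ∀ c ∈ B, ∀ w ∈ W, φ b (φ c w / w) = φ c w / w := by
  haveI : Fact (Nat.Prime 2) := ⟨Nat.prime_two⟩
  haveI : Finite (V ⋊[φ] X) := Finite.of_equiv _ SemidirectProduct.equivProd.symm
  set i : V →* V ⋊[φ] X := SemidirectProduct.inl
  set r : X →* V ⋊[φ] X := SemidirectProduct.inr
  have hi : Function.Injective i := SemidirectProduct.inl_injective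
  have hr : Function.Injective r := SemidirectProduct.inr_injective
  have hconj : ∀ (a : X) (v : V), r a * i v * (r a)⁻¹ = i (φ a v) := fun a v => by
    rw [← map_inv]; exact (SemidirectProduct.inl_aut a v).symm
  set W' := W.map i
  set A' := A.map r
  have hWc : ∀ v ∈ W', ∀ w ∈ W', v * w = w * v := by
    rintro _ ⟨v, -, rfl⟩ _ ⟨w, -, rfl⟩
    rw [← map_mul, ← map_mul, mul_comm]
  have hWn : A' ≤ Subgroup.normalizer (W' : Set (V ⋊[φ] X)) := by
    rintro _ ⟨a, ha, rfl⟩
    refine mem_normalizer_of_map_conj_eq (Subgroup.eq_of_le_of_card_ge (map_conj_le ?_)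
      (Subgroup.card_map_of_injective (MulAut.conj (r a)).injective).ge)
    rintro _ ⟨w, hw, rfl⟩
    exact ⟨φ a w, hinv a ha w hw, (hconj a w).symm⟩
  have hcommA : ∀ a ∈ A, ∀ b ∈ A, a * b = b * a := fun a ha b hb => by
    have h1 := hsq (a * b) (A.mul_mem ha hb)
    rw [mul_eq_one_iff_inv_eq, mul_inv_rev, inv_eq_of_mul_eq_one_right (hsq a ha),
      inv_eq_of_mul_eq_one_right (hsq b hb)] at h1
    exact h1.symm
  have hab : ⁅A', A'⁆ ≤ Subgroup.centralizer (W' : Set (V ⋊[φ] X)) := Subgroup.commutator_le.2 fun x hx y hy => by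
    obtain ⟨a, ha, rfl⟩ := hx
    obtain ⟨b, hb, rfl⟩ := hy
    rw [commutatorElement_eq_one_iff_mul_comm.2 (by rw [← map_mul, ← map_mul, hcommA a ha b hb])]
    exact Subgroup.one_mem _
  have hcent : ∀ B : Subgroup X,
      W' ⊓ Subgroup.centralizer ((B.map r : Subgroup (V ⋊[φ] X)) : Set (V ⋊[φ] X)) = (W ⊓ fix φ B).map i := by
    intro B
    ext z
    constructor
    · rintro ⟨⟨w, hw, rfl⟩, hc⟩
      refine ⟨w, ⟨hw, fun b hb => hi ?_⟩, rfl⟩
      rw [← hconj]
      exact mul_inv_eq_iff_eq_mul.2 (hc (r b) ⟨b, hb, rfl⟩)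
    · rintro ⟨w, ⟨hw, hwf⟩, rfl⟩
      refine ⟨⟨w, hw, rfl⟩, ?_⟩
      rintro _ ⟨b, hb, rfl⟩
      exact mul_inv_eq_iff_eq_mul.1 (by rw [hconj, hwf b hb])
  have hmeas : ∀ B : Subgroup X,
      PLocal.measure' W' (B.map r) = Nat.card B * Nat.card ↥(W ⊓ fix φ B) := fun B => by
    unfold PLocal.measure'
    rw [Subgroup.card_map_of_injective hr, hcent, Subgroup.card_map_of_injective hi]
  have hsup : ∀ B : Subgroup X, B ≤ A → Nat.card ↥(W ⊓ fix φ B) * Nat.card (fix φ A) ≤
      Nat.card (fix φ B) * Nat.card ↥(W ⊓ fix φ A) := by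
    intro B hB
    rw [← card_sup_inf (W ⊓ fix φ B) (fix φ A)]
    refine Nat.mul_le_mul (Subgroup.card_le_of_le (sup_le inf_le_right (fix_anti hB))) ?_
    exact Subgroup.card_le_of_le (le_inf (inf_le_left.trans inf_le_left) inf_le_right)
  have hno : ∀ B' : Subgroup (V ⋊[φ] X), B' ≤ A' → PLocal.measure' W' B' ≤ PLocal.measure' W' A' := by
    intro B' hB'
    have hBA : B'.comap r ≤ A := fun b hb => by
      obtain ⟨a, ha, he⟩ := hB' hb
      rwa [← hr he]
    rw [← Subgroup.map_comap_eq_self (hB'.trans (Subgroup.map_le_range r A)), hmeas, hmeas]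
    refine Nat.le_of_mul_le_mul_right ?_ (Nat.card_pos (α := fix φ A))
    calc Nat.card ↥(B'.comap r) * Nat.card ↥(W ⊓ fix φ (B'.comap r)) * Nat.card (fix φ A)
        ≤ Nat.card ↥(B'.comap r) * (Nat.card (fix φ (B'.comap r)) * Nat.card ↥(W ⊓ fix φ A)) := by
          rw [mul_assoc]; exact Nat.mul_le_mul_left _ (hsup _ hBA)
      _ ≤ Nat.card A * Nat.card (fix φ A) * Nat.card ↥(W ⊓ fix φ A) := by
          rw [← mul_assoc]; exact Nat.mul_le_mul_right _ (hbest _ hBA)
      _ = _ := by ring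
  obtain ⟨hT1, hT2⟩ := PLocal.timmesfeld hWc hWn hab hno (le_refl W')
  set B' := A' ⊓ Subgroup.centralizer ((⁅W', A'⁆ : Subgroup (V ⋊[φ] X)) : Set (V ⋊[φ] X))
  set B := B'.comap r
  have hBA : B ≤ A := fun b hb => by
    obtain ⟨a, ha, he⟩ := hb.1
    rwa [← hr he]
  have hBmap : B.map r = B' :=
    Subgroup.map_comap_eq_self ((inf_le_left : B' ≤ A').trans (Subgroup.map_le_range r A))
  refine ⟨B, hBA, fun hle => hmove ?_, ?_, ?_⟩
  · have hWB : W ⊓ fix φ B = W := inf_eq_left.2 fun w hw b hb => hle hb w hw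
    have hbot : ⁅W', A'⁆ = ⊥ := by
      refine PLocal.commutator_eq_bot_of_sup (p := 2) ?_ hWc hWn ?_ ?_
      · rintro ⟨_, w, hw, rfl⟩
        refine ⟨1, Subtype.ext ?_⟩
        rw [SubmonoidClass.coe_pow, pow_one, sq, ← map_mul, h2, map_one]
        rfl
      · rintro _ ⟨a, ha, rfl⟩
        refine ⟨1, ?_⟩
        rw [pow_one, sq, ← map_mul, hsq a ha, map_one]
        exact Subgroup.one_mem _
      · rw [← hT1, ← hBmap, hcent, hWB]
    intro a ha w hw
    refine hi ?_
    rw [← hconj]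
    have h1 : ⁅i w, r a⁆ = 1 := by
      rw [← Subgroup.mem_bot, ← hbot]
      exact Subgroup.commutator_mem_commutator ⟨w, hw, rfl⟩ ⟨a, ha, rfl⟩
    exact mul_inv_eq_iff_eq_mul.2 (commutatorElement_eq_one_iff_mul_comm.1 h1).symm
  · rw [← hBmap, hmeas, hmeas] at hT2
    refine Nat.le_of_mul_le_mul_right ?_ (Nat.card_pos (α := ↥(W ⊓ fix φ A)))
    calc Nat.card A * Nat.card (fix φ A) * Nat.card ↥(W ⊓ fix φ A)
        = Nat.card B * Nat.card ↥(W ⊓ fix φ B) * Nat.card (fix φ A) := by rw [hT2]; ring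
      _ ≤ Nat.card B * (Nat.card (fix φ B) * Nat.card ↥(W ⊓ fix φ A)) := by
          rw [mul_assoc]; exact Nat.mul_le_mul_left _ (hsup B hBA)
      _ = _ := by ring
  · intro b hb c hc w hw
    have h1 : ⁅i w, r c⁆ ∈ ⁅W', A'⁆ :=
      Subgroup.commutator_mem_commutator ⟨w, hw, rfl⟩ ⟨c, hBA hc, rfl⟩
    have h2' : r b ∈ B' := hb
    have h3 := h2'.2 _ (Subgroup.inv_mem _ h1)
    have h4 : (⁅i w, r c⁆)⁻¹ = i (φ c w / w) := by
      rw [map_div, ← hconj, commutatorElement_def, div_eq_mul_inv]; group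
    rw [h4] at h3
    refine hi ?_
    rw [← hconj, ← h3, mul_inv_cancel_right]

/-- Vectors fixed by a 2-group. -/
theorem fix_ne_bot {φ : X →* MulAut V} {P : Subgroup X} (hP : IsPGroup 2 P) {W : Subgroup V}
    (h2 : ∀ v : V, v * v = 1) (hW : W ≠ ⊥) (hinv : ∀ a ∈ P, ∀ w ∈ W, φ a w ∈ W) : W ⊓ fix φ P ≠ ⊥ := by
  haveI : Fact (Nat.Prime 2) := ⟨Nat.prime_two⟩
  letI : MulAction P W :=
    { smul := fun a w => ⟨φ a w, hinv a a.2 w w.2⟩
      one_smul := fun w => Subtype.ext (by show φ (1 : X) w = w; rw [map_one, MulAut.one_apply])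
      mul_smul := fun a b w => Subtype.ext (by
        show φ ((a : X) * b) w = φ a (φ b w)
        rw [map_mul, MulAut.mul_apply]) }
  have hd : 2 ∣ Nat.card W := by
    haveI : Nontrivial W := (Subgroup.nontrivial_iff_ne_bot W).2 hW
    have hWp : IsPGroup 2 W := fun w => ⟨1, Subtype.ext (by
      rw [SubmonoidClass.coe_pow, pow_one, sq]; exact h2 _)⟩
    obtain ⟨n, hn, hc⟩ := hWp.nontrivial_iff_card.1 this
    exact hc ▸ dvd_pow_self 2 hn.ne'
  have h1 : (1 : W) ∈ MulAction.fixedPoints P W := fun a => Subtype.ext (map_one (φ (a : X)))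
  obtain ⟨w, hw, hw1⟩ := hP.exists_fixed_point_of_prime_dvd_card_of_fixed_point W hd h1
  intro e
  refine hw1 (Subtype.ext ?_)
  have hm : (w : V) ∈ W ⊓ fix φ P := ⟨w.2, fun a ha => congrArg Subtype.val (hw ⟨a, ha⟩)⟩
  rw [e, Subgroup.mem_bot] at hm
  exact hm.symm

/-- The inductive statement. -/
theorem no_offender_aux : ∀ (n : ℕ) (X : Type u) [Group X] [Finite X], Nat.card X = n →
    ∀ (m : ℕ) (V : Type v) [CommGroup V] [Finite V], Nat.card V = m →
    ∀ (φ : X →* MulAut V), Function.Injective φ → (∀ v : V, v * v = 1) → pCore 2 X = ⊥ →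
      ¬ Involves P3 X → ∀ A : Subgroup X, (∀ a ∈ A, a * a = 1) → A ≠ ⊥ →
      Nat.card A * Nat.card (fix φ A) < Nat.card V := by
  intro n
  induction n using Nat.strong_induction_on with
  | _ n ihn =>
  intro X _ _ hn m
  induction m using Nat.strong_induction_on with
  | _ m ihm =>
  intro V _ _ hm φ hinj h2 hR hfree A hAsq hA1
  haveI : Fact (Nat.Prime 2) := ⟨Nat.prime_two⟩
  classical
  by_contra hlt
  rw [not_lt] at hlt
  let val : Subgroup X → ℕ := fun B => Nat.card B * Nat.card (fix φ B)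
  set 𝒪 : Set (Subgroup X) := {B | (∀ b ∈ B, b * b = 1) ∧
    ∀ C : Subgroup X, (∀ c ∈ C, c * c = 1) → val C ≤ val B}
  obtain ⟨A0, hA0, hA01⟩ : ∃ A0 ∈ 𝒪, A0 ≠ ⊥ := by
    obtain ⟨M0, hM0, hmax⟩ := Set.exists_max_image {B : Subgroup X | ∀ b ∈ B, b * b = 1} val
      (Set.toFinite _) ⟨A, hAsq⟩
    by_cases h0 : M0 = ⊥
    · refine ⟨A, ⟨hAsq, fun C hC => (hmax C hC).trans ?_⟩, hA1⟩
      subst h0
      show Nat.card (⊥ : Subgroup X) * Nat.card (fix φ (⊥ : Subgroup X)) ≤ _
      rw [Subgroup.card_bot, one_mul]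
      exact (Subgroup.card_le_card_group _).trans hlt
    · exact ⟨M0, ⟨hM0, fun C hC => hmax C hC⟩, h0⟩
  have hbig : Nat.card V ≤ val A0 := hlt.trans (hA0.2 A hAsq)
  have hvconj : ∀ (g : X) (B : Subgroup X), val (B.map (MulAut.conj g).toMonoidHom) = val B := fun g B => by
    show _ * _ = _ * _
    rw [Subgroup.card_map_of_injective (MulAut.conj g).injective, fix_map_conj,
      Subgroup.card_map_of_injective (φ g).injective]
  have hF : Fam φ 𝒪 := by
    refine ⟨?_, fun B hB => hB.1, ?_, ?_⟩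
    · intro g B hB
      refine ⟨?_, fun C hC => (hvconj g B).symm ▸ hB.2 C hC⟩
      rintro _ ⟨b, hb, rfl⟩
      rw [← map_mul, hB.1 b hb, map_one]
    · exact fun B hB C hC => hB.2 C fun c hc => hB.1 c (hC hc)
    · intro B hB W hinv hmove
      obtain ⟨C, hCB, hCm, hCv, hCq⟩ := quad_of_best h2 hB.1
        (fun C hC => hB.2 C fun c hc => hB.1 c (hC hc)) hinv hmove
      exact ⟨C, ⟨fun c hc => hB.1 c (hCB hc), fun D hD => (hB.2 D hD).trans hCv⟩, hCB, hCm, hCq⟩
  obtain ⟨T, hT⟩ := (isPGroup_of_sq hA0.1).exists_le_sylow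
  set J := offJoin 𝒪 (T : Subgroup X) with hJdef
  have hJne : J ≠ ⊥ := fun e => hA01 (le_bot_iff.1 (e ▸ le_offJoin hA0 hT))
  set L := Subgroup.normalizer (J : Set X) with hLdef
  have hL : L ≠ ⊤ := by
    intro e
    haveI := Subgroup.normalizer_eq_top_iff.1 e
    exact hJne (le_bot_iff.1 (hR ▸ le_pCore (T.2.to_le (offJoin_le _ _))))
  have hTL : (T : Subgroup X) ≤ L := Subgroup.le_normalizer.trans (hF.normalizer_le _)
  -- a minimal invariant subgroup of the fixed vectors of `J`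
  let P : Set (Subgroup V) := {U | U ≠ ⊥ ∧ U ≤ fix φ J ∧ ∀ x ∈ L, ∀ w ∈ U, φ x w ∈ U}
  have hfixinv : ∀ x ∈ L, ∀ w ∈ fix φ J, φ x w ∈ fix φ J := by
    intro x hx w hw j hj
    have h1 := hw _ ((Subgroup.mem_normalizer_iff.1 (L.inv_mem hx) j).1 hj)
    rw [inv_inv] at h1
    conv_rhs => rw [← h1]
    rw [← MulAut.mul_apply, ← map_mul, ← MulAut.mul_apply, ← map_mul]
    group
  have hPne : P.Nonempty := by
    refine ⟨fix φ J, ?_, le_rfl, hfixinv⟩
    have hV : (⊤ : Subgroup V) ≠ ⊥ := by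
      intro e
      refine hA01 ((Subgroup.eq_bot_iff_forall A0).2 fun a _ => hinj (MulEquiv.ext fun v => ?_))
      have h1 : ∀ w : V, w = 1 := fun w => Subgroup.mem_bot.1 (e ▸ Subgroup.mem_top w)
      rw [h1 (φ a v), h1 (φ 1 v)]
    have := fix_ne_bot (φ := φ) (P := J) (T.2.to_le (offJoin_le _ _)) h2 hV (fun _ _ _ _ => Subgroup.mem_top _)
    rwa [top_inf_eq] at this
  obtain ⟨W, ⟨hW1, hWJ, hWinv⟩, hWmin⟩ :=
    Set.exists_min_image P (fun U => Nat.card U) (Set.toFinite _) hPne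
  have hWmin' : ∀ U ∈ P, U ≤ W → U = W := fun U hU hle =>
    Subgroup.eq_of_le_of_card_ge hle (hWmin U hU)
  -- strictness
  have hstr : Strict φ (T : Subgroup X) W := by
    let ρ : L →* MulAut W :=
      MonoidHom.mk' (fun x =>
        { toFun := fun w => ⟨φ x w, hWinv x x.2 w w.2⟩
          invFun := fun w => ⟨φ (x : X)⁻¹ w, hWinv _ (L.inv_mem x.2) w w.2⟩
          left_inv := fun w => Subtype.ext (by
            show φ (x : X)⁻¹ (φ x w) = w; rw [map_inv, MulAut.inv_apply_self])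
          right_inv := fun w => Subtype.ext (by
            show φ x (φ (x : X)⁻¹ w) = w; rw [map_inv, MulAut.apply_inv_self])
          map_mul' := fun a b => Subtype.ext (map_mul (φ x) _ _) })
        (fun x y => MulEquiv.ext fun w => Subtype.ext (by
          show φ ((x : X) * y) w = φ x (φ y w)
          rw [map_mul, MulAut.mul_apply]))
    set K := ρ.ker
    let π := QuotientGroup.mk' K
    have hπ : Function.Surjective π := QuotientGroup.mk'_surjective K
    let ψ : L ⧸ K →* MulAut W := QuotientGroup.lift K ρ le_rfl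
    have hψinj : Function.Injective ψ := QuotientGroup.kerLift_injective ρ
    have hψ : ∀ x (w : W), ((ψ (π x) w : W) : V) = φ (x : X) w := fun x w => rfl
    have hW2 : ∀ w : W, w * w = 1 := fun w => Subtype.ext (h2 w)
    have hXcard : Nat.card (L ⧸ K) < n :=
      hn ▸ (Nat.le_of_dvd Nat.card_pos ⟨_, Subgroup.card_eq_card_quotient_mul_card_subgroup K⟩).trans_lt
        (lt_of_le_of_ne (Subgroup.card_le_card_group L) fun e => hL (Subgroup.eq_top_of_card_eq L e))
    have hcore : pCore 2 (L ⧸ K) = ⊥ := by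
      set R := pCore 2 (L ⧸ K)
      have hRp : IsPGroup 2 R := isPGroup_pCore 2
      set U := (fix ψ R).map W.subtype
      have hUW : U ≤ W := Subgroup.map_subtype_le _
      have hUP : U ∈ P := by
        refine ⟨?_, hUW.trans hWJ, ?_⟩
        · intro e
          have hWtop : (⊤ : Subgroup W) ≠ ⊥ := by
            haveI : Nontrivial W := (Subgroup.nontrivial_iff_ne_bot W).2 hW1
            exact top_ne_bot
          have h1 := fix_ne_bot (φ := ψ) hRp hW2 hWtop (fun _ _ _ _ => Subgroup.mem_top _)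
          rw [top_inf_eq] at h1
          exact h1 ((Subgroup.map_eq_bot_iff_of_injective _ W.subtype_injective).1 e)
        · rintro x hx _ ⟨w, hw, rfl⟩
          refine ⟨ψ (π ⟨x, hx⟩) w, fun q hq => ?_, hψ _ _⟩
          have h1 := hw _ ((inferInstance : R.Normal).conj_mem q hq (π ⟨x, hx⟩)⁻¹)
          rw [inv_inv] at h1
          conv_rhs => rw [← h1]
          rw [← MulAut.mul_apply, ← map_mul, ← MulAut.mul_apply, ← map_mul]
          group
      have hUeq := hWmin' U hUP hUW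
      refine (Subgroup.eq_bot_iff_forall R).2 fun q hq => hψinj (MulEquiv.ext fun w => ?_)
      rw [map_one, MulAut.one_apply]
      obtain ⟨w', hw', he⟩ := hUeq.ge w.2
      have he' : w' = w := Subtype.ext he
      exact he' ▸ hw' q hq
    intro D hD hsq hcomm hne
    set D0 := D.subgroupOf L
    have hDL : D ≤ L := hD.trans hTL
    set D' := D0.map π
    have hD'sq : ∀ z ∈ D', z * z = 1 := by
      rintro _ ⟨d, hd, rfl⟩
      rw [← map_mul]
      exact (QuotientGroup.eq_one_iff _).2 (MulEquiv.ext fun w => Subtype.ext (hsq _ hd w w.2))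
    have hD'1 : D' ≠ ⊥ := by
      intro e
      refine hne fun d hd w hw => ?_
      have h1 : π ⟨d, hDL hd⟩ = 1 := Subgroup.mem_bot.1 (e ▸ ⟨⟨d, hDL hd⟩, hd, rfl⟩)
      have h2 := hψ ⟨d, hDL hd⟩ ⟨w, hw⟩
      rw [h1, map_one, MulAut.one_apply] at h2
      exact h2.symm
    have key := ihn _ hXcard (L ⧸ K) rfl _ W rfl ψ hψinj hW2 hcore
      (fun hi => hfree (involves_of_sub (involves_of_hom π hπ hi))) D' hD'sq hD'1
    have e1 := card_map_mul_inf π D0
    have e2 : D0 ⊓ π.ker = (D ⊓ stab φ W).subgroupOf L := by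
      ext d
      rw [Subgroup.mem_inf, QuotientGroup.ker_mk']
      constructor
      · rintro ⟨hd, hk⟩
        exact ⟨hd, fun w hw => congrArg Subtype.val
          (show ρ d ⟨w, hw⟩ = ⟨w, hw⟩ by rw [MonoidHom.mem_ker.1 hk]; rfl)⟩
      · rintro ⟨hd, hk⟩
        exact ⟨hd, MulEquiv.ext fun w => Subtype.ext (hk w w.2)⟩
    have e3 : Nat.card (fix ψ D') = Nat.card ↥(W ⊓ fix φ D) := Nat.card_congr
      { toFun := fun w => ⟨(w.1 : V), w.1.2, fun d hd =>
          (hψ ⟨d, hDL hd⟩ w.1).symm.trans (congrArg Subtype.val (w.2 _ ⟨⟨d, hDL hd⟩, hd, rfl⟩))⟩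
        invFun := fun w => ⟨⟨w.1, w.2.1⟩, by
          rintro _ ⟨d, hd, rfl⟩
          exact Subtype.ext ((hψ d _).trans (w.2.2 _ hd))⟩
        left_inv := fun _ => rfl
        right_inv := fun _ => rfl }
    rw [e2, Nat.card_congr (Subgroup.subgroupOfEquivOfLe (inf_le_left.trans hDL)).toEquiv,
      Nat.card_congr (Subgroup.subgroupOfEquivOfLe hDL).toEquiv] at e1
    rw [e3] at key
    calc Nat.card D * Nat.card ↥(W ⊓ fix φ D)
        = Nat.card D' * Nat.card ↥(W ⊓ fix φ D) * Nat.card ↥(D ⊓ stab φ W) := by rw [← e1]; ring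
      _ < _ := Nat.mul_lt_mul_of_pos_right key Nat.card_pos
  have hJW : J ≤ stab φ W := fun j hj w hw => hWJ hw j hj
  have hpush := push h2 hfree hF T W (fun x hx => hWinv x (hTL hx)) hJW hstr (fun x hx => hWinv x hx)
  have hWX : ∀ (x : X), ∀ w ∈ W, φ x w ∈ W := fun x w hw => (hpush.ge (Subgroup.mem_top x)) w hw
  set K := stab φ W
  haveI hKn : K.Normal := ⟨fun k hk g w hw => by
    rw [map_mul, map_mul, MulAut.mul_apply, MulAut.mul_apply, hk _ (hWX g⁻¹ w hw), map_inv,
      MulAut.apply_inv_self]⟩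
  have hA0K : A0 ≤ K := (le_offJoin hA0 hT).trans hJW
  by_cases hK : K = ⊤
  swap
  · have hKcard : Nat.card K < n :=
      hn ▸ lt_of_le_of_ne (Subgroup.card_le_card_group K) fun e => hK (Subgroup.eq_top_of_card_eq K e)
    have hKcore : pCore 2 K = ⊥ := by
      haveI : ((pCore 2 K).map K.subtype).Normal := inferInstance
      have h1 : (pCore 2 K).map K.subtype ≤ pCore 2 X := le_pCore ((isPGroup_pCore 2).map _)
      rw [hR, le_bot_iff] at h1
      exact (Subgroup.map_eq_bot_iff_of_injective _ K.subtype_injective).1 h1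
    have key := ihn _ hKcard K rfl _ V rfl (φ.comp K.subtype) (hinj.comp K.subtype_injective) h2 hKcore
      (fun hi => hfree (involves_of_sub hi)) (A0.subgroupOf K) (fun a ha => Subtype.ext (hA0.1 _ ha))
      (fun e => hA01 (by rw [← Subgroup.map_subgroupOf_eq_of_le hA0K, e, Subgroup.map_bot]))
    rw [← fix_map, Subgroup.map_subgroupOf_eq_of_le hA0K,
      Nat.card_congr (Subgroup.subgroupOfEquivOfLe hA0K).toEquiv] at key
    exact key.not_ge hbig
  -- `W` is centralized
  have hWfix : W ≤ fix φ (⊤ : Subgroup X) := fun w hw x _ => (hK.ge (Subgroup.mem_top x)) w hw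
  let ψ : X →* MulAut (V ⧸ W) :=
    MonoidHom.mk' (fun x => QuotientGroup.congr W W (φ x) (le_antisymm
        (by rintro _ ⟨w, hw, rfl⟩; exact hWX x w hw)
        (fun w hw => ⟨φ x⁻¹ w, hWX x⁻¹ w hw, by
          show φ x (φ x⁻¹ w) = w; rw [map_inv, MulAut.apply_inv_self]⟩)))
      (fun x y => MulEquiv.ext fun q => by
        induction q using QuotientGroup.induction_on with
        | H v =>
          show (QuotientGroup.mk (φ (x * y) v) : V ⧸ W) = QuotientGroup.mk (φ x (φ y v))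
          rw [map_mul, MulAut.mul_apply])
  have hψ : ∀ (x : X) (v : V), ψ x (QuotientGroup.mk v) = QuotientGroup.mk (φ x v) := fun x v => rfl
  have hψinj : Function.Injective ψ := by
    have hker : ψ.ker ≤ chainStab φ := fun x hx v => hWfix (by
      have h1 : (QuotientGroup.mk (φ x v) : V ⧸ W) = QuotientGroup.mk v := by
        rw [← hψ, MonoidHom.mem_ker.1 hx]; rfl
      rw [div_eq_inv_mul]
      exact QuotientGroup.eq.1 h1.symm)
    rw [← MonoidHom.ker_eq_bot_iff, ← le_bot_iff, ← hR]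
    exact le_pCore (isPGroup_of_sq fun x hx => chainStab_sq hinj h2 (hker hx))
  have hWcard : Nat.card (V ⧸ W) * Nat.card W = Nat.card V :=
    (Subgroup.card_eq_card_quotient_mul_card_subgroup W).symm
  have hlt' : Nat.card (V ⧸ W) < m := by
    have h3 : 2 ≤ Nat.card W := (Subgroup.one_lt_card_iff_ne_bot W).2 hW1
    have h4 : 0 < Nat.card (V ⧸ W) := Nat.card_pos
    rw [← hm, ← hWcard]
    nlinarith
  have hQ2 : ∀ q : V ⧸ W, q * q = 1 := fun q => by
    induction q using QuotientGroup.induction_on with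
    | H v => rw [← QuotientGroup.mk_mul, h2]; rfl
  have key := ihm _ hlt' (V ⧸ W) rfl ψ hψinj hQ2 hR hfree A0 hA0.1 hA01
  have hfix : (fix φ A0).map (QuotientGroup.mk' W) ≤ fix ψ A0 := by
    rintro _ ⟨v, hv, rfl⟩ a ha
    show ψ a (QuotientGroup.mk v) = QuotientGroup.mk v
    rw [hψ, hv a ha]
  have h1 := card_map_mul_inf (QuotientGroup.mk' W) (fix φ A0)
  rw [QuotientGroup.ker_mk', inf_eq_right.2 (hWfix.trans (fix_anti le_top))] at h1
  refine key.not_ge (Nat.le_of_mul_le_mul_right ?_ (Nat.card_pos (α := W)))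
  calc Nat.card (V ⧸ W) * Nat.card W = Nat.card V := hWcard
    _ ≤ Nat.card A0 * Nat.card (fix φ A0) := hbig
    _ = Nat.card A0 * Nat.card ((fix φ A0).map (QuotientGroup.mk' W)) * Nat.card W := by
        rw [mul_assoc, h1]
    _ ≤ _ := Nat.mul_le_mul_right _ (Nat.mul_le_mul_left _ (Subgroup.card_le_of_le hfix))

/-- No offender in an `S₃`-free group without normal 2-subgroup. -/
theorem no_offender {φ : X →* MulAut V} (hinj : Function.Injective φ) (h2 : ∀ v : V, v * v = 1)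
    (hR : pCore 2 X = ⊥) (hfree : ¬ Involves P3 X) {A : Subgroup X} (hA : ∀ a ∈ A, a * a = 1) (hA1 : A ≠ ⊥) :
    Nat.card A * Nat.card (fix φ A) < Nat.card V :=
  no_offender_aux _ X rfl _ V rfl φ hinj h2 hR hfree A hA hA1

end CfsgLib.S3Free
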