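import Cfsg.Agent.Lib.S3Free.Group
import Cfsg.Agent.Lib.S3Free.NoOffender
import Cfsg.Agent.Lib.ClassTwoSylow
import Cfsg.Agent.Lib.PLocal.StableNormal

/-!
In an `S₄`-free group of characteristic 2 every element is a product of an element centralizing `Z(S)` and
an element normalizing `J(S)`.
-/

set_option autoImplicit false
set_option maxHeartbeats 800000

namespace CfsgLib.S3Free

open CfsgLib CfsgLib.Local CfsgLib.OffenderTwo Cfsg

universe u

variable {G : Type u} [Group G] [Finite G]

/-- The largest elementary abelian subgroups centralize a normal elementary abelian subgroup `V` if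
`G / C(V)` has no normal 2-subgroup. -/
theorem maxEl_le_centralizer (hfree : ¬ Involves (Equiv.Perm (Fin 4)) G) {V : Subgroup G} [hVn : V.Normal]
    (hV : IsElementaryAbelian 2 V) [hCn : (Subgroup.centralizer (V : Set G)).Normal]
    (hcore : pCore 2 (G ⧸ Subgroup.centralizer (V : Set G)) = ⊥) {A : Subgroup G} (hA : A ∈ maxEl G) :
    A ≤ Subgroup.centralizer (V : Set G) := by
  haveI hVc : IsMulCommutative V := hV.1
  letI : CommGroup V := { (inferInstance : Group V) with mul_comm := hVc.is_comm.comm }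
  set C := Subgroup.centralizer (V : Set G)
  let π := QuotientGroup.mk' C
  have hπ : Function.Surjective π := QuotientGroup.mk'_surjective C
  let ρ : G →* MulAut V := MulAut.conjNormal
  have hρC : C ≤ ρ.ker := fun c hc => MulEquiv.ext fun v => Subtype.ext (by
    show ((MulAut.conjNormal c v : V) : G) = v
    rw [MulAut.conjNormal_apply, mul_inv_eq_iff_eq_mul]
    exact (hc v v.2).symm)
  let φ : G ⧸ C →* MulAut V := QuotientGroup.lift C ρ hρC
  have hval : ∀ g (v : V), ((φ (π g) v : V) : G) = g * v * g⁻¹ := fun g v => MulAut.conjNormal_apply g v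
  have hinj : Function.Injective φ := by
    refine (injective_iff_map_eq_one φ).2 fun y hy => ?_
    obtain ⟨g, rfl⟩ := hπ y
    refine (QuotientGroup.eq_one_iff g).2 fun v hv => ?_
    have := congrArg Subtype.val (show φ (π g) ⟨v, hv⟩ = ⟨v, hv⟩ by rw [hy]; rfl)
    rw [hval] at this
    exact (mul_inv_eq_iff_eq_mul.1 this).symm
  have hF := fam_image hV φ hval
  intro a ha
  by_contra hac
  have hne : A.map π ≠ ⊥ := fun e =>
    hac ((QuotientGroup.eq_one_iff a).1 (Subgroup.mem_bot.1 (e ▸ ⟨a, ha, rfl⟩)))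
  have hlt := no_offender hinj (fun v => Subtype.ext (by rw [Subgroup.coe_mul, ← pow_two]; exact hV.2 v v.2))
    hcore (not_involves_quotient hfree V (fun v => ⟨1, Subtype.ext (by simpa using hV.2 v v.2)⟩))
    (hF.sq _ ⟨A, hA, rfl⟩) hne
  have hbest := hF.best _ ⟨A, hA, rfl⟩ ⊥ bot_le
  rw [Subgroup.card_bot, one_mul, show fix φ (⊥ : Subgroup (G ⧸ C)) = ⊤ from
    eq_top_iff.2 fun w _ a ha => by rw [Subgroup.mem_bot.1 ha, map_one, MulAut.one_apply],
    Subgroup.card_top] at hbest
  exact hlt.not_ge hbest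

/-- If the largest elementary abelian subgroups lie in a normal subgroup, its product with the normalizer of the
Thompson subgroup is everything. -/
theorem exists_mul_normalizer (C : Subgroup G) [C.Normal] (hC : ∀ A ∈ maxEl G, A ≤ C) (S : Sylow 2 G) (g : G) :
    ∃ c ∈ C, ∃ n ∈ Subgroup.normalizer (thompsonSubgroupOf 2 (S : Subgroup G) : Set G), g = c * n := by
  haveI : Fact (Nat.Prime 2) := ⟨Nat.prime_two⟩
  obtain ⟨P, hP⟩ := PLocal.exists_sylow_inf S C
  have hfr := Sylow.normalizer_sup_eq_top P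
  rw [hP] at hfr
  have hJeq : thompsonSubgroupOf 2 (S : Subgroup G) = offJoin (maxEl G) ((S : Subgroup G) ⊓ C) := by
    rw [thompson_eq_offJoin S]
    exact le_antisymm (sSup_le fun A hA => le_offJoin hA.1 (le_inf hA.2 (hC A hA.1)))
      (offJoin_mono _ inf_le_left)
  have hN : Subgroup.normalizer (((S : Subgroup G) ⊓ C : Subgroup G) : Set G) ≤
      Subgroup.normalizer (thompsonSubgroupOf 2 (S : Subgroup G) : Set G) := by
    intro x hx
    refine mem_normalizer_of_map_conj_eq (Subgroup.eq_of_le_of_card_ge ?_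
      (Subgroup.card_map_of_injective (MulAut.conj x).injective).ge)
    rw [hJeq]
    refine (map_offJoin_le _ (𝒪' := maxEl G) (fun A hA => maxEl_conj x hA) _).trans (offJoin_mono _ ?_)
    rw [map_conj_eq_of_mem_normalizer hx]
  have hg : g ∈ C ⊔ Subgroup.normalizer (((S : Subgroup G) ⊓ C : Subgroup G) : Set G) := by
    rw [sup_comm, hfr]; exact Subgroup.mem_top g
  obtain ⟨c, hc, n, hn, rfl⟩ := Subgroup.mem_sup_of_normal_left.1 hg
  exact ⟨c, hc, n, hN hn, rfl⟩

/-- A normal elementary abelian subgroup whose centralizer centralizes `Z(T)`. -/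
theorem exists_center_module (hcon : Subgroup.centralizer (pCore 2 G : Set G) ≤ pCore 2 G) (T : Sylow 2 G) :
    ∃ V : Subgroup G, V.Normal ∧ IsElementaryAbelian 2 V ∧ V ≤ pCore 2 G ∧
      Subgroup.centralizer (V : Set G) ≤ Subgroup.centralizer
        (((T : Subgroup G) ⊓ Subgroup.centralizer ((T : Subgroup G) : Set G) : Subgroup G) : Set G) ∧
      ∀ [(Subgroup.centralizer (V : Set G)).Normal], pCore 2 (G ⧸ Subgroup.centralizer (V : Set G)) = ⊥ := by
  haveI : Fact (Nat.Prime 2) := ⟨Nat.prime_two⟩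
  set Q := pCore 2 G
  have hQT : Q ≤ (T : Subgroup G) := pCore_le_sylow T
  set Z := (T : Subgroup G) ⊓ Subgroup.centralizer ((T : Subgroup G) : Set G) with hZdef
  have hZQ : ∀ z ∈ Z, z ∈ Q ⊓ Subgroup.centralizer (Q : Set G) := fun z hz =>
    ⟨hcon fun q hq => hz.2 q (hQT hq), fun q hq => hz.2 q (hQT hq)⟩
  set W := Subgroup.normalClosure (Z : Set G) with hW
  have hWQ : W ≤ Q ⊓ Subgroup.centralizer (Q : Set G) := Subgroup.normalClosure_le_normal fun z hz => hZQ z hz
  have hWc : ∀ a ∈ W, ∀ b ∈ W, a * b = b * a := fun a ha b hb => (hWQ hb).2 a (hWQ ha).1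
  have hW2 : IsPGroup 2 W := (isPGroup_pCore 2).to_le (hWQ.trans inf_le_left)
  let V : Subgroup G :=
    { carrier := {x | x ∈ W ∧ x ^ 2 = 1}
      one_mem' := ⟨W.one_mem, one_pow 2⟩
      mul_mem' := fun {a b} ha hb => ⟨W.mul_mem ha.1 hb.1, by
        rw [(show Commute a b from hWc a ha.1 b hb.1).mul_pow, ha.2, hb.2, one_mul]⟩
      inv_mem' := fun {a} ha => ⟨W.inv_mem ha.1, by rw [inv_pow, ha.2, inv_one]⟩ }
  have hVW : V ≤ W := fun x hx => hx.1
  haveI hVn : V.Normal := ⟨fun x hx g => ⟨(inferInstance : W.Normal).conj_mem x hx.1 g, by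
    rw [conj_pow, hx.2, mul_one, mul_inv_cancel]⟩⟩
  haveI hVc : IsMulCommutative V := ⟨⟨fun a b => Subtype.ext (hWc a a.2.1 b b.2.1)⟩⟩
  set D := Subgroup.centralizer (W : Set G) with hD
  haveI : D.Normal := Subgroup.normal_centralizer
  have hDZ : D ≤ Subgroup.centralizer (Z : Set G) := Subgroup.centralizer_le Subgroup.subset_normalClosure
  have hcoreD : pCore 2 (G ⧸ D) = ⊥ := by
    set π := QuotientGroup.mk' D
    have hT' : pCore 2 (G ⧸ D) ≤ (T : Subgroup G).map π := by
      rw [← Sylow.coe_mapSurjective (QuotientGroup.mk'_surjective D) T]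
      exact pCore_le_sylow _
    set R := (pCore 2 (G ⧸ D)).comap π
    have hRZ : R ≤ Subgroup.centralizer (Z : Set G) := by
      intro x hx
      obtain ⟨t, ht, he⟩ := hT' hx
      have h1 : x * t⁻¹ ∈ D := (QuotientGroup.eq_one_iff _).1 (by
        show π (x * t⁻¹) = 1
        rw [map_mul, map_inv, ← he, mul_inv_cancel])
      simpa using Subgroup.mul_mem _ (hDZ h1) (show t ∈ Subgroup.centralizer (Z : Set G) from
        fun z hz => (hz.2 t ht).symm)
    haveI : R.Normal := Subgroup.Normal.comap inferInstance π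
    haveI : (Subgroup.centralizer (R : Set G)).Normal := Subgroup.normal_centralizer
    have hWR : W ≤ Subgroup.centralizer (R : Set G) := Subgroup.normalClosure_le_normal fun z hz r hr =>
      ((hRZ hr) z hz).symm
    refine (Subgroup.eq_bot_iff_forall _).2 fun y hy => ?_
    obtain ⟨x, rfl⟩ := QuotientGroup.mk'_surjective D y
    exact (QuotientGroup.eq_one_iff x).2 fun w hw => ((hWR hw) x hy).symm
  have hCD : Subgroup.centralizer (V : Set G) = D := by
    haveI : (Subgroup.centralizer (V : Set G)).Normal := Subgroup.normal_centralizer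
    refine le_antisymm ?_ (Subgroup.centralizer_le hVW)
    set π := QuotientGroup.mk' D
    set C := Subgroup.centralizer (V : Set G)
    haveI : (C.map π).Normal := Subgroup.Normal.map inferInstance π (QuotientGroup.mk'_surjective D)
    have h2 : IsPGroup 2 (C.map π) := by
      rintro ⟨_, x, hx, rfl⟩
      obtain ⟨k, m, hm2, hkm⟩ := Nat.exists_eq_pow_mul_and_not_dvd (orderOf_pos x).ne' 2 (by norm_num)
      refine ⟨k, Subtype.ext ?_⟩
      show (π x) ^ 2 ^ k = 1
      rw [← map_pow]
      refine (QuotientGroup.eq_one_iff _).2 ?_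
      have hy : x ^ 2 ^ k ∈ C := C.pow_mem hx _
      have hodd : Odd (orderOf (x ^ 2 ^ k)) := by
        rw [orderOf_pow' x (pow_ne_zero k two_ne_zero), hkm, Nat.gcd_mul_right_left,
          Nat.mul_div_cancel_left m (Nat.two_pow_pos k)]
        exact Nat.odd_iff.2 (by omega)
      intro w hw
      have h := ClassTwoSylow.fixes_abelian_two hW2 hWc hodd
        (fun a ha => (inferInstance : W.Normal).conj_mem a ha _)
        (fun a ha h2 => mul_inv_eq_iff_eq_mul.2 (hy a ⟨ha, by rw [sq]; exact h2⟩).symm) w hw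
      exact (mul_inv_eq_iff_eq_mul.1 h).symm
    have h3 := le_pCore h2
    rw [hcoreD] at h3
    exact fun x hx => (QuotientGroup.eq_one_iff x).1 (Subgroup.mem_bot.1 (h3 ⟨x, hx, rfl⟩))
  refine ⟨V, hVn, ⟨hVc, fun x hx => hx.2⟩, hVW.trans (hWQ.trans inf_le_left), hCD.le.trans hDZ, ?_⟩
  intro hn
  revert hn
  rw [hCD]
  intro _
  exact hcoreD

/-- The product `G = C(Z(T)) N(J(T))`. -/
theorem exists_product (hfree : ¬ Involves (Equiv.Perm (Fin 4)) G)
    (hcon : Subgroup.centralizer (pCore 2 G : Set G) ≤ pCore 2 G) (T : Sylow 2 G) (g : G) :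
    ∃ c ∈ Subgroup.centralizer
        (((T : Subgroup G) ⊓ Subgroup.centralizer ((T : Subgroup G) : Set G) : Subgroup G) : Set G),
      ∃ n ∈ Subgroup.normalizer (thompsonSubgroupOf 2 (T : Subgroup G) : Set G), g = c * n := by
  obtain ⟨V, hVn, hV, -, hVZ, hcore⟩ := exists_center_module hcon T
  haveI : (Subgroup.centralizer (V : Set G)).Normal := Subgroup.normal_centralizer
  obtain ⟨c, hc, n, hn, rfl⟩ := exists_mul_normalizer (Subgroup.centralizer (V : Set G))
    (fun A hA => maxEl_le_centralizer hfree hV hcore hA) T g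
  exact ⟨c, hVZ hc, n, hn, rfl⟩

end CfsgLib.S3Free
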