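import Cfsg.Agent.Lib.S3Free.TwoDual
import Cfsg.Agent.Lib.S3Free.Product
import Cfsg.Agent.Lib.S3Free.Constrained

/-!
E-groups inside an ambient group, and the subgroups `Ĵ`.
-/

set_option autoImplicit false
set_option linter.unusedSectionVars false
set_option maxHeartbeats 1000000

namespace CfsgLib.S3Free.EGrp

open scoped commutatorElement
open CfsgLib CfsgLib.Local CfsgLib.OffenderTwo Cfsg CfsgLib.S3Free

universe u v

variable {G : Type u} [Group G]

/-- `R` induces a nontrivial elementary abelian group on `V`. -/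
def Act (V R : Subgroup G) : Prop :=
  ⁅R, R⁆ ≤ Subgroup.centralizer (V : Set G) ∧ (∀ r ∈ R, r ^ 2 ∈ Subgroup.centralizer (V : Set G)) ∧
    ¬ R ≤ Subgroup.centralizer (V : Set G)

/-- The two inequalities of an E-group. -/
def Bnd (V R : Subgroup G) : Prop :=
  (Nat.card V) ^ 2 * (Nat.card ↥(R ⊓ Subgroup.centralizer (V : Set G))) ^ 3 >
      (Nat.card R) ^ 3 * (Nat.card ↥(V ⊓ Subgroup.centralizer (R : Set G))) ^ 2 ∧
    Nat.card ↥⁅V, R⁆ * Nat.card ↥(R ⊓ Subgroup.centralizer (V : Set G)) > Nat.card R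

/-- `V` satisfies the inequalities inside `U`. -/
def Tame (U V : Subgroup G) : Prop :=
  V ≤ U ∧ U ≤ Subgroup.normalizer (V : Set G) ∧ IsElementaryAbelian 2 V ∧
    ∀ R : Subgroup G, R ≤ U → Act V R → Bnd V R

/-- The composition factors of a quotient. -/
theorem quotient_compK {K : ∀ (X : Type u) [Group X], Prop} [Finite G]
    (hK : ∀ (Y Z : Type u) [Group Y] [Group Z], Nonempty (Y ≃* Z) → K Y → K Z)
    (hc : IsCompositionKGroupWith K G) (C : Subgroup G) [C.Normal] : IsCompositionKGroupWith K (G ⧸ C) := by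
  intro H hH N _ hs hna
  set π := QuotientGroup.mk' C
  let q : (H.comap π) →* H ⧸ N := (QuotientGroup.mk' N).comp (π.subgroupComap H)
  have hq : Function.Surjective q := (QuotientGroup.mk'_surjective N).comp (fun y => by
    obtain ⟨x, hx⟩ := QuotientGroup.mk'_surjective C (y : G ⧸ C)
    exact ⟨⟨x, by rw [Subgroup.mem_comap]; rw [hx]; exact y.2⟩, Subtype.ext hx⟩)
  let e := QuotientGroup.quotientKerEquivOfSurjective q hq
  refine hK _ _ ⟨e⟩ (hc _ (hH.comap π) q.ker e.isSimpleGroup fun hcm => hna ⟨⟨fun a b => e.symm.injective ?_⟩⟩)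
  rw [map_mul, map_mul]
  exact hcm.1.comm _ _

section transport

variable {H : Type v} [Group H] (f : H →* G) (hf : Function.Injective f)
include hf

theorem map_centralizer (A V : Subgroup H) :
    (A ⊓ Subgroup.centralizer (V : Set H)).map f = A.map f ⊓ Subgroup.centralizer ((V.map f : Subgroup G) : Set G) := by
  ext x
  constructor
  · rintro ⟨a, ⟨ha, hc⟩, rfl⟩
    refine ⟨⟨a, ha, rfl⟩, ?_⟩
    rintro _ ⟨v, hv, rfl⟩
    rw [← map_mul, ← map_mul, hc v hv]
  · rintro ⟨⟨a, ha, rfl⟩, hc⟩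
    exact ⟨a, ⟨ha, fun v hv => hf (by rw [map_mul, map_mul]; exact hc _ ⟨v, hv, rfl⟩)⟩, rfl⟩

theorem le_centralizer_map_iff (A V : Subgroup H) :
    A.map f ≤ Subgroup.centralizer ((V.map f : Subgroup G) : Set G) ↔ A ≤ Subgroup.centralizer (V : Set H) := by
  constructor
  · intro h a ha v hv
    exact hf (by rw [map_mul, map_mul]; exact h ⟨a, ha, rfl⟩ _ ⟨v, hv, rfl⟩)
  · rintro h _ ⟨a, ha, rfl⟩ _ ⟨v, hv, rfl⟩
    rw [← map_mul, ← map_mul, h ha v hv]

theorem act_map_iff (V R : Subgroup H) :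
    Act (V.map f) (R.map f) ↔ ⁅R, R⁆ ≤ Subgroup.centralizer (V : Set H) ∧
      (∀ r ∈ R, r ^ 2 ∈ Subgroup.centralizer (V : Set H)) ∧ ¬ R ≤ Subgroup.centralizer (V : Set H) := by
  unfold Act
  rw [← Subgroup.map_commutator, le_centralizer_map_iff f hf, le_centralizer_map_iff f hf]
  refine and_congr_right fun _ => and_congr_left' ⟨fun h r hr v hv => hf ?_, ?_⟩
  · rw [map_mul, map_mul, map_pow]
    exact h _ ⟨r, hr, rfl⟩ _ ⟨v, hv, rfl⟩
  · rintro h _ ⟨r, hr, rfl⟩ _ ⟨v, hv, rfl⟩
    rw [← map_pow, ← map_mul, ← map_mul, h r hr v hv]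

theorem bnd_map_iff (V R : Subgroup H) :
    Bnd (V.map f) (R.map f) ↔
      ((Nat.card V) ^ 2 * (Nat.card ↥(R ⊓ Subgroup.centralizer (V : Set H))) ^ 3 >
          (Nat.card R) ^ 3 * (Nat.card ↥(V ⊓ Subgroup.centralizer (R : Set H))) ^ 2 ∧
        Nat.card ↥⁅V, R⁆ * Nat.card ↥(R ⊓ Subgroup.centralizer (V : Set H)) > Nat.card R) := by
  unfold Bnd
  rw [← map_centralizer f hf, ← map_centralizer f hf, ← Subgroup.map_commutator,
    Subgroup.card_map_of_injective hf, Subgroup.card_map_of_injective hf, Subgroup.card_map_of_injective hf,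
    Subgroup.card_map_of_injective hf, Subgroup.card_map_of_injective hf]

/-- Reading off the property of an E-group in the ambient group. -/
theorem isEGroup_iff_of_injective :
    IsEGroup H ↔ ∀ V : Subgroup G, Tame f.range V → f.range ≤ Subgroup.centralizer (V : Set G) := by
  constructor
  · intro h V ⟨hVU, hn, hel, hb⟩
    have hmap : (V.comap f).map f = V := Subgroup.map_comap_eq_self hVU
    have hnorm : (V.comap f).Normal := ⟨fun v hv x => by
      rw [Subgroup.mem_comap, map_mul, map_mul, map_inv]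
      exact (Subgroup.mem_normalizer_iff.1 (hn ⟨x, rfl⟩) _).1 hv⟩
    have hel' : IsElementaryAbelian 2 (V.comap f) := by
      refine ⟨⟨⟨fun a b => Subtype.ext (hf ?_)⟩⟩, fun a ha => hf ?_⟩
      · rw [Subgroup.coe_mul, Subgroup.coe_mul, map_mul, map_mul]
        exact congrArg Subtype.val (hel.1.1.comm ⟨_, a.2⟩ ⟨_, b.2⟩)
      · rw [map_pow, map_one]
        exact hel.2 _ ha
    have hc := h (V.comap f) hnorm hel' fun R h1 h2 h3 => by
      refine (bnd_map_iff f hf (V.comap f) R).1 ?_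
      rw [hmap]
      refine hb (R.map f) (by rintro _ ⟨r, -, rfl⟩; exact ⟨r, rfl⟩) ?_
      rw [← hmap]
      exact (act_map_iff f hf (V.comap f) R).2 ⟨h1, h2, h3⟩
    rintro _ ⟨x, rfl⟩ v hv
    obtain ⟨w, rfl⟩ := hVU hv
    rw [← map_mul, ← map_mul, Subgroup.mem_center_iff.1 (hc hv) x]
  · intro h V hn hel hb
    have hrange : ∀ R : Subgroup G, R ≤ f.range → (R.comap f).map f = R := fun R hR =>
      Subgroup.map_comap_eq_self hR
    have hc := h (V.map f) ⟨by rintro _ ⟨v, -, rfl⟩; exact ⟨v, rfl⟩, ?_, ?_, ?_⟩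
    · intro v hv
      refine Subgroup.mem_center_iff.2 fun x => hf ?_
      rw [map_mul, map_mul]
      exact (hc ⟨x, rfl⟩ _ ⟨v, hv, rfl⟩).symm
    · rintro _ ⟨x, rfl⟩
      rw [Subgroup.mem_normalizer_iff]
      refine fun y => ⟨?_, fun hy => ?_⟩
      · rintro ⟨v, hv, rfl⟩
        exact ⟨x * v * x⁻¹, hn.conj_mem v hv x, by simp⟩
      · obtain ⟨v, hv, he⟩ := hy
        refine ⟨x⁻¹ * v * x⁻¹⁻¹, hn.conj_mem v hv x⁻¹, ?_⟩
        rw [inv_inv, map_mul, map_mul, map_inv, he]
        group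
    · exact ⟨by
      haveI := hel.1
      infer_instance, by
      rintro _ ⟨v, hv, rfl⟩
      rw [← map_pow, hel.2 v hv, map_one]⟩
    · intro R hR hact
      rw [← hrange R hR] at hact ⊢
      obtain ⟨h1, h2, h3⟩ := (act_map_iff f hf V _).1 hact
      exact (bnd_map_iff f hf V _).2 (hb _ h1 h2 h3)

end transport

theorem isEGroup_iff (U : Subgroup G) :
    IsEGroup U ↔ ∀ V : Subgroup G, Tame U V → U ≤ Subgroup.centralizer (V : Set G) := by
  rw [isEGroup_iff_of_injective U.subtype U.subtype_injective, Subgroup.range_subtype]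

variable [Finite G]

/-- `Ĵ(S)` as a subgroup of the ambient group. -/
def jh (S : Subgroup G) : Subgroup G := (jHat S).map S.subtype

theorem jh_eq (S : Subgroup G) :
    jh S = sSup {U : Subgroup G | U ≤ S ∧ IsEGroup U ∧ thompsonSubgroupOf 2 S ≤ U} := by
  refine le_antisymm ?_ (sSup_le ?_)
  · rw [jh, jHat, Subgroup.map_le_iff_le_comap]
    refine sSup_le ?_
    rintro U ⟨hU, hJ⟩
    refine Subgroup.map_le_iff_le_comap.1 (le_sSup ?_)
    refine ⟨Subgroup.map_subtype_le _, ?_, Subgroup.map_mono hJ⟩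
    rw [isEGroup_iff_of_injective (S.subtype.comp U.subtype) (S.subtype_injective.comp U.subtype_injective)] at hU
    rw [isEGroup_iff]
    rwa [MonoidHom.range_comp, Subgroup.range_subtype] at hU
  · rintro U ⟨hUS, hU, hJ⟩
    have hmap : (U.subgroupOf S).map S.subtype = U := Subgroup.map_subgroupOf_eq_of_le hUS
    rw [← hmap]
    refine Subgroup.map_mono (le_sSup ⟨?_, ?_⟩)
    · rw [isEGroup_iff_of_injective (S.subtype.comp (U.subgroupOf S).subtype)
        (S.subtype_injective.comp (U.subgroupOf S).subtype_injective), MonoidHom.range_comp, Subgroup.range_subtype,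
        hmap]
      exact (isEGroup_iff U).1 hU
    · exact fun x hx => hJ ⟨x, hx, rfl⟩

theorem le_jh {S U : Subgroup G} (hUS : U ≤ S) (hU : IsEGroup U) (hJ : thompsonSubgroupOf 2 S ≤ U) :
    U ≤ jh S := by
  rw [jh_eq]
  exact le_sSup ⟨hUS, hU, hJ⟩

/-- `J(S)` is an E-group. -/
theorem isEGroup_thompson (S : Sylow 2 G) : IsEGroup (thompsonSubgroupOf 2 (S : Subgroup G)) := by
  rw [isEGroup_iff]
  intro V ⟨hVJ, hn, hel, hb⟩
  haveI := hel.1
  rw [thompson_eq_offJoin S]
  refine sSup_le fun A hA => ?_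
  by_contra hne
  haveI := hA.1.1.1
  have hAJ : A ≤ thompsonSubgroupOf 2 (S : Subgroup G) := by
    rw [thompson_eq_offJoin S]; exact le_offJoin hA.1 hA.2
  have hb1 := (hb A hAJ ⟨Subgroup.commutator_le.2 fun a ha b hb => ?_, fun a ha => ?_, hne⟩).1
  rotate_left
  · have e : ⁅a, b⁆ = 1 :=
      commutatorElement_eq_one_iff_mul_comm.2 (Subgroup.mul_comm_of_mem_isMulCommutative A ha hb)
    rw [e]; exact one_mem _
  · rw [hA.1.1.2 a ha]; exact one_mem _
  have hB : Nat.card ↥(A ⊓ Subgroup.centralizer (V : Set G)) * Nat.card V ≤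
      Nat.card A * Nat.card ↥(V ⊓ Subgroup.centralizer (A : Set G)) := by
    set B := A ⊓ Subgroup.centralizer (V : Set G)
    have hBel : IsElementaryAbelian 2 B :=
      ⟨⟨⟨fun a b => Subtype.ext (Subgroup.mul_comm_of_mem_isMulCommutative A a.2.1 b.2.1)⟩⟩,
        fun x hx => hA.1.1.2 x hx.1⟩
    have h1 := hA.1.2 _ (isElementary_sup hBel hel (fun v hv a ha => (ha.2 v hv).symm))
    have h2 := Products.card_mul_card_le B V
    have h3 : B ⊓ V ≤ V ⊓ Subgroup.centralizer (A : Set G) := fun x hx =>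
      ⟨hx.2, fun a ha => Subgroup.mul_comm_of_mem_isMulCommutative A ha hx.1.1⟩
    exact h2.trans (Nat.mul_le_mul h1 (Subgroup.card_le_of_le h3))
  have hlt : Nat.card ↥(A ⊓ Subgroup.centralizer (V : Set G)) < Nat.card A := by
    refine lt_of_le_of_ne (Subgroup.card_le_of_le inf_le_left) fun e => hne ?_
    have := Subgroup.eq_of_le_of_card_ge (inf_le_left : A ⊓ Subgroup.centralizer (V : Set G) ≤ A) e.ge
    exact inf_eq_left.1 this
  generalize Nat.card ↥(A ⊓ Subgroup.centralizer (V : Set G)) = b at hb1 hB hlt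
  generalize Nat.card ↥(V ⊓ Subgroup.centralizer (A : Set G)) = c at hb1 hB
  generalize Nat.card A = a at hb1 hB hlt
  generalize Nat.card V = v at hb1 hB
  have h2 : v ^ 2 * b ^ 3 ≤ a ^ 3 * c ^ 2 := by
    calc v ^ 2 * b ^ 3 = (b * v) ^ 2 * b := by ring
      _ ≤ (a * c) ^ 2 * a := Nat.mul_le_mul (Nat.pow_le_pow_left hB 2) hlt.le
      _ = _ := by ring
  omega

theorem thompson_le_jh (S : Sylow 2 G) : thompsonSubgroupOf 2 (S : Subgroup G) ≤ jh (S : Subgroup G) :=
  le_jh (Subgroup.map_subtype_le _) (isEGroup_thompson S) le_rfl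

/-- Reduced normal modules satisfy the inequalities, the composition factors of the quotient being restricted. -/
theorem bnd_of_reduced_quot (hfree : ¬ Involves (Equiv.Perm (Fin 4)) G) {V : Subgroup G} [V.Normal]
    (hV : IsElementaryAbelian 2 V) [(Subgroup.centralizer (V : Set G)).Normal]
    (hcq : IsCompositionKGroupWith IsSuzukiOrPSL2OddPowerThree (G ⧸ Subgroup.centralizer (V : Set G)))
    (hcore : pCore 2 (G ⧸ Subgroup.centralizer (V : Set G)) = ⊥) {R : Subgroup G} (hR : Act V R) : Bnd V R := by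
  haveI hVc : IsMulCommutative V := hV.1
  letI : CommGroup V := { (inferInstance : Group V) with mul_comm := hVc.is_comm.comm }
  set C := Subgroup.centralizer (V : Set G)
  let π := QuotientGroup.mk' C
  let ρ : G →* MulAut V := MulAut.conjNormal
  have hρC : C ≤ ρ.ker := fun c hc => MulEquiv.ext fun v => Subtype.ext (by
    show ((MulAut.conjNormal c v : V) : G) = v
    rw [MulAut.conjNormal_apply, mul_inv_eq_iff_eq_mul]
    exact (hc v v.2).symm)
  let φ : G ⧸ C →* MulAut V := QuotientGroup.lift C ρ hρC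
  have hval : ∀ g (v : V), ((φ (π g) v : V) : G) = g * v * g⁻¹ := fun g v => MulAut.conjNormal_apply g v
  have hinj : Function.Injective φ := by
    refine (injective_iff_map_eq_one φ).2 fun y hy => ?_
    obtain ⟨g, rfl⟩ := QuotientGroup.mk'_surjective C y
    refine (QuotientGroup.eq_one_iff g).2 fun v hv => ?_
    have := congrArg Subtype.val (show φ (π g) ⟨v, hv⟩ = ⟨v, hv⟩ by rw [hy]; rfl)
    rw [hval] at this
    exact (mul_inv_eq_iff_eq_mul.1 this).symm
  have hV2 : IsPGroup 2 V := PLocal.isPGroup_elementary hV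
  have h2 : ∀ v : V, v * v = 1 := fun v => Subtype.ext (by rw [Subgroup.coe_mul, ← pow_two]; exact hV.2 v v.2)
  have hf3 := not_involves_quotient hfree V hV2
  have hA : ∀ a ∈ R.map π, a * a = 1 := by
    rintro _ ⟨r, hr, rfl⟩
    rw [← map_mul, ← sq]
    exact (QuotientGroup.eq_one_iff _).2 (hR.2.1 r hr)
  have b1 := TwoF.sq_bound hf3 hcore hcq hinj h2 hA
  have b2 := TwoF.comm_sq_bound hinj h2 hf3 hcore hcq hA
  have hcard : Nat.card (R.map π) * Nat.card ↥(R ⊓ C) = Nat.card R := by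
    have := card_map_mul_inf π R
    rwa [QuotientGroup.ker_mk'] at this
  have hfix : Nat.card (fix φ (R.map π)) = Nat.card ↥(V ⊓ Subgroup.centralizer (R : Set G)) := by
    rw [← fix_card R]
    congr 2
    ext v
    constructor
    · intro h r hr
      exact Subtype.ext ((MulAut.conjNormal_apply r v).trans ((hval r v).symm.trans
        (congrArg Subtype.val (h _ ⟨r, hr, rfl⟩))))
    · rintro h _ ⟨r, hr, rfl⟩
      exact Subtype.ext ((hval r v).trans ((MulAut.conjNormal_apply r v).symm.trans (congrArg Subtype.val (h r hr))))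
  have hmoved : Nat.card (TwoF.moved φ (R.map π)) ≤ Nat.card ↥⁅V, R⁆ := by
    rw [← Subgroup.card_map_of_injective V.subtype_injective]
    refine Subgroup.card_le_of_le ?_
    rw [TwoF.moved, MonoidHom.map_closure, Subgroup.closure_le]
    rintro _ ⟨w, ⟨_, ⟨r, hr, rfl⟩, v, rfl⟩, rfl⟩
    show ((φ (π r) v / v : V) : G) ∈ ⁅V, R⁆
    rw [Subgroup.coe_div, hval, div_eq_mul_inv]
    have h := Subgroup.inv_mem _ (Subgroup.commutator_mem_commutator v.2 hr)
    rw [commutatorElement_def] at h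
    simpa [mul_assoc] using h
  have hr2 : 2 ≤ Nat.card (R.map π) := by
    by_contra hlt
    refine hR.2.2 fun r hr => ?_
    have h1 : Nat.card (R.map π) = 1 := by
      have := Nat.card_pos (α := R.map π)
      omega
    rw [Subgroup.card_eq_one] at h1
    exact (QuotientGroup.eq_one_iff r).1 (Subgroup.mem_bot.1 (h1 ▸ ⟨r, hr, rfl⟩))
  have hle : Nat.card ↥(V ⊓ Subgroup.centralizer (R : Set G)) ≤ Nat.card V := Subgroup.card_le_of_le inf_le_left
  rw [hfix] at b1
  have hcpos : 0 < Nat.card ↥(R ⊓ C) := Nat.card_pos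
  have hfpos : 0 < Nat.card ↥(V ⊓ Subgroup.centralizer (R : Set G)) := Nat.card_pos
  unfold Bnd
  rw [← hcard]
  generalize Nat.card (R.map π) = r at b1 b2 hr2 hcard ⊢
  generalize Nat.card ↥(R ⊓ C) = c at hcpos hcard ⊢
  generalize Nat.card ↥(V ⊓ Subgroup.centralizer (R : Set G)) = f at b1 hfpos hle ⊢
  generalize Nat.card ↥⁅V, R⁆ = w at hmoved ⊢
  generalize Nat.card (TwoF.moved φ (R.map π)) = w' at b2 hmoved
  generalize Nat.card V = n at b1 hle ⊢
  refine ⟨?_, ?_⟩
  · calc (r * c) ^ 3 * f ^ 2 = r ^ 3 * (c ^ 3 * f ^ 2) := by ring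
      _ < r ^ 4 * (c ^ 3 * f ^ 2) :=
          Nat.mul_lt_mul_of_pos_right (Nat.pow_lt_pow_right (by omega) (by norm_num)) (by positivity)
      _ = (r ^ 2 * f) ^ 2 * c ^ 3 := by ring
      _ ≤ _ := Nat.mul_le_mul_right _ (Nat.pow_le_pow_left b1 2)
  · calc r * c < r ^ 2 * c := Nat.mul_lt_mul_of_pos_right (by
          calc r = r ^ 1 := (pow_one r).symm
            _ < r ^ 2 := Nat.pow_lt_pow_right (by omega) (by norm_num)) hcpos
      _ ≤ w * c := Nat.mul_le_mul_right _ (b2.trans hmoved)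

/-- Reduced normal modules satisfy the inequalities. -/
theorem bnd_of_reduced (hfree : ¬ Involves (Equiv.Perm (Fin 4)) G)
    (hc : IsCompositionKGroupWith IsSuzukiOrPSL2OddPowerThree G) {V : Subgroup G} [V.Normal]
    (hV : IsElementaryAbelian 2 V) [(Subgroup.centralizer (V : Set G)).Normal]
    (hcore : pCore 2 (G ⧸ Subgroup.centralizer (V : Set G)) = ⊥) {R : Subgroup G} (hR : Act V R) : Bnd V R :=
  bnd_of_reduced_quot hfree hV (quotient_compK (fun Y Z _ _ ⟨e⟩ h => TwoF.kind_transfer e h) hc _) hcore hR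

/-- Composition factors of a homomorphic image. -/
theorem compK_of_surjective {K : ∀ (X : Type u) [Group X], Prop} {Y : Type u} [Group Y]
    (hK : ∀ (Y Z : Type u) [Group Y] [Group Z], Nonempty (Y ≃* Z) → K Y → K Z)
    (f : G →* Y) (hf : Function.Surjective f) (hc : IsCompositionKGroupWith K G) : IsCompositionKGroupWith K Y := by
  intro H hH N _ hs hna
  let q : (H.comap f) →* H ⧸ N := (QuotientGroup.mk' N).comp (f.subgroupComap H)
  have hq : Function.Surjective q := (QuotientGroup.mk'_surjective N).comp (fun y => by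
    obtain ⟨x, hx⟩ := hf (y : Y)
    exact ⟨⟨x, by rw [Subgroup.mem_comap, hx]; exact y.2⟩, Subtype.ext hx⟩)
  let e := QuotientGroup.quotientKerEquivOfSurjective q hq
  refine hK _ _ ⟨e⟩ (hc _ (hH.comap f) q.ker e.isSimpleGroup fun hcm => hna ⟨⟨fun a b => e.symm.injective ?_⟩⟩)
  rw [map_mul, map_mul]
  exact hcm.1.comm _ _

end CfsgLib.S3Free.EGrp
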