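import Cfsg.Agent.Lib.S3Free.Gen

/-!
Families of offenders on quotients and subgroups.
-/

set_option autoImplicit false
set_option linter.unusedSectionVars false

namespace CfsgLib.S3Free

open CfsgLib CfsgLib.Local CfsgLib.OffenderTwo Cfsg

universe u v

variable {X : Type u} [Group X] [Finite X] {V : Type v} [CommGroup V] [Finite V]
  {φ : X →* MulAut V} {𝒪 : Set (Subgroup X)}

/-- The family induced on an invariant subspace. -/
theorem Fam.onSubspace (hF : Fam φ 𝒪) (W : Subgroup V) (K : Subgroup X) [K.Normal]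
    (ψ : X ⧸ K →* MulAut W)
    (hψ : ∀ x (w : W), ((ψ (QuotientGroup.mk' K x) w : W) : V) = φ x w) :
    Fam ψ ((fun A => A.map (QuotientGroup.mk' K)) '' 𝒪) := by
  set π := QuotientGroup.mk' K
  have hπ : Function.Surjective π := QuotientGroup.mk'_surjective K
  have hfix : ∀ B : Subgroup X, fix ψ (B.map π) = (fix φ B).subgroupOf W := by
    intro B
    ext w
    rw [Subgroup.mem_subgroupOf]
    constructor
    · intro hw b hb
      rw [← hψ]
      exact congrArg Subtype.val (hw (π b) ⟨b, hb, rfl⟩)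
    · rintro hw _ ⟨b, hb, rfl⟩
      exact Subtype.ext (by rw [hψ]; exact hw b hb)
  have hcard : ∀ B : Subgroup X, Nat.card (fix ψ (B.map π)) = Nat.card ↥(W ⊓ fix φ B) := fun B => by
    rw [hfix, ← Subgroup.card_map_of_injective W.subtype_injective, Subgroup.subgroupOf_map_subtype, inf_comm]
  refine ⟨?_, ?_, ?_, ?_⟩
  · rintro g _ ⟨A, hA, rfl⟩
    obtain ⟨x, rfl⟩ := hπ g
    refine ⟨_, hF.conj x A hA, ?_⟩
    ext z
    constructor
    · rintro ⟨_, ⟨a, ha, rfl⟩, rfl⟩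
      exact ⟨π a, ⟨a, ha, rfl⟩, by simp⟩
    · rintro ⟨_, ⟨a, ha, rfl⟩, rfl⟩
      exact ⟨_, ⟨a, ha, rfl⟩, by simp⟩
  · rintro _ ⟨A, hA, rfl⟩ _ ⟨a, ha, rfl⟩
    rw [← map_mul, hF.sq A hA a ha, map_one]
  · rintro _ ⟨A, hA, rfl⟩ B' hB'
    set B := A ⊓ B'.comap π
    have hBmap : B.map π = B' := by
      refine le_antisymm ?_ fun y hy => ?_
      · rw [Subgroup.map_le_iff_le_comap]; exact inf_le_right
      · obtain ⟨a, ha, rfl⟩ := hB' hy
        exact ⟨a, ⟨ha, hy⟩, rfl⟩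
    have hker : B ⊓ π.ker = A ⊓ π.ker := by
      refine le_antisymm (inf_le_inf_right _ inf_le_left) fun a ha => ⟨⟨ha.1, ?_⟩, ha.2⟩
      show π a ∈ B'
      rw [MonoidHom.mem_ker.1 ha.2]
      exact B'.one_mem
    have eA := card_map_mul_inf π A
    have eB := card_map_mul_inf π B
    rw [hker, hBmap] at eB
    have hb := hF.best A hA B inf_le_left
    rw [← hBmap, hcard, hcard, hBmap]
    have hsup : Nat.card ↥(W ⊓ fix φ B) * Nat.card (fix φ A) ≤ Nat.card (fix φ B) * Nat.card ↥(W ⊓ fix φ A) := by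
      rw [← card_sup_inf (W ⊓ fix φ B) (fix φ A)]
      refine Nat.mul_le_mul (Subgroup.card_le_of_le (sup_le inf_le_right (fix_anti inf_le_left))) ?_
      exact Subgroup.card_le_of_le (le_inf (inf_le_left.trans inf_le_left) inf_le_right)
    have hpos : 0 < Nat.card (fix φ A) * Nat.card ↥(A ⊓ π.ker) := Nat.mul_pos Nat.card_pos Nat.card_pos
    refine Nat.le_of_mul_le_mul_right ?_ hpos
    calc Nat.card B' * Nat.card ↥(W ⊓ fix φ B) * (Nat.card (fix φ A) * Nat.card ↥(A ⊓ π.ker))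
        = Nat.card B * (Nat.card ↥(W ⊓ fix φ B) * Nat.card (fix φ A)) := by rw [← eB]; ring
      _ ≤ Nat.card B * (Nat.card (fix φ B) * Nat.card ↥(W ⊓ fix φ A)) := Nat.mul_le_mul_left _ hsup
      _ = Nat.card B * Nat.card (fix φ B) * Nat.card ↥(W ⊓ fix φ A) := by ring
      _ ≤ Nat.card A * Nat.card (fix φ A) * Nat.card ↥(W ⊓ fix φ A) := Nat.mul_le_mul_right _ hb
      _ = _ := by rw [← eA]; ring
  · rintro _ ⟨A, hA, rfl⟩ W' hinv hmove
    obtain ⟨B, hB, hBA, hBmove, hBq⟩ := hF.quad A hA (W'.map W.subtype)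
      (by
        rintro a ha _ ⟨w, hw, rfl⟩
        exact ⟨ψ (π a) w, hinv (π a) ⟨a, ha, rfl⟩ w hw, hψ a w⟩)
      (fun hle => hmove (by
        rintro _ ⟨a, ha, rfl⟩ w hw
        exact Subtype.ext ((hψ a w).trans (hle ha _ ⟨w, hw, rfl⟩))))
    refine ⟨B.map π, ⟨B, hB, rfl⟩, Subgroup.map_mono hBA, fun hle => hBmove ?_, ?_⟩
    · rintro b hb _ ⟨w, hw, rfl⟩
      exact (hψ b w).symm.trans (congrArg Subtype.val (hle ⟨b, hb, rfl⟩ w hw))
    · rintro _ ⟨b, hb, rfl⟩ _ ⟨c, hc, rfl⟩ w hw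
      refine Subtype.ext ?_
      rw [hψ, Subgroup.coe_div, hψ]
      exact hBq b hb c hc _ ⟨w, hw, rfl⟩

/-- The family in a subgroup. -/
theorem Fam.onSubgroup (hF : Fam φ 𝒪) (H : Subgroup X) :
    Fam (φ.comp H.subtype) {A | A.map H.subtype ∈ 𝒪} := by
  refine ⟨fun g A hA => ?_, fun A hA a ha => Subtype.ext (hF.sq _ hA a ⟨a, ha, rfl⟩), fun A hA B hB => ?_, ?_⟩
  · show (A.map (MulAut.conj g).toMonoidHom).map H.subtype ∈ 𝒪
    have e : (A.map (MulAut.conj g).toMonoidHom).map H.subtype =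
        (A.map H.subtype).map (MulAut.conj (g : X)).toMonoidHom := by
      rw [Subgroup.map_map, Subgroup.map_map]
      rfl
    rw [e]
    exact hF.conj _ _ hA
  · have := hF.best _ hA (B.map H.subtype) (Subgroup.map_mono hB)
    rwa [Subgroup.card_map_of_injective H.subtype_injective,
      Subgroup.card_map_of_injective H.subtype_injective, fix_map, fix_map] at this
  · intro A hA W hinv hmove
    obtain ⟨B, hB, hBA, hBm, hBq⟩ := hF.quad _ hA W
      (by rintro _ ⟨a, ha, rfl⟩ w hw; exact hinv a ha w hw)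
      (fun hle => hmove fun a ha => hle ⟨a, ha, rfl⟩)
    have hBH : B ≤ H := hBA.trans (Subgroup.map_subtype_le A)
    refine ⟨B.subgroupOf H, ?_, ?_, fun hle => hBm fun b hb => hle (x := ⟨b, hBH hb⟩) hb, ?_⟩
    · show (B.subgroupOf H).map H.subtype ∈ 𝒪
      rwa [Subgroup.map_subgroupOf_eq_of_le hBH]
    · intro b hb
      obtain ⟨a, ha, he⟩ := hBA hb
      rwa [show b = a from Subtype.ext he.symm]
    · exact fun b hb c hc w hw => hBq b hb c hc w hw

/-- The join of the images in the image of a maximal 2-subgroup. -/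
theorem Fam.offJoin_image (hF : Fam φ 𝒪) (K : Subgroup X) [K.Normal] {S : Subgroup X} (hS : IsPGroup 2 S)
    (hmax : ∀ P : Subgroup X, IsPGroup 2 P → S ≤ P → P ≤ K ⊔ S → P = S) :
    offJoin ((fun A => A.map (QuotientGroup.mk' K)) '' 𝒪) (S.map (QuotientGroup.mk' K)) =
      (offJoin 𝒪 S).map (QuotientGroup.mk' K) := by
  haveI : Fact (Nat.Prime 2) := ⟨Nat.prime_two⟩
  set π := QuotientGroup.mk' K
  refine le_antisymm ?_ (map_offJoin_le π (𝒪 := 𝒪) (𝒪' := (fun A : Subgroup X => A.map π) '' 𝒪)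
    (fun A hA => ⟨A, hA, rfl⟩) _)
  refine sSup_le ?_
  rintro _ ⟨⟨A, hA, rfl⟩, hAT⟩
  have hAC : A ≤ K ⊔ S := fun a ha => by
    obtain ⟨t, ht, he⟩ := hAT ⟨a, ha, rfl⟩
    have hk : a * t⁻¹ ∈ K := (QuotientGroup.eq_one_iff _).1 (by
      show π (a * t⁻¹) = 1
      rw [map_mul, map_inv, ← he, mul_inv_cancel])
    simpa using (K ⊔ S).mul_mem (Subgroup.mem_sup_left hk) (Subgroup.mem_sup_right ht)
  obtain ⟨c, hc, P, hP, hPle, hTP, hAP⟩ := exists_conj_isPGroup (p := 2) hS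
    (isPGroup_of_sq (hF.sq A hA)) le_sup_right hAC
  rw [hmax P hP hTP hPle] at hAP
  obtain ⟨k, hk, t, ht, rfl⟩ := Subgroup.mem_sup_of_normal_left.1 hc
  have hA' := le_offJoin (hF.conj (k * t) A hA) hAP
  rintro _ ⟨a, ha, rfl⟩
  refine ⟨t⁻¹ * (k * t * a * (k * t)⁻¹) * t, ?_, ?_⟩
  · have hm : k * t * a * (k * t)⁻¹ ∈ offJoin 𝒪 S := hA' ⟨a, ha, rfl⟩
    have htN : t⁻¹ ∈ Subgroup.normalizer (offJoin 𝒪 S : Set X) :=
      hF.normalizer_le S (Subgroup.le_normalizer (S.inv_mem ht))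
    exact SetLike.mem_coe.2 (by simpa only [inv_inv] using (Subgroup.mem_normalizer_iff.1 htN _).1 hm)
  · have hk1 : π k = 1 := (QuotientGroup.eq_one_iff k).2 hk
    simp [map_mul, map_inv, hk1, mul_assoc]

/-- The normalizer of the join, lifted. -/
theorem Fam.comap_normalizer_le (hF : Fam φ 𝒪) (K : Subgroup X) [K.Normal] (T : Sylow 2 X) :
    (Subgroup.normalizer (((offJoin 𝒪 (T : Subgroup X)).map (QuotientGroup.mk' K) :
      Subgroup (X ⧸ K)) : Set (X ⧸ K))).comap (QuotientGroup.mk' K) ≤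
      K ⊔ Subgroup.normalizer (offJoin 𝒪 (T : Subgroup X) : Set X) := by
  haveI : Fact (Nat.Prime 2) := ⟨Nat.prime_two⟩
  set π := QuotientGroup.mk' K
  set J := offJoin 𝒪 (T : Subgroup X)
  intro x hx
  have hL : ∀ y ∈ K ⊔ J, x * y * x⁻¹ ∈ K ⊔ J := by
    intro y hy
    rw [← show (J.map π).comap π = K ⊔ J by rw [Subgroup.comap_map_eq, QuotientGroup.ker_mk', sup_comm]] at hy ⊢
    show π (x * y * x⁻¹) ∈ J.map π
    rw [map_mul, map_mul, map_inv]
    exact (Subgroup.mem_normalizer_iff.1 hx _).1 hy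
  have hJ2 : IsPGroup 2 J := T.2.to_le (offJoin_le _ _)
  obtain ⟨c, hc, P, hP, -, hJP, hxP⟩ := exists_conj_isPGroup (p := 2) hJ2
    (hJ2.map (MulAut.conj x).toMonoidHom) (le_sup_right : J ≤ K ⊔ J)
    (map_conj_le fun y hy => hL y (Subgroup.mem_sup_right hy))
  obtain ⟨S, hS⟩ := hP.exists_le_sylow
  have hSJ := hF.offJoin_eq (T := T) (S := S) (hJP.trans hS)
  have hcx : c * x ∈ Subgroup.normalizer (J : Set X) := by
    refine mem_normalizer_of_map_conj_eq (Subgroup.eq_of_le_of_card_ge ?_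
      (Subgroup.card_map_of_injective (MulAut.conj (c * x)).injective).ge)
    rw [← map_conj_mul] at *
    have h1 : ((J.map (MulAut.conj x).toMonoidHom).map (MulAut.conj c).toMonoidHom) ≤ (S : Subgroup X) :=
      hxP.trans hS
    rw [map_conj_mul, hF.map_offJoin, ← offJoin_idem]
    rw [map_conj_mul, hF.map_offJoin] at h1
    exact (offJoin_mono 𝒪 h1).trans hSJ.le
  have hcm : c ∈ K ⊔ Subgroup.normalizer (J : Set X) := sup_le_sup_left Subgroup.le_normalizer K hc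
  simpa using Subgroup.mul_mem _ (Subgroup.inv_mem _ hcm) (Subgroup.mem_sup_right hcx)

end CfsgLib.S3Free
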