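import Cfsg.Agent.Lib.S3Free.Fusion

/-!
In a group isomorphic to `S₄` the functors `Z` and `J` do not control strong fusion.
-/

set_option autoImplicit false

namespace CfsgLib.S3Free

open CfsgLib Cfsg

universe u

namespace Four

local notation "P4" => Equiv.Perm (Fin 4)

/-- A double transposition. -/
def z0 : P4 := Equiv.swap 0 1 * Equiv.swap 2 3

theorem card_centralizer : Nat.card (Subgroup.centralizer ({z0} : Set P4)) = 8 := by
  classical
  rw [Nat.card_congr (Equiv.subtypeEquivRight (q := fun g : P4 => g * z0 = z0 * g)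
    fun g => Subgroup.mem_centralizer_singleton_iff), Nat.card_eq_fintype_card]
  decide +kernel

theorem witnesses :
    Equiv.swap (0 : Fin 4) 1 * z0 = z0 * Equiv.swap 0 1 ∧
    (Equiv.swap (1 : Fin 4) 2 * Equiv.swap 0 1 * (Equiv.swap (1 : Fin 4) 2)⁻¹) * z0 ≠
      z0 * (Equiv.swap (1 : Fin 4) 2 * Equiv.swap 0 1 * (Equiv.swap (1 : Fin 4) 2)⁻¹) ∧
    (Equiv.swap (1 : Fin 4) 2 * z0 * (Equiv.swap (1 : Fin 4) 2)⁻¹) * z0 =
      z0 * (Equiv.swap (1 : Fin 4) 2 * z0 * (Equiv.swap (1 : Fin 4) 2)⁻¹) ∧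
    (Equiv.swap (1 : Fin 4) 2 * z0 * (Equiv.swap (1 : Fin 4) 2)⁻¹) * Equiv.swap 0 1 ≠
      Equiv.swap 0 1 * (Equiv.swap (1 : Fin 4) 2 * z0 * (Equiv.swap (1 : Fin 4) 2)⁻¹) := by
  decide +kernel

theorem sq_witnesses : Equiv.swap (0 : Fin 4) 1 * Equiv.swap 0 1 = 1 ∧ z0 * z0 = 1 ∧
    z0 ≠ 1 ∧ z0 ≠ Equiv.swap 0 1 ∧ Equiv.swap (0 : Fin 4) 1 ≠ 1 := by decide +kernel

/-- The model of the situation in a group isomorphic to `S₄`. -/
theorem exists_data {Y : Type u} [Group Y] [Finite Y] (e : Y ≃* P4) (T : Subgroup Y) (hT : IsPGroup 2 T)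
    (hidx : ¬ 2 ∣ T.index) :
    ∃ a z g : Y, a ∈ T ∧ z ∈ T ∧ a * a = 1 ∧ z * z = 1 ∧ a * z = z * a ∧ z ≠ 1 ∧ z ≠ a ∧ a ≠ 1 ∧
      (∀ t ∈ T, t * z = z * t) ∧ g * a * g⁻¹ ∉ T ∧ g * z * g⁻¹ ∈ T ∧
      g * z * g⁻¹ * a ≠ a * (g * z * g⁻¹) ∧ Nat.card T = 8 ∧ Nat.card Y = 24 := by
  haveI : Fact (Nat.Prime 2) := ⟨Nat.prime_two⟩
  set T0 := Subgroup.centralizer ({z0} : Set P4) with hT0
  have hY : Nat.card Y = 24 := by
    rw [Nat.card_congr e.toEquiv, Nat.card_eq_fintype_card, Fintype.card_perm, Fintype.card_fin]; rfl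
  have h0p : IsPGroup 2 T0 := IsPGroup.of_card (n := 3) (by rw [hT0, card_centralizer]; norm_num)
  obtain ⟨P0, hP0⟩ : ∃ P : Sylow 2 P4, (P : Subgroup P4) = T0 := by
    obtain ⟨P, hP⟩ := h0p.exists_le_sylow
    refine ⟨P, (Subgroup.eq_of_le_of_card_ge hP ?_).symm⟩
    rw [card_centralizer, P.card_eq_multiplicity, Nat.card_eq_fintype_card, Fintype.card_perm, Fintype.card_fin]
    rw [show Nat.factorial 4 = 2 ^ 3 * 3 from rfl, Nat.factorization_mul (by norm_num) (by norm_num),
      Nat.factorization_pow, Finsupp.add_apply, Finsupp.smul_apply, Nat.prime_two.factorization_self,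
      Nat.factorization_eq_zero_of_not_dvd (by norm_num : ¬ 2 ∣ 3)]
    norm_num
  let TS : Sylow 2 Y := hT.toSylow hidx
  set P1 : Sylow 2 P4 := TS.mapSurjective (f := e.toMonoidHom) e.surjective
  obtain ⟨k, hk⟩ := MulAction.exists_smul_eq P4 P1 P0
  let ε : Y ≃* P4 := e.trans (MulAut.conj k)
  have hεT : ∀ y : Y, y ∈ T ↔ ε y * z0 = z0 * ε y := by
    intro y
    rw [← Subgroup.mem_centralizer_singleton_iff, ← hT0, ← hP0, ← hk]
    constructor
    · intro hy
      exact ⟨e y, ⟨y, hy, rfl⟩, rfl⟩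
    · rintro ⟨_, ⟨y', hy', rfl⟩, he⟩
      rwa [← ε.injective (show ε y' = ε y from he)]
  obtain ⟨w1, w2, w3, w4⟩ := witnesses
  obtain ⟨s1, s2, s3, s4, s5⟩ := sq_witnesses
  refine ⟨ε.symm (Equiv.swap 0 1), ε.symm z0, ε.symm (Equiv.swap 1 2), ?_, ?_, ?_, ?_, ?_, ?_, ?_, ?_, ?_, ?_, ?_, ?_,
    ?_, hY⟩
  · rw [hεT, ε.apply_symm_apply]; exact w1
  · rw [hεT, ε.apply_symm_apply]
  · rw [← map_mul, s1, map_one]
  · rw [← map_mul, s2, map_one]
  · rw [← map_mul, ← map_mul, w1]
  · exact fun h => s3 (ε.symm.injective (h.trans (map_one _).symm))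
  · exact fun h => s4 (ε.symm.injective h)
  · exact fun h => s5 (ε.symm.injective (h.trans (map_one _).symm))
  · intro t ht
    apply ε.injective
    rw [map_mul, map_mul, ε.apply_symm_apply]
    exact (hεT t).1 ht
  · rw [hεT]
    simpa using w2
  · rw [hεT]
    simpa using w3
  · intro h
    refine w4 ?_
    have := congrArg ε h
    simpa using this
  · have hmap : (T.map ε.toMonoidHom) = T0 := by
      ext x
      rw [hT0, Subgroup.mem_centralizer_singleton_iff]
      constructor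
      · rintro ⟨y, hy, rfl⟩; exact (hεT y).1 hy
      · intro hx
        exact ⟨ε.symm x, (hεT _).2 (by rwa [ε.apply_symm_apply]), ε.apply_symm_apply x⟩
    rw [← card_centralizer, ← hT0, ← hmap, Subgroup.card_map_of_injective (f := ε.toMonoidHom) ε.injective]

end Four

/-- In a group isomorphic to `S₄` the two functors do not control strong fusion. -/
theorem not_controls_four {Y : Type u} [Group Y] [Finite Y] (e : Y ≃* Equiv.Perm (Fin 4)) :
    ¬ FamilyControlsStrongFusionIn 2 ({fun P : Subgroup Y => P ⊓ Subgroup.centralizer (P : Set Y),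
      fun P : Subgroup Y => thompsonSubgroupOf 2 P} : Set (Subgroup Y → Subgroup Y)) ⊤ := by
  haveI : Fact (Nat.Prime 2) := ⟨Nat.prime_two⟩
  rintro ⟨T, -, hT, hidx, hctrl⟩
  rw [Subgroup.relIndex_top_right] at hidx
  obtain ⟨a, z, g, haT, hzT, ha2, hz2, haz, hz1, hza, ha1, hzc, hga, hgz, hgza, hT8, hY⟩ :=
    Four.exists_data e T hT hidx
  -- a subgroup over `T` is `T` or everything
  have hup : ∀ H : Subgroup Y, T ≤ H → H = T ∨ H = ⊤ := by
    intro H hH
    obtain ⟨m, hm⟩ := Subgroup.card_dvd_of_le hH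
    have h24 : 8 * m ∣ 8 * 3 := by
      rw [← hT8, ← hm, hT8]
      have h := Subgroup.card_subgroup_dvd_card H
      rw [hY] at h
      exact h
    rcases (Nat.dvd_prime Nat.prime_three).1 (Nat.dvd_of_mul_dvd_mul_left (by norm_num) h24) with rfl | rfl
    · exact Or.inl (Subgroup.eq_of_le_of_card_ge hH (by rw [hm, mul_one])).symm
    · exact Or.inr (Subgroup.eq_top_of_card_eq H (by rw [hm, hT8, hY]))
  -- the normalizers are `T`
  have hNT : ∀ W : Subgroup Y, T ≤ Subgroup.normalizer (W : Set Y) → (g ∉ Subgroup.normalizer (W : Set Y)) →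
      Subgroup.normalizer (W : Set Y) = T := fun W hW hg =>
    (hup _ hW).resolve_right fun h => hg (h ▸ Subgroup.mem_top g)
  have hZ : Subgroup.normalizer ((T ⊓ Subgroup.centralizer (T : Set Y) : Subgroup Y) : Set Y) = T := by
    refine hNT _ (fun t ht => Subgroup.centralizer_le_normalizer _ fun x hx => (hx.2 t ht).symm) fun hg => hgza ?_
    have h1 := ((Subgroup.mem_normalizer_iff.1 hg z).1 ⟨hzT, fun t ht => hzc t ht⟩).2 a haT
    exact h1.symm
  have haJ : a ∈ thompsonSubgroupOf 2 T := by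
    set A : Subgroup Y :=
      { carrier := {1, a, z, a * z}
        one_mem' := by simp
        mul_mem' := by
          have h1 : z * a = a * z := haz.symm
          have h2 : a * (a * z) = z := by rw [← mul_assoc, ha2, one_mul]
          have h3 : z * (a * z) = a := by rw [haz, ← mul_assoc, hz2, one_mul]
          have h4 : a * z * a = z := by rw [mul_assoc, h1, h2]
          have h5 : a * z * z = a := by rw [mul_assoc, hz2, mul_one]
          have h6 : a * z * (a * z) = 1 := by rw [mul_assoc, h3, ha2]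
          simp only [Set.mem_insert_iff, Set.mem_singleton_iff]
          rintro x y (rfl | rfl | rfl | rfl) (rfl | rfl | rfl | rfl) <;> simp [ha2, hz2, h1, h2, h3, h4, h5, h6]
        inv_mem' := by
          have h1 : (a * z)⁻¹ = a * z := by
            rw [mul_inv_rev, inv_eq_of_mul_eq_one_right ha2, inv_eq_of_mul_eq_one_right hz2, haz]
          simp only [Set.mem_insert_iff, Set.mem_singleton_iff]
          rintro x (rfl | rfl | rfl | rfl) <;>
            simp [inv_eq_of_mul_eq_one_right ha2, inv_eq_of_mul_eq_one_right hz2, h1] }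
    have hAT : A ≤ T := by
      rintro x (rfl | rfl | rfl | rfl)
      exacts [T.one_mem, haT, hzT, T.mul_mem haT hzT]
    have hAc : ∀ x ∈ A, ∀ y ∈ A, x * y = y * x := by
      rintro x (rfl | rfl | rfl | rfl) y (rfl | rfl | rfl | rfl) <;>
        simp [← mul_assoc, ha2, hz2, haz] <;> simp [mul_assoc, ← haz, ha2, hz2]
    have hA2 : ∀ x ∈ A, x ^ 2 = 1 := by
      rintro x (rfl | rfl | rfl | rfl)
      · simp
      · rw [sq, ha2]
      · rw [sq, hz2]
      · rw [sq, mul_assoc, ← mul_assoc z, ← haz, mul_assoc, hz2, mul_one, ha2]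
    have hel : IsElementaryAbelian 2 A := ⟨⟨⟨fun x y => Subtype.ext (hAc x x.2 y y.2)⟩⟩, hA2⟩
    have hA4 : Nat.card A = 4 := by
      classical
      have : (A : Set Y) = ({1, a, z, a * z} : Finset Y) := by
        rw [Finset.coe_insert, Finset.coe_insert, Finset.coe_insert, Finset.coe_singleton]; rfl
      rw [← SetLike.coe_sort_coe, this, Nat.card_coe_set_eq, Set.ncard_coe_finset]
      have h1 : a * z ≠ 1 := fun h => hza (by
        rw [← mul_left_cancel (h.trans ha2.symm)])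
      have h2 : a * z ≠ a := fun h => hz1 (mul_eq_left.1 h)
      have h3 : a * z ≠ z := fun h => ha1 (mul_eq_right.1 h)
      simp [Finset.card_insert_of_notMem, ha1.symm, hz1.symm, h1.symm, hza.symm, h2.symm, h3.symm]
    refine ⟨⟨a, haT⟩, le_sSup (show A.subgroupOf T ∈ maxElementaryAbelianSubgroups 2 T from ⟨⟨⟨⟨fun x y =>
      Subtype.ext (Subtype.ext (hAc _ x.2 _ y.2))⟩⟩, fun x hx => Subtype.ext (hA2 _ hx)⟩, ?_⟩)
      (show (⟨a, haT⟩ : T) ∈ A.subgroupOf T from Or.inr (Or.inl rfl)), rfl⟩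
    intro B hB
    rw [Nat.card_congr (Subgroup.subgroupOfEquivOfLe hAT).toEquiv, hA4]
    have hdvd : Nat.card B ∣ 2 ^ 3 := by
      have := Subgroup.card_subgroup_dvd_card B
      rwa [hT8] at this
    obtain ⟨j, hj, hBj⟩ := (Nat.dvd_prime_pow Nat.prime_two).1 hdvd
    rcases Nat.lt_or_ge j 3 with hj3 | hj3
    · rw [hBj]; exact (Nat.pow_le_pow_right (by norm_num) (by omega : j ≤ 2)).trans_eq (by norm_num)
    · have hBtop : B = ⊤ := Subgroup.eq_top_of_card_eq B (by rw [hBj, hT8, show j = 3 by omega]; norm_num)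
      haveI := hB.1
      exact absurd (congrArg Subtype.val (Subgroup.mul_comm_of_mem_isMulCommutative B
        (hBtop ▸ Subgroup.mem_top (⟨_, hgz⟩ : T)) (hBtop ▸ Subgroup.mem_top (⟨a, haT⟩ : T)))) hgza
  have hJ : Subgroup.normalizer (thompsonSubgroupOf 2 T : Set Y) = T := by
    refine hNT _ (fun t ht => ?_) fun hg => hga ?_
    · refine Local.mem_normalizer_of_map_conj_eq ?_
      rw [← JComp.thompsonOf_map _ (MulAut.conj t).injective,
        Local.map_conj_eq_of_mem_normalizer (Subgroup.le_normalizer ht)]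
    · exact Subgroup.map_subtype_le _ ((Subgroup.mem_normalizer_iff.1 hg a).1 haJ)
  obtain ⟨n, c, hc0, hstep, -, hlast⟩ := hctrl {z} g (Subgroup.mem_top g)
    (by rintro x rfl; exact hzT) (by rintro _ ⟨x, rfl, rfl⟩; exact hgz)
  have hcT : ∀ i : Fin (n + 1), c i ∈ T := by
    intro i
    induction i using Fin.induction with
    | zero => rw [hc0]; exact T.one_mem
    | succ i ih =>
      obtain ⟨W, hW, -, hn⟩ := hstep i
      have : c i.succ * (c i.castSucc)⁻¹ ∈ T := by
        rcases hW with rfl | rfl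
        · exact hZ.le hn
        · exact hJ.le hn
      simpa using T.mul_mem this ih
  have h1 := hlast z rfl
  have h2 := hzc _ (hcT (Fin.last n))
  rw [h2, mul_inv_cancel_right] at h1
  exact hgza (by rw [← h1]; exact haz.symm)

end CfsgLib.S3Free
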