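import Cfsg.Agent.Lib.S3Free.Gen
import Cfsg.Agent.Lib.S4InvolvedLocal
import Cfsg.Agent.Lib.PLocal.Timmesfeld
import Cfsg.Agent.Lib.PLocal.ThompsonFactor

/-!
In a finite `S₄`-free group `G` with an elementary abelian normal 2-subgroup `V`, `G` is generated by the
centralizer of `C_V(S)` and the normalizer of `J(S)`.
-/

set_option autoImplicit false
set_option linter.unusedSectionVars false

namespace CfsgLib.S3Free

open CfsgLib CfsgLib.Local CfsgLib.OffenderTwo Cfsg
open scoped commutatorElement IsMulCommutative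

universe u

variable {G : Type u} [Group G] [Finite G]

/-- `G / C_G(V)` is `S₃`-free when `G` is `S₄`-free. -/
theorem not_involves_quotient (hfree : ¬ Involves (Equiv.Perm (Fin 4)) G) (V : Subgroup G) [hVn : V.Normal]
    (hV : IsPGroup 2 V) : ¬ Involves P3 (G ⧸ Subgroup.centralizer (V : Set G)) := by
  intro hi
  refine hfree (S4InvolvedLocal.backward V hV ?_)
  set N := Subgroup.normalizer (V : Set G)
  set C := Subgroup.centralizer (V : Set G)
  let f : N ⧸ C.subgroupOf N →* G ⧸ C :=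
    QuotientGroup.lift (C.subgroupOf N) ((QuotientGroup.mk' C).comp N.subtype)
      (fun x hx => (QuotientGroup.eq_one_iff (x : G)).2 hx)
  refine involves_of_hom f ?_ hi
  intro y
  obtain ⟨g, rfl⟩ := QuotientGroup.mk'_surjective C y
  exact ⟨QuotientGroup.mk ⟨g, Subgroup.normalizer_eq_top (H := V) ▸ Subgroup.mem_top g⟩, rfl⟩

/-- The elementary abelian subgroups of largest order. -/
abbrev maxEl (G : Type u) [Group G] : Set (Subgroup G) := maxElementaryAbelianSubgroups 2 G

theorem maxEl_conj (g : G) {A : Subgroup G} (hA : A ∈ maxEl G) :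
    A.map (MulAut.conj g).toMonoidHom ∈ maxEl G :=
  ⟨PLocal.isElementary_map (p := 2) _ hA.1, fun B hB => by
    rw [Subgroup.card_map_of_injective (MulAut.conj g).injective]; exact hA.2 B hB⟩

theorem thompson_eq_offJoin (S : Sylow 2 G) :
    thompsonSubgroupOf 2 (S : Subgroup G) = offJoin (maxEl G) (S : Subgroup G) := by
  haveI : Fact (Nat.Prime 2) := ⟨Nat.prime_two⟩
  refine le_antisymm ?_ (sSup_le fun A hA => PLocal.le_thompsonSubgroupOf hA.2 hA.1)
  rw [thompsonSubgroupOf, Subgroup.map_le_iff_le_comap]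
  exact sSup_le fun A hA => Subgroup.map_le_iff_le_comap.1
    (le_offJoin (PLocal.map_mem_max hA) (Subgroup.map_subtype_le _))

theorem isElementary_sup {B W : Subgroup G} (hB : IsElementaryAbelian 2 B) (hW : IsElementaryAbelian 2 W)
    (hc : W ≤ Subgroup.centralizer (B : Set G)) : IsElementaryAbelian 2 (B ⊔ W) := by
  haveI := hB.1
  haveI := hW.1
  have hBW : B ⊔ W ≤ Subgroup.centralizer ((B ⊔ W : Subgroup G) : Set G) := by
    have h1 : B ⊔ W ≤ Subgroup.centralizer (B : Set G) :=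
      sup_le (fun b hb c hc' => Subgroup.mul_comm_of_mem_isMulCommutative B hc' hb) hc
    have h2 : B ⊔ W ≤ Subgroup.centralizer (W : Set G) :=
      sup_le (fun b hb w hw => ((hc hw) b hb).symm) (fun w hw c hc' => Subgroup.mul_comm_of_mem_isMulCommutative W hc' hw)
    rw [Products.centralizer_sup]
    exact le_inf h1 h2
  refine ⟨⟨⟨fun a b => Subtype.ext (hBW b.2 _ a.2)⟩⟩, ?_⟩
  intro x hx
  have hle : B ⊔ W ≤ Subgroup.normalizer (B : Set G) :=
    sup_le Subgroup.le_normalizer (hc.trans (Subgroup.centralizer_le_normalizer _))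
  rw [← SetLike.mem_coe, sup_comm, Subgroup.coe_mul_of_left_le_normalizer_right _ _
    (le_sup_right.trans hle)] at hx
  obtain ⟨w, hw, b, hb, rfl⟩ := hx
  have hcomm : Commute w b := ((hc hw) b hb).symm
  rw [hcomm.mul_pow, hW.2 w hw, hB.2 b hb, one_mul]

variable {V : Subgroup G} [hVn : V.Normal]

theorem fix_card [IsMulCommutative V] (B : Subgroup G) :
    Nat.card (fix (X := G) (V := V) MulAut.conjNormal B) = Nat.card ↥(V ⊓ Subgroup.centralizer (B : Set G)) := by
  rw [← Subgroup.card_map_of_injective V.subtype_injective]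
  congr 2
  ext x
  constructor
  · rintro ⟨⟨v, hv⟩, hfix, rfl⟩
    refine ⟨hv, fun b hb => ?_⟩
    have := congrArg Subtype.val (hfix b hb)
    rw [MulAut.conjNormal_apply] at this
    exact mul_inv_eq_iff_eq_mul.1 this
  · rintro ⟨hv, hc⟩
    refine ⟨⟨x, hv⟩, fun b hb => Subtype.ext ?_, rfl⟩
    rw [MulAut.conjNormal_apply]
    exact mul_inv_eq_iff_eq_mul.2 (hc b hb)

theorem bound (hV : IsElementaryAbelian 2 V) {A : Subgroup G} (hA : A ∈ maxEl G) {W : Subgroup G}
    (hWV : W ≤ V) {B : Subgroup G} (hBA : B ≤ A) :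
    Nat.card B * Nat.card ↥(W ⊓ Subgroup.centralizer (B : Set G)) ≤
      Nat.card A * Nat.card ↥(W ⊓ Subgroup.centralizer (A : Set G)) := by
  haveI := hA.1.1
  haveI := hV.1
  set C := W ⊓ Subgroup.centralizer (B : Set G)
  have hB : IsElementaryAbelian 2 B :=
    ⟨⟨⟨fun a b => Subtype.ext (Subgroup.mul_comm_of_mem_isMulCommutative A (hBA a.2) (hBA b.2))⟩⟩,
      fun b hb => hA.1.2 b (hBA hb)⟩
  have hCel : IsElementaryAbelian 2 C :=
    ⟨⟨⟨fun a b => Subtype.ext (Subgroup.mul_comm_of_mem_isMulCommutative V (hWV a.2.1) (hWV b.2.1))⟩⟩,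
      fun c hc => hV.2 c (hWV hc.1)⟩
  have h1 := hA.2 _ (isElementary_sup hB hCel inf_le_right)
  have h2 := Products.card_mul_card_le B C
  have h3 : B ⊓ C ≤ W ⊓ Subgroup.centralizer (A : Set G) := fun x hx =>
    ⟨hx.2.1, fun a ha => Subgroup.mul_comm_of_mem_isMulCommutative A ha (hBA hx.1)⟩
  exact h2.trans (Nat.mul_le_mul h1 (Subgroup.card_le_of_le h3))

/-- The images of the largest elementary abelian subgroups form a family of offenders on `V`. -/
theorem fam_image (hV : IsElementaryAbelian 2 V) [C_normal : (Subgroup.centralizer (V : Set G)).Normal]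
    [IsMulCommutative V] (φ : G ⧸ Subgroup.centralizer (V : Set G) →* MulAut V)
    (hval : ∀ g (v : V), ((φ (QuotientGroup.mk' _ g) v : V) : G) = g * v * g⁻¹) :
    Fam φ ((fun A => A.map (QuotientGroup.mk' (Subgroup.centralizer (V : Set G)))) '' maxEl G) := by
  haveI : Fact (Nat.Prime 2) := ⟨Nat.prime_two⟩
  set C := Subgroup.centralizer (V : Set G)
  set π := QuotientGroup.mk' C
  have hπ : Function.Surjective π := QuotientGroup.mk'_surjective C
  let ρ : G →* MulAut V := MulAut.conjNormal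
  have hfix : ∀ B : Subgroup G, fix φ (B.map π) = fix ρ B := fun B => by
    rw [fix_map φ π B]
    refine congrArg (fun f => fix f B) (MonoidHom.ext fun g => MulEquiv.ext fun v => Subtype.ext ?_)
    exact (hval g v).trans (MulAut.conjNormal_apply g v).symm
  refine ⟨?_, ?_, ?_, ?_⟩
  · rintro q _ ⟨A, hA, rfl⟩
    obtain ⟨x, rfl⟩ := hπ q
    refine ⟨_, maxEl_conj x hA, ?_⟩
    ext z
    constructor
    · rintro ⟨_, ⟨a, ha, rfl⟩, rfl⟩
      exact ⟨π a, ⟨a, ha, rfl⟩, by simp⟩
    · rintro ⟨_, ⟨a, ha, rfl⟩, rfl⟩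
      exact ⟨_, ⟨a, ha, rfl⟩, by simp⟩
  · rintro _ ⟨A, hA, rfl⟩ _ ⟨a, ha, rfl⟩
    rw [← map_mul, ← pow_two a, hA.1.2 a ha, map_one]
  · rintro _ ⟨A, hA, rfl⟩ B' hB'
    set B := A ⊓ B'.comap π
    have hBmap : B.map π = B' := by
      refine le_antisymm ?_ fun y hy => ?_
      · rw [Subgroup.map_le_iff_le_comap]; exact inf_le_right
      · obtain ⟨a, ha, rfl⟩ := hB' hy
        exact ⟨a, ⟨ha, hy⟩, rfl⟩
    have hker : B ⊓ π.ker = A ⊓ π.ker := by
      refine le_antisymm (inf_le_inf_right _ inf_le_left) fun a ha => ⟨⟨ha.1, ?_⟩, ha.2⟩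
      show π a ∈ B'
      rw [MonoidHom.mem_ker.1 ha.2]
      exact B'.one_mem
    have eA := card_map_mul_inf π A
    have eB := card_map_mul_inf π B
    rw [hker, hBmap] at eB
    have hb := bound hV hA (le_refl V) (show B ≤ A from inf_le_left)
    rw [← fix_card, ← fix_card, ← hfix, ← hfix, hBmap, ← eA, ← eB] at hb
    refine Nat.le_of_mul_le_mul_right ?_ (Nat.card_pos (α := ↥(A ⊓ π.ker)))
    linarith [hb]
  · rintro _ ⟨A, hA, rfl⟩ W hinv hmove
    set W' := W.map V.subtype with hW'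
    have hWV : W' ≤ V := Subgroup.map_subtype_le W
    have hWn : A ≤ Subgroup.normalizer (W' : Set G) := fun a ha => by
      refine mem_normalizer_of_map_conj_eq (Subgroup.eq_of_le_of_card_ge (map_conj_le ?_)
        (Subgroup.card_map_of_injective (MulAut.conj a).injective).ge)
      rintro _ ⟨w, hw, rfl⟩
      exact ⟨φ (π a) w, hinv (π a) ⟨a, ha, rfl⟩ w hw, hval a w⟩
    have hab : ⁅A, A⁆ ≤ Subgroup.centralizer (W' : Set G) := Subgroup.commutator_le.2 fun a ha b hb => by
      haveI := hA.1.1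
      rw [commutatorElement_eq_one_iff_mul_comm.2 (Subgroup.mul_comm_of_mem_isMulCommutative A ha hb)]
      exact Subgroup.one_mem _
    have hWc : ∀ v ∈ W', ∀ w ∈ W', v * w = w * v := fun v hv w hw =>
      Subgroup.mul_comm_of_mem_isMulCommutative V (hWV hv) (hWV hw)
    obtain ⟨hT1, hT2⟩ := PLocal.timmesfeld hWc hWn hab (fun B hB => bound hV hA hWV hB) (le_refl W')
    set B := A ⊓ Subgroup.centralizer ((⁅W', A⁆ : Subgroup G) : Set G) with hBdef
    set CB := W' ⊓ Subgroup.centralizer (B : Set G)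
    have hBel : IsElementaryAbelian 2 B := by
      haveI := hA.1.1
      exact ⟨⟨⟨fun a b => Subtype.ext (Subgroup.mul_comm_of_mem_isMulCommutative A a.2.1 b.2.1)⟩⟩,
        fun b hb => hA.1.2 b hb.1⟩
    have hCel : IsElementaryAbelian 2 CB :=
      ⟨⟨⟨fun a b => Subtype.ext (hWc a a.2.1 b b.2.1)⟩⟩, fun c hc => hV.2 c (hWV hc.1)⟩
    have hmem : B ⊔ CB ∈ maxEl G := by
      refine ⟨isElementary_sup hBel hCel inf_le_right, fun D hD => (hA.2 D hD).trans ?_⟩
      have h1 : Nat.card B * Nat.card CB ≤ Nat.card ↥(B ⊔ CB) * Nat.card ↥(B ⊓ CB) :=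
        Products.card_mul_card_le B CB
      have h3 : Nat.card ↥(B ⊓ CB) ≤ Nat.card ↥(W' ⊓ Subgroup.centralizer (A : Set G)) := by
        haveI := hA.1.1
        exact Subgroup.card_le_of_le fun x hx =>
          ⟨hx.2.1, fun a ha => Subgroup.mul_comm_of_mem_isMulCommutative A ha hx.1.1⟩
      have h4 : Nat.card B * Nat.card CB = Nat.card A * Nat.card ↥(W' ⊓ Subgroup.centralizer (A : Set G)) := hT2
      rw [h4] at h1
      exact Nat.le_of_mul_le_mul_right (h1.trans (Nat.mul_le_mul_left _ h3)) Nat.card_pos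
    have hmap : (B ⊔ CB).map π = B.map π := by
      rw [Subgroup.map_sup, sup_eq_left]
      rintro _ ⟨c, hc, rfl⟩
      have h0 : π c = 1 := (QuotientGroup.eq_one_iff c).2 fun v hv =>
        Subgroup.mul_comm_of_mem_isMulCommutative V hv (hWV hc.1)
      rw [h0]; exact Subgroup.one_mem _
    refine ⟨B.map π, ⟨B ⊔ CB, hmem, hmap⟩, Subgroup.map_mono inf_le_left, fun hle => ?_, ?_⟩
    · refine hmove ?_
      have hCW : W' ≤ Subgroup.centralizer (B : Set G) := by
        rintro _ ⟨w, hw, rfl⟩ b hb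
        have := congrArg Subtype.val (hle ⟨b, hb, rfl⟩ w hw)
        rw [hval] at this
        exact mul_inv_eq_iff_eq_mul.1 this
      have hbot : ⁅W', A⁆ = ⊥ := by
        refine PLocal.commutator_eq_bot_of_sup (p := 2)
          (fun v => ⟨1, Subtype.ext (by simpa using hV.2 v (hWV v.2))⟩) hWc hWn
          (fun a ha => ⟨1, by rw [pow_one, hA.1.2 a ha]; exact Subgroup.one_mem _⟩) ?_
        rw [← hT1]
        exact le_inf le_rfl hCW
      rintro _ ⟨a, ha, rfl⟩ w hw
      refine Subtype.ext ?_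
      rw [hval, mul_inv_eq_iff_eq_mul]
      have h1 : ⁅(w : G), a⁆ = 1 := by
        rw [← Subgroup.mem_bot, ← hbot]
        exact Subgroup.commutator_mem_commutator ⟨w, hw, rfl⟩ ha
      exact (commutatorElement_eq_one_iff_mul_comm.1 h1).symm
    · rintro _ ⟨b, hb, rfl⟩ _ ⟨c, hc, rfl⟩ w hw
      refine Subtype.ext ?_
      rw [hval, Subgroup.coe_div, hval]
      have h1 : ⁅(w : G), c⁆ ∈ ⁅W', A⁆ := Subgroup.commutator_mem_commutator ⟨w, hw, rfl⟩ hc.1
      have h2 := hb.2 _ (Subgroup.inv_mem _ h1)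
      have h3 : c * (w : G) * c⁻¹ / (w : G) = (⁅(w : G), c⁆)⁻¹ := by
        rw [commutatorElement_def, div_eq_mul_inv]; group
      rw [h3, ← h2, mul_inv_cancel_right]

/-- The join of the images in the image of a Sylow subgroup. -/
theorem offJoin_image (C : Subgroup G) [C.Normal] (S : Sylow 2 G) :
    offJoin ((fun A => A.map (QuotientGroup.mk' C)) '' maxEl G) ((S : Subgroup G).map (QuotientGroup.mk' C)) =
      (thompsonSubgroupOf 2 (S : Subgroup G)).map (QuotientGroup.mk' C) := by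
  haveI : Fact (Nat.Prime 2) := ⟨Nat.prime_two⟩
  set π := QuotientGroup.mk' C
  set 𝒪 := (fun A : Subgroup G => A.map π) '' maxEl G
  set J := thompsonSubgroupOf 2 (S : Subgroup G)
  have hJdef : J = offJoin (maxEl G) (S : Subgroup G) := thompson_eq_offJoin S
  have hnorm : Subgroup.normalizer ((S : Subgroup G) : Set G) ≤ Subgroup.normalizer (J : Set G) := by
    intro g hg
    refine mem_normalizer_of_map_conj_eq (Subgroup.eq_of_le_of_card_ge ?_
      (Subgroup.card_map_of_injective (MulAut.conj g).injective).ge)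
    rw [hJdef]
    refine (map_offJoin_le _ (𝒪' := maxEl G) (fun A hA => maxEl_conj g hA) _).trans ?_
    rw [map_conj_eq_of_mem_normalizer hg]
  rw [hJdef]
  refine le_antisymm ?_ (map_offJoin_le π (𝒪 := maxEl G) (𝒪' := 𝒪) (fun A hA => ⟨A, hA, rfl⟩) _)
  refine sSup_le ?_
  rintro _ ⟨⟨A, hA, rfl⟩, hAT⟩
  have hAC : A ≤ C ⊔ (S : Subgroup G) := fun a ha => by
    obtain ⟨t, ht, he⟩ := hAT ⟨a, ha, rfl⟩
    have hk : a * t⁻¹ ∈ C := (QuotientGroup.eq_one_iff _).1 (by
      show π (a * t⁻¹) = 1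
      rw [map_mul, map_inv, ← he, mul_inv_cancel])
    simpa using (C ⊔ (S : Subgroup G)).mul_mem (Subgroup.mem_sup_left hk) (Subgroup.mem_sup_right ht)
  obtain ⟨c, hc, P, hP, -, hTP, hAP⟩ := exists_conj_isPGroup (p := 2) S.2
    (PLocal.isPGroup_elementary hA.1) le_sup_right hAC
  rw [S.3 hP hTP] at hAP
  obtain ⟨k, hk, t, ht, rfl⟩ := Subgroup.mem_sup_of_normal_left.1 hc
  have hA' : A.map (MulAut.conj (k * t)).toMonoidHom ≤ J := by
    rw [hJdef]; exact le_offJoin (maxEl_conj _ hA) hAP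
  rw [← hJdef]
  rintro _ ⟨a, ha, rfl⟩
  refine ⟨t⁻¹ * (k * t * a * (k * t)⁻¹) * t, ?_, ?_⟩
  · have hm : k * t * a * (k * t)⁻¹ ∈ J := hA' ⟨a, ha, rfl⟩
    have htN := (Subgroup.normalizer (J : Set G)).inv_mem (hnorm (Subgroup.le_normalizer ht))
    simpa using (Subgroup.mem_normalizer_iff.1 htN _).1 hm
  · have hk1 : π k = 1 := (QuotientGroup.eq_one_iff k).2 hk
    simp [map_mul, map_inv, hk1, mul_assoc]

/-- The normalizer of the join, lifted. -/
theorem comap_normalizer_le (C : Subgroup G) [C.Normal] (S : Sylow 2 G) :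
    (Subgroup.normalizer (((thompsonSubgroupOf 2 (S : Subgroup G)).map (QuotientGroup.mk' C) :
      Subgroup (G ⧸ C)) : Set (G ⧸ C))).comap (QuotientGroup.mk' C) ≤
      C ⊔ Subgroup.normalizer (thompsonSubgroupOf 2 (S : Subgroup G) : Set G) := by
  haveI : Fact (Nat.Prime 2) := ⟨Nat.prime_two⟩
  set π := QuotientGroup.mk' C
  set J := thompsonSubgroupOf 2 (S : Subgroup G)
  have hJdef : J = offJoin (maxEl G) (S : Subgroup G) := thompson_eq_offJoin S
  have hjoinconj : ∀ g : G, J.map (MulAut.conj g).toMonoidHom ≤ (S : Subgroup G) →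
      g ∈ Subgroup.normalizer (J : Set G) := by
    intro g hg
    refine mem_normalizer_of_map_conj_eq (Subgroup.eq_of_le_of_card_ge ?_
      (Subgroup.card_map_of_injective (MulAut.conj g).injective).ge)
    rw [hJdef] at hg ⊢
    conv_lhs => rw [← offJoin_idem (maxEl G) (S : Subgroup G)]
    exact (map_offJoin_le _ (𝒪' := maxEl G) (fun A hA => maxEl_conj g hA) _).trans (offJoin_mono _ hg)
  intro x hx
  have hL : ∀ y ∈ C ⊔ J, x * y * x⁻¹ ∈ C ⊔ J := by
    intro y hy
    rw [← show (J.map π).comap π = C ⊔ J by rw [Subgroup.comap_map_eq, QuotientGroup.ker_mk', sup_comm]] at hy ⊢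
    show π (x * y * x⁻¹) ∈ J.map π
    rw [map_mul, map_mul, map_inv]
    exact (Subgroup.mem_normalizer_iff.1 hx _).1 hy
  have hJ2 : IsPGroup 2 J := S.2.to_le (hJdef ▸ offJoin_le _ _)
  obtain ⟨c, hc, P, hP, -, hJP, hxP⟩ := exists_conj_isPGroup (p := 2) hJ2
    (hJ2.map (MulAut.conj x).toMonoidHom) (le_sup_right : J ≤ C ⊔ J)
    (map_conj_le fun y hy => hL y (Subgroup.mem_sup_right hy))
  obtain ⟨S₁, hS₁⟩ := hP.exists_le_sylow
  obtain ⟨g, hg⟩ := MulAction.exists_smul_eq G S₁ S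
  have hmove : ∀ y, y ∈ (S₁ : Subgroup G) → g * y * g⁻¹ ∈ (S : Subgroup G) := by
    intro y hy; rw [← hg]; exact ⟨y, hy, rfl⟩
  have hgN : g ∈ Subgroup.normalizer (J : Set G) := hjoinconj g
    (map_conj_le fun y hy => hmove y (hS₁ (hJP hy)))
  have hgcx : g * (c * x) ∈ Subgroup.normalizer (J : Set G) := hjoinconj _ (map_conj_le fun y hy => by
    have h1 := hmove _ (hS₁ (hxP ⟨_, ⟨y, hy, rfl⟩, rfl⟩))
    simpa [mul_assoc] using h1)
  have hcx : c * x ∈ Subgroup.normalizer (J : Set G) := by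
    simpa using Subgroup.mul_mem _ (Subgroup.inv_mem _ hgN) hgcx
  have hcm : c ∈ C ⊔ Subgroup.normalizer (J : Set G) := sup_le_sup_left Subgroup.le_normalizer C hc
  simpa using Subgroup.mul_mem _ (Subgroup.inv_mem _ hcm) (Subgroup.mem_sup_right hcx)

/-- The generation theorem for groups. -/
theorem centralizer_sup_normalizer (hfree : ¬ Involves (Equiv.Perm (Fin 4)) G)
    (hV : IsElementaryAbelian 2 V) (S : Sylow 2 G) :
    Subgroup.centralizer ((V ⊓ Subgroup.centralizer ((S : Subgroup G) : Set G) : Subgroup G) : Set G) ⊔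
      Subgroup.normalizer (thompsonSubgroupOf 2 (S : Subgroup G) : Set G) = ⊤ := by
  haveI : Fact (Nat.Prime 2) := ⟨Nat.prime_two⟩
  haveI := hV.1
  set C := Subgroup.centralizer (V : Set G)
  haveI : C.Normal := Subgroup.normal_centralizer
  let ρ : G →* MulAut V := MulAut.conjNormal
  have hρC : C ≤ ρ.ker := fun c hc => MulEquiv.ext fun v => Subtype.ext (by
    show ((MulAut.conjNormal c v : V) : G) = v
    rw [MulAut.conjNormal_apply, mul_inv_eq_iff_eq_mul]
    exact (hc v v.2).symm)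
  let π := QuotientGroup.mk' C
  have hπ : Function.Surjective π := QuotientGroup.mk'_surjective C
  let φ : G ⧸ C →* MulAut V := QuotientGroup.lift C ρ hρC
  have hval : ∀ g (v : V), ((φ (π g) v : V) : G) = g * v * g⁻¹ := fun g v => MulAut.conjNormal_apply g v
  have hfix : ∀ B : Subgroup G, fix φ (B.map π) = fix ρ B := fun B => fix_map φ π B
  set 𝒪 : Set (Subgroup (G ⧸ C)) := (fun A => A.map π) '' maxEl G
  have hF : Fam φ 𝒪 := fam_image hV φ hval
  set T' : Sylow 2 (G ⧸ C) := S.mapSurjective hπ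
  have hT' : (T' : Subgroup (G ⧸ C)) = (S : Subgroup G).map π := Sylow.coe_mapSurjective hπ S
  have hgen := stab_sup_normalizer (φ := φ) (𝒪 := 𝒪)
    (fun v => Subtype.ext (by rw [Subgroup.coe_mul, ← pow_two]; exact hV.2 v v.2))
    (not_involves_quotient hfree V (fun v => ⟨1, Subtype.ext (by simpa using hV.2 v v.2)⟩)) hF T'
  set J := thompsonSubgroupOf 2 (S : Subgroup G)
  have hJ : offJoin 𝒪 (T' : Subgroup (G ⧸ C)) = J.map π := by rw [hT']; exact offJoin_image C S
  set Z := V ⊓ Subgroup.centralizer ((S : Subgroup G) : Set G)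
  have hCZ : C ≤ Subgroup.centralizer (Z : Set G) := Subgroup.centralizer_le fun x hx => hx.1
  refine top_le_iff.1 ?_
  rw [← Subgroup.comap_top π, ← hgen, ← Subgroup.comap_sup_eq π _ _ hπ]
  refine sup_le ((?_ : _ ≤ Subgroup.centralizer (Z : Set G)).trans le_sup_left) ?_
  · intro x hx z hz
    have h1 : (⟨z, hz.1⟩ : V) ∈ fix φ (T' : Subgroup (G ⧸ C)) := by
      rw [hT', hfix]
      intro s hs
      refine Subtype.ext ?_
      show ((MulAut.conjNormal s ⟨z, hz.1⟩ : V) : G) = z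
      rw [MulAut.conjNormal_apply, mul_inv_eq_iff_eq_mul]
      exact hz.2 s hs
    have := congrArg Subtype.val (hx _ h1)
    rw [hval] at this
    exact (mul_inv_eq_iff_eq_mul.1 this).symm
  · rw [hJ]
    exact (comap_normalizer_le C S).trans (sup_le_sup_right hCZ _)

end CfsgLib.S3Free
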