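import Cfsg.Agent.Lib.OffenderTwo
import Cfsg.Agent.Lib.SylowExtra
import Cfsg.Agent.Lib.S3Free.Detect

/-!
A quadratic offender with a unique maximal overgroup forces a section `S₃`.

`X` acts faithfully on an elementary abelian 2-group `V`, `pCore 2 X = ⊥`, every proper overgroup of the
quadratic offender `A` lies in the proper subgroup `M`. The fixed spaces of the conjugates of `A` form a
partition of the vectors outside the fixed space of `X`, `A` permutes the other points regularly, and two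
involutions give an element of order three inverted by an involution.
-/

set_option autoImplicit false
set_option linter.unusedSectionVars false

namespace CfsgLib.S3Free

open CfsgLib CfsgLib.Local CfsgLib.OffenderTwo Cfsg

universe u v

variable {X : Type u} [Group X] {V : Type v} [CommGroup V]

/-- The product formula in an abelian group. -/
theorem card_sup_inf {W : Type v} [CommGroup W] [Finite W] (H K : Subgroup W) :
    Nat.card ↥(H ⊔ K) * Nat.card ↥(H ⊓ K) = Nat.card H * Nat.card K := by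
  have h1 := Products.card_mul_relIndex_of_le (le_sup_right : K ≤ H ⊔ K)
  rw [Subgroup.relIndex_sup_right] at h1
  have h2 := Products.card_inf_mul_relIndex K H
  rw [inf_comm] at h2
  rw [← h1, ← h2]
  ring

/-- The hypotheses on a quadratic offender with a single maximal overgroup. -/
structure Pair (φ : X →* MulAut V) (M A : Subgroup X) : Prop where
  inj : Function.Injective φ
  two : ∀ v : V, v * v = 1
  cinf : ∀ a ∈ A, a ∈ M.normalCore → a = 1
  triv : ∀ a ∈ A, (∀ v : V, φ a v / v ∈ fix φ (⊤ : Subgroup X)) → a = 1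
  sq : ∀ a ∈ A, a * a = 1
  ne : A ≠ ⊥
  quad : ∀ a ∈ A, ∀ v : V, φ a v / v ∈ fix φ A
  big : Nat.card V ≤ Nat.card A * Nat.card (fix φ A)
  le : A ≤ M
  proper : M ≠ ⊤
  ovr : ∀ H : Subgroup X, H ≠ ⊤ → A ≤ H → H ≤ M

variable [Finite X] [Finite V] {φ : X →* MulAut V} {M A : Subgroup X} (h : Pair φ M A)

include h

theorem Pair.normalCore_inf {a : X} (ha : a ∈ A) (hK : a ∈ M.normalCore) : a = 1 := h.cinf a ha hK

omit h in
/-- The structure from `pCore 2 X = ⊥`. -/
theorem Pair.of_core (inj : Function.Injective φ) (two : ∀ v : V, v * v = 1) (core : pCore 2 X = ⊥)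
    (sq : ∀ a ∈ A, a * a = 1) (ne : A ≠ ⊥) (quad : ∀ a ∈ A, ∀ v : V, φ a v / v ∈ fix φ A)
    (big : Nat.card V ≤ Nat.card A * Nat.card (fix φ A)) (le : A ≤ M) (proper : M ≠ ⊤)
    (ovr : ∀ H : Subgroup X, H ≠ ⊤ → A ≤ H → H ≤ M) : Pair φ M A := by
  refine ⟨inj, two, ?_, ?_, sq, ne, quad, big, le, proper, ovr⟩
  · intro a ha hK
    by_contra ha1
    haveI : Fact (Nat.Prime 2) := ⟨Nat.prime_two⟩
    obtain ⟨T, hT⟩ := (isPGroup_of_sq sq).exists_le_sylow
    have hfr : Subgroup.normalizer ((((sylowInfNormal T M.normalCore : Sylow 2 M.normalCore) :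
        Subgroup M.normalCore).map M.normalCore.subtype : Subgroup X) : Set X) ⊔ M.normalCore = ⊤ :=
      Sylow.normalizer_sup_eq_top _
    rw [coe_sylowInfNormal, Subgroup.subgroupOf_map_subtype] at hfr
    have haD : a ∈ (T : Subgroup X) ⊓ M.normalCore := ⟨hT ha, hK⟩
    have hN : Subgroup.normalizer (((T : Subgroup X) ⊓ M.normalCore : Subgroup X) : Set X) ≠ ⊤ := by
      intro e
      haveI := Subgroup.normalizer_eq_top_iff.1 e
      have h1 : (T : Subgroup X) ⊓ M.normalCore ≤ pCore 2 X := le_pCore (isPGroup_of_le inf_le_left T.2)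
      rw [core] at h1
      exact ha1 (Subgroup.mem_bot.1 (h1 haD))
    have hAN : A ≤ Subgroup.normalizer (((T : Subgroup X) ⊓ M.normalCore : Subgroup X) : Set X) := by
      intro b hb
      refine mem_normalizer_of_map_conj_eq (Subgroup.eq_of_le_of_card_ge (map_conj_le ?_)
        (Subgroup.card_map_of_injective (MulAut.conj b).injective).ge)
      rintro x ⟨hxT, hxK⟩
      exact ⟨(T : Subgroup X).mul_mem ((T : Subgroup X).mul_mem (hT hb) hxT) ((T : Subgroup X).inv_mem (hT hb)),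
        M.normalCore_normal.conj_mem x hxK b⟩
    refine proper (top_le_iff.1 ?_)
    rw [← hfr]
    exact sup_le (ovr _ hN hAN) M.normalCore_le
  · intro a ha hv
    set C0 := fix φ (⊤ : Subgroup X)
    let N : Subgroup X :=
      { carrier := {x | ∀ v : V, φ x v / v ∈ C0}
        one_mem' := fun v => by simp
        mul_mem' := fun {x y} hx hy v => by
          have e : φ (x * y) v / v = φ x (φ y v) / φ y v * (φ y v / v) := by
            rw [map_mul, MulAut.mul_apply, div_mul_div_cancel]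
          rw [e]
          exact C0.mul_mem (hx _) (hy v)
        inv_mem' := fun {x} hx v => by
          have := C0.inv_mem (hx (φ x⁻¹ v))
          simpa [map_inv] using this }
    have hNn : N.Normal := ⟨fun x hx y v => by
      have e : φ (y * x * y⁻¹) v / v = φ y (φ x (φ y⁻¹ v) / φ y⁻¹ v) := by
        rw [map_div, map_mul, map_mul, MulAut.mul_apply, MulAut.mul_apply, map_inv, MulAut.apply_inv_self]
      rw [e, (hx (φ y⁻¹ v)) y (Subgroup.mem_top y)]
      exact hx _⟩
    have hN : N ≤ pCore 2 X := by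
      refine le_pCore (isPGroup_of_sq fun x hx => inj (MulEquiv.ext fun v => ?_))
      rw [map_one, MulAut.one_apply, map_mul, MulAut.mul_apply]
      have h2 := hx v x (Subgroup.mem_top x)
      rw [map_div, div_eq_iff_eq_mul] at h2
      rw [h2, div_mul_eq_mul_div, two, one_div]
      exact inv_eq_of_mul_eq_one_right (two v)
    exact Subgroup.mem_bot.1 (core ▸ hN (show a ∈ N from hv))

theorem Pair.normalizer_eq : Subgroup.normalizer (M : Set X) = M := by
  rcases eq_or_lt_of_le (Subgroup.le_normalizer (H := M)) with e | e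
  · exact e.symm
  · exfalso
    have htop : Subgroup.normalizer (M : Set X) = ⊤ := by
      by_contra hne
      exact e.not_ge (h.ovr _ hne (h.le.trans e.le))
    haveI := Subgroup.normalizer_eq_top_iff.1 htop
    refine h.ne ((Subgroup.eq_bot_iff_forall A).2 fun a ha => h.normalCore_inf ha ?_)
    rw [Subgroup.normalCore_eq_self]
    exact h.le ha

omit h in
/-- The conjugate `g A g⁻¹`. -/
abbrev cj (A : Subgroup X) (g : X) : Subgroup X := A.map (MulAut.conj g).toMonoidHom

theorem Pair.mem_of_cj_le {g : X} (hg : cj A g ≤ M) : g ∈ M := by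
  have hg' : g⁻¹ ∈ Subgroup.normalizer (M : Set X) := by
    refine mem_normalizer_of_map_conj_eq (Subgroup.eq_of_le_of_card_ge ?_
      (Subgroup.card_map_of_injective (MulAut.conj g⁻¹).injective).ge)
    refine h.ovr _ (fun e => h.proper ?_) fun a ha => mem_map_conj.2 ?_
    · refine top_le_iff.1 fun x _ => ?_
      have hx : g⁻¹ * x * g ∈ M.map (MulAut.conj g⁻¹).toMonoidHom := e ▸ Subgroup.mem_top _
      simpa [mul_assoc] using mem_map_conj.1 hx
    · simpa [mul_assoc] using hg ⟨a, ha, rfl⟩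
  rw [h.normalizer_eq] at hg'
  simpa using M.inv_mem hg'

theorem Pair.gen {g : X} (hg : g ∉ M) : A ⊔ cj A g = ⊤ := by
  by_contra hne
  exact hg (h.mem_of_cj_le (le_sup_right.trans (h.ovr _ hne le_sup_left)))

theorem Pair.meet {x y : X} (hxy : x⁻¹ * y ∉ M) {w : V} (hx : w ∈ fix φ (cj A x))
    (hy : w ∈ fix φ (cj A y)) : w ∈ fix φ (⊤ : Subgroup X) := by
  rw [fix_map_conj] at hx hy
  obtain ⟨v, hv, rfl⟩ := hx
  obtain ⟨v', hv', he⟩ := hy
  have he' : φ y v' = φ x v := he
  have hv2 : v ∈ fix φ (cj A (x⁻¹ * y)) := by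
    rw [fix_map_conj]
    refine ⟨v', hv', ?_⟩
    show φ (x⁻¹ * y) v' = v
    rw [map_mul, MulAut.mul_apply, he', map_inv, MulAut.inv_apply_self]
  have hle : A ⊔ cj A (x⁻¹ * y) ≤ (MulAction.stabilizer (MulAut V) v).comap φ :=
    sup_le (fun a ha => hv a ha) (fun a ha => hv2 a ha)
  rw [h.gen hxy] at hle
  intro b _
  have h1 : φ (b * x) v = v := hle (Subgroup.mem_top (b * x))
  have h2 : φ x v = v := hle (Subgroup.mem_top x)
  show φ b (φ x v) = φ x v
  rw [← MulAut.mul_apply, ← map_mul, h1, h2]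

theorem Pair.fix_top_le (x : X) : fix φ (⊤ : Subgroup X) ≤ fix φ (cj A x) := fix_anti le_top

omit h in
theorem fix_top_apply {w : V} (hw : w ∈ fix φ (⊤ : Subgroup X)) (x : X) : φ x w = w :=
  hw x (Subgroup.mem_top x)

omit h in
theorem mem_fix_top_of_apply {w : V} {x : X} (hw : φ x w ∈ fix φ (⊤ : Subgroup X)) :
    w ∈ fix φ (⊤ : Subgroup X) := by
  have e : w = φ x w := by
    have h1 := fix_top_apply hw x⁻¹
    rwa [map_inv, MulAut.inv_apply_self] at h1
  rw [e]; exact hw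

theorem Pair.card_fix_cj (x : X) : Nat.card (fix φ (cj A x)) = Nat.card (fix φ A) := by
  rw [cj, fix_map_conj, Subgroup.card_map_of_injective (φ x).injective]

theorem Pair.fix_inf {x : X} (hx : x ∉ M) {w : V} (h1 : w ∈ fix φ A) (h2 : w ∈ fix φ (cj A x)) :
    w ∈ fix φ (⊤ : Subgroup X) := by
  refine h.meet (x := 1) (y := x) (by simpa using hx) ?_ h2
  rw [show cj A 1 = A by ext y; simp [cj]]
  exact h1

theorem Pair.exists_outside {x : X} (hx : x ∉ M) : ∃ v ∈ fix φ (cj A x), v ∉ fix φ (⊤ : Subgroup X) := by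
  by_contra hne
  push Not at hne
  set C0 := fix φ (⊤ : Subgroup X)
  have hPC : fix φ A ≤ C0 := by
    refine (Subgroup.eq_of_le_of_card_ge (fix_anti le_top : C0 ≤ fix φ A) ?_).ge
    rw [← h.card_fix_cj x]
    exact Subgroup.card_le_of_le hne
  exact h.ne ((Subgroup.eq_bot_iff_forall A).2 fun a ha => h.triv a ha fun v => hPC (h.quad a ha v))

/-- `W = fix A * fix (A ^ x)` does not depend on the point. -/
theorem Pair.fix_sup_eq {x y : X} (hx : x ∉ M) (hy : y ∉ M) :
    fix φ A ⊔ fix φ (cj A x) = fix φ A ⊔ fix φ (cj A y) := by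
  set P := fix φ A
  set W := P ⊔ fix φ (cj A x)
  let S : Subgroup X :=
    { carrier := {b | ∀ w ∈ W, φ b w ∈ W}
      one_mem' := fun w hw => by simpa using hw
      mul_mem' := fun {a b} ha hb w hw => by rw [map_mul, MulAut.mul_apply]; exact ha _ (hb w hw)
      inv_mem' := fun {b} hb w hw => by
        have e : W.map (φ b).toMonoidHom = W :=
          Subgroup.eq_of_le_of_card_ge (by rintro _ ⟨w, hw, rfl⟩; exact hb w hw)
            (Subgroup.card_map_of_injective (φ b).injective).ge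
        obtain ⟨w', hw', rfl⟩ := e.symm ▸ hw
        show φ b⁻¹ (φ b w') ∈ W
        rwa [map_inv, MulAut.inv_apply_self] }
  have hS : S = ⊤ := by
    refine top_le_iff.1 (h.gen hx ▸ sup_le (fun a ha w hw => ?_) ?_)
    · rw [show φ a w = φ a w / w * w by simp]
      exact W.mul_mem (Subgroup.mem_sup_left (h.quad a ha w)) hw
    · rintro _ ⟨a, ha, rfl⟩ w hw
      show φ (x * a * x⁻¹) w ∈ W
      rw [show φ (x * a * x⁻¹) w = φ (x * a * x⁻¹) w / w * w by simp]
      refine W.mul_mem (Subgroup.mem_sup_right ?_) hw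
      rw [cj, fix_map_conj]
      refine ⟨φ a (φ x⁻¹ w) / φ x⁻¹ w, h.quad a ha _, ?_⟩
      show φ x (φ a (φ x⁻¹ w) / φ x⁻¹ w) = φ (x * a * x⁻¹) w / w
      rw [map_div, map_mul, map_mul, MulAut.mul_apply, MulAut.mul_apply, map_inv, MulAut.apply_inv_self]
  have hle : P ⊔ fix φ (cj A y) ≤ W := by
    refine sup_le le_sup_left ?_
    rw [cj, fix_map_conj]
    rintro _ ⟨p, hp, rfl⟩
    exact (show y ∈ S from hS ▸ Subgroup.mem_top y) p (Subgroup.mem_sup_left hp)
  refine (Subgroup.eq_of_le_of_card_ge hle ?_).symm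
  have h1 : P ⊓ fix φ (cj A x) = fix φ (⊤ : Subgroup X) :=
    le_antisymm (fun w hw => h.fix_inf hx hw.1 hw.2) (le_inf (fix_anti le_top) (h.fix_top_le x))
  have h2 : P ⊓ fix φ (cj A y) = fix φ (⊤ : Subgroup X) :=
    le_antisymm (fun w hw => h.fix_inf hy hw.1 hw.2) (le_inf (fix_anti le_top) (h.fix_top_le y))
  have e : ∀ Q : Subgroup V, Nat.card ↥(P ⊔ Q) * Nat.card ↥(P ⊓ Q) = Nat.card P * Nat.card Q :=
    fun Q => card_sup_inf P Q
  have e1 := e (fix φ (cj A x))
  have e2 := e (fix φ (cj A y))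
  rw [h1, h.card_fix_cj] at e1
  rw [h2, h.card_fix_cj] at e2
  exact le_of_eq (Nat.eq_of_mul_eq_mul_right Nat.card_pos (e1.trans e2.symm))

/-- An element of `A` moves every vector outside the centre in the conjugate fixed spaces. -/
theorem Pair.strong {a : X} (ha : a ∈ A) (ha1 : a ≠ 1) {x : X} (hx : x ∉ M) {v : V}
    (hv : v ∈ fix φ (cj A x)) (hvC : v ∉ fix φ (⊤ : Subgroup X)) :
    φ a v / v ∉ fix φ (⊤ : Subgroup X) := by
  intro hcon
  refine ha1 (h.normalCore_inf ha fun y => ?_)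
  show y * a * y⁻¹ ∈ M
  by_cases hy : y⁻¹ ∈ M
  · exact M.mul_mem (M.mul_mem (by simpa using M.inv_mem hy) (h.le ha)) hy
  by_contra hne
  have hvW : v ∈ fix φ A ⊔ fix φ (cj A y⁻¹) := h.fix_sup_eq hx hy ▸ Subgroup.mem_sup_right hv
  obtain ⟨p, hp, w, hw, rfl⟩ := Subgroup.mem_sup.1 hvW
  have hwC : w ∉ fix φ (⊤ : Subgroup X) := fun hwC => hvC (h.fix_inf hx
    ((fix φ A).mul_mem hp (fix_anti le_top hwC)) hv)
  have e : φ a (p * w) / (p * w) = φ a w / w := by
    rw [map_mul, hp a ha, mul_div_mul_left_eq_div]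
  rw [e] at hcon
  refine hwC (mem_fix_top_of_apply (x := a) ?_)
  refine h.meet (x := y⁻¹) (y := a * y⁻¹) (by simpa [mul_assoc] using hne) ?_ ?_
  · rw [show φ a w = φ a w / w * w by simp]
    exact Subgroup.mul_mem _ (h.fix_top_le _ hcon) hw
  · rw [cj, fix_map_conj] at hw ⊢
    obtain ⟨q, hq, rfl⟩ := hw
    refine ⟨q, hq, ?_⟩
    show φ (a * y⁻¹) q = φ a (φ y⁻¹ q)
    rw [map_mul, MulAut.mul_apply]

/-- The translates of one point. -/
theorem Pair.disjoint {c x : X} (hc : c ∈ A) (hc1 : c ≠ 1) (hx : x ∉ M) {v : V}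
    (hv : v ∈ fix φ (cj A x)) (hv' : φ c v ∈ fix φ (cj A x)) : v ∈ fix φ (⊤ : Subgroup X) := by
  by_contra hvC
  exact h.strong hc hc1 hx hv hvC (h.fix_inf hx (h.quad c hc v) (Subgroup.div_mem _ hv' hv))

/-- The size of the fixed space and the covering of the vectors outside it. -/
theorem Pair.cover {x : X} (hx : x ∉ M) :
    ∀ w : V, w ∉ fix φ A → ∃ a ∈ A, ∃ v ∈ fix φ (cj A x), φ a v = w := by
  classical
  set C0 := fix φ (⊤ : Subgroup X)
  set P := fix φ A
  set Q := fix φ (cj A x)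
  obtain ⟨v0, hv0, hv0C⟩ := h.exists_outside hx
  have hPbig : Nat.card A * Nat.card C0 ≤ Nat.card P := by
    rw [← Nat.card_prod]
    refine Nat.card_le_card_of_injective
      (fun ac : A × C0 => (⟨φ ac.1 v0 / v0 * ac.2, P.mul_mem (h.quad ac.1 ac.1.2 v0)
        (fix_anti le_top ac.2.2)⟩ : P)) ?_
    rintro ⟨a, c⟩ ⟨b, d⟩ e
    have e' : φ a v0 / v0 * (c : V) = φ b v0 / v0 * (d : V) := congrArg Subtype.val e
    have hab : a = b := by
      by_contra hne
      refine h.strong (A.mul_mem (A.inv_mem a.2) b.2)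
        (fun e => hne (Subtype.ext (inv_mul_eq_one.1 e))) hx hv0 hv0C ?_
      have hfa : φ ((a : X)⁻¹) (φ b v0 / v0) = φ b v0 / v0 := h.quad b b.2 v0 _ (A.inv_mem a.2)
      have ha0 : φ ((a : X)⁻¹) (φ a v0 / v0) = φ a v0 / v0 := h.quad a a.2 v0 _ (A.inv_mem a.2)
      rw [map_div, map_inv, MulAut.inv_apply_self] at ha0
      rw [map_div] at hfa
      have e1 : φ ((a : X)⁻¹ * b) v0 / v0 = (φ b v0 / v0) * (φ ((a : X)⁻¹) v0 / v0) := by
        rw [map_mul, MulAut.mul_apply]
        conv_rhs => rw [← hfa]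
        rw [div_mul_div_cancel]
      have e2 : φ ((a : X)⁻¹) v0 / v0 = (φ a v0 / v0)⁻¹⁻¹ := by
        rw [inv_inv]
        have h1 : φ ((a : X)⁻¹) v0 = φ a v0 := by
          rw [inv_eq_of_mul_eq_one_right (h.sq a a.2)]
        rw [h1]
      rw [e1, e2, inv_inv]
      have e3 : φ b v0 / v0 * (φ a v0 / v0) = (c : V) / d * (φ a v0 / v0 * (φ a v0 / v0)) := by
        have e4 : φ b v0 / v0 = φ a v0 / v0 * c / d := by rw [e', mul_div_cancel_right]
        rw [e4]; simp only [div_eq_mul_inv]; ac_rfl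
      rw [e3, h.two, mul_one]
      exact C0.div_mem c.2 d.2
    subst hab
    exact Prod.ext rfl (Subtype.ext (mul_left_cancel e'))
  -- the map whose image has the size of `V`
  let f : (Option A × {v : Q // (v : V) ∉ C0}) ⊕ C0 → V := Sum.elim
    (fun iv => iv.1.elim (φ x⁻¹ (iv.2.1 : V)) fun a => φ (a : X) (iv.2.1 : V)) (fun c => (c : V))
  have hxP : ∀ v : Q, φ x⁻¹ (v : V) ∈ P := by
    rintro ⟨v, hv⟩
    have hv' : v ∈ fix φ (cj A x) := hv
    rw [cj, fix_map_conj] at hv'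
    obtain ⟨q, hq, rfl⟩ := hv'
    show φ x⁻¹ (φ x q) ∈ P
    rw [map_inv, MulAut.inv_apply_self]
    exact hq
  have hout : ∀ (a : A) (v : {v : Q // (v : V) ∉ C0}), φ (a : X) (v.1 : V) ∉ P := by
    intro a v hmem
    refine v.2 (h.fix_inf hx ?_ v.1.2)
    have h1 := hmem a a.2
    rw [← MulAut.mul_apply, ← map_mul, h.sq a a.2, map_one, MulAut.one_apply] at h1
    rw [h1]; exact hmem
  have hmove : ∀ (y : X) (v : {v : Q // (v : V) ∉ C0}), φ y (v.1 : V) ∉ C0 :=
    fun y v hC => v.2 (mem_fix_top_of_apply hC)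
  have hinj : Function.Injective f := by
    rintro (⟨_ | a, v⟩ | c) (⟨_ | b, w⟩ | d) e <;>
      simp only [f, Sum.elim_inl, Sum.elim_inr, Option.elim] at e
    · rw [Subtype.ext (Subtype.ext ((φ x⁻¹).injective e))]
    · exact absurd (e ▸ hxP v.1) (hout b w)
    · exact absurd (e ▸ d.2) (hmove _ v)
    · exact absurd (e.symm ▸ hxP w.1) (hout a v)
    · have hab : a = b := by
        by_contra hne
        refine v.2 (h.disjoint (A.mul_mem (A.inv_mem b.2) a.2)
          (fun e => hne (Subtype.ext (inv_mul_eq_one.1 e)).symm) hx v.1.2 ?_)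
        rw [map_mul, MulAut.mul_apply, e, map_inv, MulAut.inv_apply_self]
        exact w.1.2
      subst hab
      rw [Subtype.ext (Subtype.ext ((φ (a : X)).injective e))]
    · exact absurd (e ▸ d.2) (hmove _ v)
    · exact absurd (e.symm ▸ c.2) (hmove _ w)
    · exact absurd (e.symm ▸ c.2) (hmove _ w)
    · rw [Subtype.ext e]
  have hQ : Nat.card {v : Q // (v : V) ∉ C0} + Nat.card C0 = Nat.card P := by
    have e : Nat.card {v : Q // (v : V) ∈ C0} = Nat.card C0 := Nat.card_congr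
      { toFun := fun v => ⟨v.1, v.2⟩
        invFun := fun c => ⟨⟨c, h.fix_top_le x c.2⟩, c.2⟩
        left_inv := fun v => rfl
        right_inv := fun c => rfl }
    rw [← e, add_comm, ← Nat.card_sum, Nat.card_congr (Equiv.sumCompl fun v : Q => (v : V) ∈ C0)]
    exact h.card_fix_cj x
  have hsurj : Function.Surjective f := by
    refine (hinj.bijective_of_nat_card_le ?_).surjective
    rw [Nat.card_sum, Nat.card_prod, Finite.card_option]
    have hbig : Nat.card V ≤ Nat.card A * Nat.card P := h.big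
    nlinarith [hQ, hPbig, hbig]
  intro w hw
  obtain ⟨(⟨_ | a, v⟩ | c), rfl⟩ := hsurj w
  · exact absurd (hxP v.1) hw
  · exact ⟨a, a.2, _, v.1.2, rfl⟩
  · exact absurd (fix_anti le_top c.2) hw

theorem Pair.stable {m : X} (hm : m ∈ M) {p : V} (hp : p ∈ fix φ A) : φ m p ∈ fix φ A := by
  obtain ⟨g, hg⟩ : ∃ g : X, g ∉ M := by
    by_contra hne
    push Not at hne
    exact h.proper (top_le_iff.1 fun x _ => hne x)
  by_contra hne
  obtain ⟨a, ha, v, hv, he⟩ := h.cover hg _ hne
  refine hne (fix_anti le_top ?_)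
  refine h.meet (x := m) (y := a * g) (fun hmem => hg ?_) ?_ ?_
  · have := M.mul_mem (M.inv_mem (h.le ha)) (M.mul_mem hm hmem)
    simpa [mul_assoc] using this
  · rw [cj, fix_map_conj]
    exact ⟨p, hp, rfl⟩
  · rw [← he, cj, ← map_conj_mul, fix_map_conj]
    exact ⟨v, hv, rfl⟩

theorem Pair.free {a x : X} (ha : a ∈ A) (ha1 : a ≠ 1) (hx : x ∉ M) : x⁻¹ * a * x ∉ M := by
  intro hmem
  obtain ⟨v, hv, hvC⟩ := h.exists_outside hx
  refine hvC (h.disjoint ha ha1 hx hv ?_)
  rw [cj, fix_map_conj] at hv ⊢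
  obtain ⟨p, hp, rfl⟩ := hv
  refine ⟨φ (x⁻¹ * a * x) p, h.stable hmem hp, ?_⟩
  show φ x (φ (x⁻¹ * a * x) p) = φ a (φ x p)
  rw [← MulAut.mul_apply, ← map_mul, ← MulAut.mul_apply, ← map_mul]
  group

theorem Pair.coset {x t : X} (hx : x ∉ M) (ht : t ∉ M) : ∃ a ∈ A, (a * x)⁻¹ * t ∈ M := by
  obtain ⟨v1, hv1, hv1C⟩ := h.exists_outside ht
  obtain ⟨a, ha, v, hv, he⟩ := h.cover hx v1 fun hP => hv1C (h.fix_inf ht hP hv1)
  refine ⟨a, ha, ?_⟩
  by_contra hne
  refine hv1C (h.meet (x := a * x) (y := t) hne ?_ hv1)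
  rw [← he, cj, ← map_conj_mul, fix_map_conj]
  exact ⟨v, hv, rfl⟩

/-- Conclusion: a section `S₃`. -/
theorem Pair.involves : Involves P3 X := by
  obtain ⟨g, hg⟩ : ∃ g : X, g ∉ M := by
    by_contra hne
    push Not at hne
    exact h.proper (top_le_iff.1 fun x _ => hne x)
  obtain ⟨⟨a0, ha0⟩, ha01'⟩ := Subgroup.ne_bot_iff_exists_ne_one.1 h.ne
  have ha01 : a0 ≠ 1 := fun e => ha01' (Subtype.ext e)
  set t := g * a0 * g⁻¹ with htdef
  have htt : t * t = 1 := by
    calc t * t = g * (a0 * a0) * g⁻¹ := by rw [htdef]; group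
      _ = 1 := by rw [h.sq a0 ha0]; group
  have htM : t ∉ M := by
    have := h.free ha0 ha01 (x := g⁻¹) (fun hm => hg (by simpa using M.inv_mem hm))
    simpa [htdef] using this
  have hti : t⁻¹ = t := inv_eq_of_mul_eq_one_right htt
  have hgtg : g⁻¹ * t * g = a0 := by rw [htdef]; group
  obtain ⟨a, ha, ham⟩ := h.coset hg htM
  have haa : a * a = 1 := h.sq a ha
  have hai : a⁻¹ = a := inv_eq_of_mul_eq_one_right haa
  set u := a * t with hu
  have huM : u ∉ M := fun hm => htM (by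
    have := M.mul_mem (M.inv_mem (h.le ha)) hm
    rwa [hu, inv_mul_cancel_left] at this)
  have hu3 : u * u * u ∈ M := by
    have e : u * u * u = a * (t * (a * g)) * (g⁻¹ * t * g) * ((a * g)⁻¹ * t) := by
      simp [hu, mul_assoc, hai]
    have p3 : t * (a * g) ∈ M := by
      have : (t * (a * g)) = ((a * g)⁻¹ * t)⁻¹ := by rw [mul_inv_rev, inv_inv, hti]
      rw [this]; exact M.inv_mem ham
    rw [e]
    exact M.mul_mem (M.mul_mem (M.mul_mem (h.le ha) p3) (hgtg.symm ▸ h.le ha0)) ham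
  have hau : a * u * a⁻¹ = u⁻¹ := by
    rw [hu, mul_inv_rev, hai, hti, ← mul_assoc, haa, one_mul]
  -- the odd part
  obtain ⟨k, l, hl, hkl⟩ := Nat.exists_eq_pow_mul_and_not_dvd (orderOf_pos u).ne' 2 (by norm_num)
  set r := u ^ 2 ^ k with hr
  have hrl : r ^ l = 1 := by rw [hr, ← pow_mul, ← hkl, pow_orderOf_eq_one]
  have har : a * r * a⁻¹ = r⁻¹ := by rw [hr, ← conj_pow, hau, inv_pow]
  have hr3 : r ^ 3 ∈ M := by
    rw [hr, pow_right_comm, show u ^ 3 = u * u * u by rw [pow_succ, pow_two]]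
    exact M.pow_mem hu3 _
  have hrM : r ∉ M := by
    intro hrm
    have hcop : Nat.Coprime (2 ^ k) 3 := Nat.Coprime.pow_left k (by norm_num)
    have hu3' : u ^ 3 ∈ M := by rwa [pow_succ, pow_two]
    have e : u = (u ^ 2 ^ k) ^ (Nat.gcdA (2 ^ k) 3) * (u ^ 3) ^ (Nat.gcdB (2 ^ k) 3) := by
      rw [← zpow_natCast u (2 ^ k), ← zpow_natCast u 3, ← zpow_mul, ← zpow_mul, ← zpow_add,
        ← Nat.gcd_eq_gcd_ab, hcop.gcd_eq_one, Nat.cast_one, zpow_one]
    exact huM (e ▸ M.mul_mem (M.zpow_mem hrm _) (M.zpow_mem hu3' _))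
  set a' := r ^ 3 * a * (r ^ 3)⁻¹ with ha'
  have hb : a' * a = r ^ 6 := by
    have h1 : a * (r ^ 3)⁻¹ * a⁻¹ = r ^ 3 := by
      have h3 : a * r ^ 3 * a⁻¹ = (r ^ 3)⁻¹ := by rw [← conj_pow, har, inv_pow]
      conv_lhs => rw [← h3]
      simp [mul_assoc, hai, haa, ← mul_assoc a a]
    calc a' * a = r ^ 3 * (a * (r ^ 3)⁻¹ * a⁻¹) := by rw [ha', hai]; group
      _ = r ^ 6 := by rw [h1, ← pow_add]
  have hP' : ∀ v : V, φ a' v / v ∈ fix φ A := by
    intro v
    have := h.stable hr3 (h.quad a ha (φ (r ^ 3)⁻¹ v))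
    rwa [map_div, ← MulAut.mul_apply, ← map_mul, ← MulAut.mul_apply, ← map_mul, ← MulAut.mul_apply,
      ← map_mul, ← ha', mul_inv_cancel, map_one, MulAut.one_apply] at this
  have hP'' : ∀ p ∈ fix φ A, φ a' p = p := by
    intro p hp
    have h1 := h.stable (M.inv_mem hr3) hp a ha
    rw [ha', map_mul, map_mul, MulAut.mul_apply, MulAut.mul_apply, h1, map_inv, MulAut.apply_inv_self]
  have hb2 : (a' * a) * (a' * a) = 1 := by
    refine h.inj (MulEquiv.ext fun v => ?_)
    have hfix : ∀ p ∈ fix φ A, φ (a' * a) p = p := fun p hp => by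
      rw [map_mul, MulAut.mul_apply, hp a ha, hP'' p hp]
    have hd : φ (a' * a) v / v ∈ fix φ A := by
      rw [map_mul, MulAut.mul_apply,
        show φ a' (φ a v) / v = φ a' (φ a v) / φ a v * (φ a v / v) by rw [div_mul_div_cancel]]
      exact Subgroup.mul_mem _ (hP' _) (h.quad a ha v)
    have h2 := hfix _ hd
    rw [map_div, div_eq_iff_eq_mul] at h2
    rw [map_one, MulAut.one_apply, map_mul, MulAut.mul_apply, h2, div_mul_eq_mul_div, h.two, one_div]
    exact inv_eq_of_mul_eq_one_right (h.two v)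
  rw [hb, ← pow_add] at hb2
  have hr31 : r ^ 3 = 1 := by
    have h1 : orderOf r ∣ 3 * 4 := orderOf_dvd_of_pow_eq_one hb2
    have h2 : Nat.Coprime (orderOf r) 4 := by
      have h3 : ¬ 2 ∣ orderOf r := fun h4 => hl (h4.trans (orderOf_dvd_of_pow_eq_one hrl))
      simpa using (Nat.prime_two.coprime_iff_not_dvd.2 h3).symm.pow_right 2
    exact orderOf_dvd_iff_pow_eq_one.1 (h2.dvd_of_dvd_mul_right h1)
  exact involves_perm3 hr31 (fun e => hrM (e ▸ M.one_mem)) haa har

end CfsgLib.S3Free
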