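import Cfsg.Agent.Lib.S3Free.Step
import Cfsg.Agent.Lib.S3Free.FamTools
import Cfsg.Agent.Lib.S3Free.CoreFalse
import Cfsg.Agent.Lib.PLocal.StableNormal

/-!
Pushing up in groups without a section `S₃`: a subspace `W` normalised by a Sylow 2-subgroup `T`, fixed by
the join of the offenders in `T`, with no offence of 2-subgroups of `T`, and stable under the normalizer
of the join, is invariant under the whole group.
-/

set_option autoImplicit false
set_option linter.unusedSectionVars false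
set_option maxHeartbeats 1000000

namespace CfsgLib.S3Free

open CfsgLib CfsgLib.Local CfsgLib.OffenderTwo Cfsg

universe u v

variable {X : Type u} [Group X] {V : Type v} [CommGroup V]

/-- The elements mapping `W` into itself. -/
def nrm [Finite V] (φ : X →* MulAut V) (W : Subgroup V) : Subgroup X where
  carrier := {x | ∀ w ∈ W, φ x w ∈ W}
  one_mem' := fun w hw => by simpa using hw
  mul_mem' := fun {a b} ha hb w hw => by rw [map_mul, MulAut.mul_apply]; exact ha _ (hb w hw)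
  inv_mem' := fun {b} hb w hw => by
    have e : W.map (φ b).toMonoidHom = W :=
      Subgroup.eq_of_le_of_card_ge (by rintro _ ⟨w, hw, rfl⟩; exact hb w hw)
        (Subgroup.card_map_of_injective (φ b).injective).ge
    obtain ⟨w', hw', rfl⟩ := e.symm ▸ hw
    show φ b⁻¹ (φ b w') ∈ W
    rwa [map_inv, MulAut.inv_apply_self]

theorem mem_nrm [Finite V] {φ : X →* MulAut V} {W : Subgroup V} {x : X} :
    x ∈ nrm φ W ↔ ∀ w ∈ W, φ x w ∈ W := Iff.rfl

variable [Finite X] [Finite V]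

theorem tr_eq_self {φ : X →* MulAut V} {W : Subgroup V} {m : X} (hm : m ∈ nrm φ W) : tr φ m W = W :=
  Subgroup.eq_of_le_of_card_ge (by rintro _ ⟨w, hw, rfl⟩; exact hm w hw)
    (Subgroup.card_map_of_injective (φ m).injective).ge

theorem Strict.mono {φ : X →* MulAut V} {T S : Subgroup X} {W : Subgroup V} (h : Strict φ T W) (hS : S ≤ T) :
    Strict φ S W := fun D hD => h D (hD.trans hS)

/-- Strictness moves along an element stabilising `W`. -/
theorem Strict.conj {φ : X →* MulAut V} {T : Subgroup X} {W : Subgroup V} (h : Strict φ T W) {m : X}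
    (hm : m ∈ nrm φ W) : Strict φ (T.map (MulAut.conj m).toMonoidHom) W := by
  intro D hD hsq hcomm hne
  set D0 := D.map (MulAut.conj m⁻¹).toMonoidHom
  have hst : ∀ d : X, m⁻¹ * d * m ∈ stab φ W ↔ d ∈ stab φ W := by
    intro d
    constructor
    · intro hd w hw
      have h1 := congrArg (φ m) (hd _ (mem_nrm.1 ((nrm φ W).inv_mem hm) w hw))
      simpa [map_mul] using h1
    · intro hd w hw
      rw [map_mul, map_mul, MulAut.mul_apply, MulAut.mul_apply, hd _ (hm w hw), map_inv, MulAut.inv_apply_self]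
  have hmem : ∀ {d : X}, d ∈ D → m⁻¹ * d * m ∈ D0 := fun {d} hd => ⟨d, hd, by simp⟩
  have key := h D0 (by
      rintro _ ⟨d, hd, rfl⟩
      obtain ⟨t, ht, rfl⟩ := hD hd
      simpa [mul_assoc] using ht)
    (by
      rintro _ ⟨d, hd, rfl⟩
      have := (hst (d * d)).2 (hsq d hd)
      simpa [mul_assoc] using this)
    (by
      rintro _ ⟨a, ha, rfl⟩ _ ⟨b, hb, rfl⟩
      have := (hst _).2 (hcomm a ha b hb)
      simpa [mul_assoc] using this)
    (fun hle => hne fun d hd => (hst d).1 (hle (hmem hd)))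
  have e1 : Nat.card D0 = Nat.card D := Subgroup.card_map_of_injective (MulAut.conj m⁻¹).injective
  have e2 : Nat.card ↥(W ⊓ fix φ D0) = Nat.card ↥(W ⊓ fix φ D) := by
    have hW : W = W.map (φ m⁻¹).toMonoidHom := (tr_eq_self ((nrm φ W).inv_mem hm)).symm
    rw [fix_map_conj]
    conv_lhs => rw [hW, ← Subgroup.map_inf _ _ _ (φ m⁻¹).injective]
    exact Subgroup.card_map_of_injective (φ m⁻¹).injective
  have e3 : Nat.card ↥(D0 ⊓ stab φ W) = Nat.card ↥(D ⊓ stab φ W) := by
    have : D0 ⊓ stab φ W = (D ⊓ stab φ W).map (MulAut.conj m⁻¹).toMonoidHom := by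
      ext y
      constructor
      · rintro ⟨⟨d, hd, rfl⟩, hy⟩
        exact ⟨d, ⟨hd, (hst d).1 (by simpa using hy)⟩, rfl⟩
      · rintro ⟨d, ⟨hd, hs⟩, rfl⟩
        exact ⟨⟨d, hd, rfl⟩, by simpa using (hst d).2 hs⟩
    rw [this, Subgroup.card_map_of_injective (MulAut.conj m⁻¹).injective]
  rwa [e1, e2, e3] at key

/-- Strictness in a subgroup. -/
theorem Strict.onSubgroup {φ : X →* MulAut V} {H : Subgroup X} {S : Subgroup H} {W : Subgroup V}
    (h : Strict φ (S.map H.subtype) W) : Strict (φ.comp H.subtype) S W := by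
  intro D hD hsq hcomm hne
  have key := h (D.map H.subtype) (Subgroup.map_mono hD)
    (by rintro _ ⟨d, hd, rfl⟩; exact hsq d hd)
    (by rintro _ ⟨a, ha, rfl⟩ _ ⟨b, hb, rfl⟩; exact hcomm a ha b hb)
    (fun hle => hne fun d hd => hle ⟨d, hd, rfl⟩)
  have e : D.map H.subtype ⊓ stab φ W = (D ⊓ stab (φ.comp H.subtype) W).map H.subtype := by
    ext y
    constructor
    · rintro ⟨⟨d, hd, rfl⟩, hy⟩; exact ⟨d, ⟨hd, hy⟩, rfl⟩
    · rintro ⟨d, ⟨hd, hy⟩, rfl⟩; exact ⟨⟨d, hd, rfl⟩, hy⟩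
  rw [Subgroup.card_map_of_injective H.subtype_injective, fix_map, e,
    Subgroup.card_map_of_injective H.subtype_injective] at key
  exact key

theorem push_aux : ∀ (n : ℕ) (Y : Type u) [Group Y] [Finite Y], Nat.card Y = n →
    ∀ (V : Type v) [CommGroup V] [Finite V] (φ : Y →* MulAut V) (𝒪 : Set (Subgroup Y)) (T : Sylow 2 Y)
      (W : Subgroup V), (∀ v : V, v * v = 1) → ¬ Involves P3 Y → Fam φ 𝒪 →
      (T : Subgroup Y) ≤ nrm φ W → offJoin 𝒪 (T : Subgroup Y) ≤ stab φ W →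
      Strict φ (T : Subgroup Y) W →
      Subgroup.normalizer (offJoin 𝒪 (T : Subgroup Y) : Set Y) ≤ nrm φ W → nrm φ W = ⊤ := by
  intro n
  induction n using Nat.strong_induction_on with
  | _ n ih =>
  intro Y _ _ hn V _ _ φ 𝒪 T W h2 hfree hF hTW hJW hstr hNW
  haveI : Fact (Nat.Prime 2) := ⟨Nat.prime_two⟩
  classical
  set M := nrm φ W with hMdef
  by_contra hM
  set V1 := ⨆ y : Y, tr φ y W with hV1
  have hV1inv : ∀ (x : Y), ∀ v ∈ V1, φ x v ∈ V1 := by
    intro x v hv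
    have hle : V1.map (φ x).toMonoidHom ≤ V1 := by
      rw [hV1, Subgroup.map_iSup]
      refine iSup_le fun y => le_trans (le_of_eq ?_) (le_iSup (fun z => tr φ z W) (x * y))
      show (W.map (φ y).toMonoidHom).map (φ x).toMonoidHom = W.map (φ (x * y)).toMonoidHom
      rw [Subgroup.map_map, map_mul]
      rfl
    exact hle ⟨v, hv, rfl⟩
  have hWV1 : W ≤ V1 := le_trans (le_of_eq (tr_eq_self (nrm φ W).one_mem).symm) (le_iSup (fun z => tr φ z W) 1)
  let ρ : Y →* MulAut V1 :=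
    MonoidHom.mk' (fun x =>
      { toFun := fun w => ⟨φ x w, hV1inv x w w.2⟩
        invFun := fun w => ⟨φ x⁻¹ w, hV1inv x⁻¹ w w.2⟩
        left_inv := fun w => Subtype.ext (by show φ x⁻¹ (φ x w) = w; rw [map_inv, MulAut.inv_apply_self])
        right_inv := fun w => Subtype.ext (by show φ x (φ x⁻¹ w) = w; rw [map_inv, MulAut.apply_inv_self])
        map_mul' := fun a b => Subtype.ext (map_mul (φ x) _ _) })
      (fun x y => MulEquiv.ext fun w => Subtype.ext (by
        show φ (x * y) w = φ x (φ y w)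
        rw [map_mul, MulAut.mul_apply]))
  set K := ρ.ker with hK
  let π := QuotientGroup.mk' K
  have hπ : Function.Surjective π := QuotientGroup.mk'_surjective K
  let ψ : Y ⧸ K →* MulAut V1 := QuotientGroup.lift K ρ le_rfl
  have hψinj : Function.Injective ψ := QuotientGroup.kerLift_injective ρ
  have hψ : ∀ x (w : V1), ((ψ (π x) w : V1) : V) = φ x w := fun x w => rfl
  have hKW : ∀ k ∈ K, ∀ w ∈ W, φ k w = w := fun k hk w hw =>
    congrArg Subtype.val (show ρ k ⟨w, hWV1 hw⟩ = ⟨w, hWV1 hw⟩ by rw [MonoidHom.mem_ker.1 hk]; rfl)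
  have hKM : K ≤ M := fun k hk w hw => by rw [hKW k hk w hw]; exact hw
  have hF' := hF.onSubspace V1 K ψ hψ
  set 𝒪' : Set (Subgroup (Y ⧸ K)) := (fun A => A.map π) '' 𝒪
  set T' : Sylow 2 (Y ⧸ K) := T.mapSurjective hπ
  have hT' : (T' : Subgroup (Y ⧸ K)) = (T : Subgroup Y).map π := Sylow.coe_mapSurjective hπ T
  set J := offJoin 𝒪 (T : Subgroup Y)
  have hJ' : offJoin 𝒪' (T' : Subgroup (Y ⧸ K)) = J.map π := by
    rw [hT']
    exact hF.offJoin_image K T.2 fun P hP hle _ => T.3 hP hle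
  set W' := W.subgroupOf V1
  have hnrm : ∀ x, π x ∈ nrm ψ W' ↔ x ∈ M := by
    intro x
    constructor
    · intro hx w hw
      exact hx ⟨w, hWV1 hw⟩ hw
    · intro hx w hw
      exact hx (w : V) hw
  have hstab : ∀ x, π x ∈ stab ψ W' ↔ x ∈ stab φ W := by
    intro x
    constructor
    · intro hx w hw
      exact congrArg Subtype.val (hx ⟨w, hWV1 hw⟩ hw)
    · intro hx w hw
      exact Subtype.ext (hx (w : V) hw)
  set M' := M.map π
  have hM'comap : M'.comap π = M := by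
    rw [Subgroup.comap_map_eq, QuotientGroup.ker_mk', sup_eq_left.2 hKM]
  have hM'top : M' ≠ ⊤ := fun e => hM (by rw [← hM'comap, e, Subgroup.comap_top])
  have hstr' : Strict ψ (T' : Subgroup (Y ⧸ K)) W' := by
    intro D hD hsq hcomm hne
    set D0 := (T : Subgroup Y) ⊓ D.comap π
    have hmap : D0.map π = D := by
      refine le_antisymm (Subgroup.map_le_iff_le_comap.2 inf_le_right) fun z hz => ?_
      obtain ⟨t, ht, rfl⟩ := (hT' ▸ hD) hz
      exact ⟨t, ⟨ht, hz⟩, rfl⟩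
    have key := hstr D0 inf_le_left
      (fun a ha => (hstab _).1 (by rw [map_mul]; exact hsq _ ha.2))
      (fun a ha b hb => (hstab _).1 (by
        rw [map_mul, map_mul, map_mul, map_inv, map_inv]; exact hcomm _ ha.2 _ hb.2))
      (fun hle => hne fun z hz => by
        obtain ⟨d, hd, rfl⟩ := hmap.ge hz
        exact (hstab d).2 (hle hd))
    have e1 := card_map_mul_inf π D0
    have e2 := card_map_mul_inf π (D0 ⊓ stab φ W)
    have e3 : (D0 ⊓ stab φ W).map π = D ⊓ stab ψ W' := by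
      refine le_antisymm (fun z ⟨d, hd, he⟩ => he ▸ ⟨hmap.le ⟨d, hd.1, rfl⟩, (hstab d).2 hd.2⟩) ?_
      rintro z ⟨hz, hzs⟩
      obtain ⟨d, hd, rfl⟩ := hmap.ge hz
      exact ⟨d, ⟨hd, (hstab d).1 hzs⟩, rfl⟩
    have e4 : D0 ⊓ stab φ W ⊓ π.ker = D0 ⊓ π.ker := by
      refine le_antisymm (inf_le_inf_right _ inf_le_left) fun d hd => ⟨⟨hd.1, ?_⟩, hd.2⟩
      have h1 := hd.2
      rw [QuotientGroup.ker_mk'] at h1
      exact fun w hw => hKW d h1 w hw
    have e5 : Nat.card ↥(W' ⊓ fix ψ D) = Nat.card ↥(W ⊓ fix φ D0) := Nat.card_congr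
      { toFun := fun w => ⟨(w.1 : V), w.2.1, fun d hd => congrArg Subtype.val (w.2.2 (π d) (hmap.le ⟨d, hd, rfl⟩))⟩
        invFun := fun w => ⟨⟨w.1, hWV1 w.2.1⟩, w.2.1, fun z hz => by
          obtain ⟨d, hd, rfl⟩ := hmap.ge hz
          exact Subtype.ext (w.2.2 d hd)⟩
        left_inv := fun _ => rfl
        right_inv := fun _ => rfl }
    have e6 : Nat.card W' = Nat.card W := Nat.card_congr (Subgroup.subgroupOfEquivOfLe hWV1).toEquiv
    rw [hmap] at e1
    rw [e3, e4] at e2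
    rw [e5, e6]
    refine Nat.lt_of_mul_lt_mul_right (a := Nat.card ↥(D0 ⊓ π.ker)) ?_
    calc Nat.card D * Nat.card ↥(W ⊓ fix φ D0) * Nat.card ↥(D0 ⊓ π.ker)
        = Nat.card D0 * Nat.card ↥(W ⊓ fix φ D0) := by rw [← e1]; ring
      _ < Nat.card W * Nat.card ↥(D0 ⊓ stab φ W) := key
      _ = _ := by rw [← e2]; ring
  have hgen' : (⨆ x : Y ⧸ K, tr ψ x W') = ⊤ := by
    apply Subgroup.map_injective V1.subtype_injective
    rw [Subgroup.map_iSup, ← MonoidHom.range_eq_map, Subgroup.range_subtype]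
    refine le_antisymm (iSup_le fun x => Subgroup.map_subtype_le _) ?_
    refine hV1.trans_le (iSup_le fun y => le_trans ?_ (le_iSup (fun x : Y ⧸ K => (tr ψ x W').map V1.subtype) (π y)))
    rintro _ ⟨w, hw, rfl⟩
    exact ⟨ψ (π y) ⟨w, hWV1 hw⟩, ⟨⟨w, hWV1 hw⟩, hw, rfl⟩, rfl⟩
  have hNJ : Subgroup.normalizer (offJoin 𝒪' (T' : Subgroup (Y ⧸ K)) : Set (Y ⧸ K)) ≤ M' := by
    rw [hJ', ← Subgroup.map_comap_eq_self_of_surjective hπ
      (Subgroup.normalizer ((J.map π : Subgroup (Y ⧸ K)) : Set (Y ⧸ K)))]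
    exact Subgroup.map_mono ((hF.comap_normalizer_le K T).trans (sup_le hKM hNW))
  have hN : ∀ U : Subgroup (Y ⧸ K), IsPGroup 2 U → offJoin 𝒪' U ≠ ⊥ → ¬ (offJoin 𝒪' U).Normal := by
    intro U hU hne hn
    haveI := hn
    obtain ⟨A, ⟨hA, hAU⟩, hA1⟩ : ∃ A, (A ∈ 𝒪' ∧ A ≤ U) ∧ A ≠ ⊥ := by
      by_contra hno
      push Not at hno
      exact hne (le_bot_iff.1 (sSup_le fun A hA => (hno A hA).le))
    have hcomm : ∀ a ∈ A, ∀ b ∈ A, a * b = b * a := fun a ha b hb => by
      have h1 := hF'.sq A hA (a * b) (A.mul_mem ha hb)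
      rw [mul_eq_one_iff_inv_eq, mul_inv_rev, inv_eq_of_mul_eq_one_right (hF'.sq A hA a ha),
        inv_eq_of_mul_eq_one_right (hF'.sq A hA b hb)] at h1
      exact h1.symm
    have hlt := strict_tele hψinj hgen' hstr' A (hF'.sq A hA) hcomm (fun x d hd =>
      pCore_le_sylow T' (le_pCore (hU.to_le (offJoin_le _ _))
        (hn.conj_mem d (le_offJoin hA hAU hd) x))) hA1
    have hbest := hF'.best A hA ⊥ bot_le
    rw [Subgroup.card_bot, one_mul, show fix ψ (⊥ : Subgroup (Y ⧸ K)) = ⊤ from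
      eq_top_iff.2 fun w _ a ha => by rw [Subgroup.mem_bot.1 ha, map_one, MulAut.one_apply],
      Subgroup.card_top] at hbest
    omega
  have hsub : ∀ H : Subgroup (Y ⧸ K), H ≠ ⊤ → ∀ (S : Sylow 2 H) (P : Sylow 2 (Y ⧸ K)),
      (S : Subgroup H).map H.subtype ≤ (P : Subgroup (Y ⧸ K)) → (P : Subgroup (Y ⧸ K)) ≤ M' →
      offJoin 𝒪' ((S : Subgroup H).map H.subtype) ≠ ⊥ →
      H ⊓ Subgroup.normalizer (offJoin 𝒪' ((S : Subgroup H).map H.subtype) : Set (Y ⧸ K)) ≤ M' → H ≤ M' := by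
    intro Hb hHb S P hSP hPM _ hHN
    set S' := (S : Subgroup Hb).map Hb.subtype with hS'def
    set H := Hb.comap π
    have hKH : K ≤ H := fun c hc => by
      show π c ∈ Hb
      rw [show π c = 1 from (QuotientGroup.eq_one_iff c).2 hc]; exact Hb.one_mem
    have hHtop : H ≠ ⊤ := fun e => hHb (by
      rw [← Subgroup.map_comap_eq_self_of_surjective hπ Hb]
      show H.map π = ⊤
      rw [e]; exact Subgroup.map_top_of_surjective π hπ)
    -- the Sylow subgroup over `P`
    obtain ⟨y, hy⟩ := MulAction.exists_smul_eq (Y ⧸ K) T' P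
    obtain ⟨g, rfl⟩ := hπ y
    set P0 : Sylow 2 Y := g • T
    have hP0 : (P0 : Subgroup Y) = (T : Subgroup Y).map (MulAut.conj g).toMonoidHom := rfl
    have hP0map : (P0 : Subgroup Y).map π = (P : Subgroup (Y ⧸ K)) := by
      rw [hP0, ← hy, show ((π g • T' : Sylow 2 (Y ⧸ K)) : Subgroup (Y ⧸ K)) =
        (T' : Subgroup (Y ⧸ K)).map (MulAut.conj (π g)).toMonoidHom from rfl, hT', Subgroup.map_map, Subgroup.map_map]
      congr 1
    have hP0M : (P0 : Subgroup Y) ≤ M := fun x hx => hM'comap.le (hPM (hP0map.le ⟨x, hx, rfl⟩))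
    have hgM : g ∈ M := by
      obtain ⟨c, hc, R, hR, -, hTR, hcR⟩ := exists_conj_isPGroup (p := 2) T.2 P0.2 hTW hP0M
      rw [T.3 hR hTR] at hcR
      have hcg : c * g ∈ Subgroup.normalizer ((T : Subgroup Y) : Set Y) := by
        refine mem_normalizer_of_map_conj_eq (Subgroup.eq_of_le_of_card_ge ?_
          (Subgroup.card_map_of_injective (MulAut.conj (c * g)).injective).ge)
        rw [← map_conj_mul, ← hP0]
        exact hcR
      simpa using M.mul_mem (M.inv_mem hc) (hNW (hF.normalizer_le _ hcg))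
    set S2 := S'.comap π ⊓ (P0 : Subgroup Y)
    have hKS : K ≤ S'.comap π := fun c hc => by
      show π c ∈ S'
      rw [show π c = 1 from (QuotientGroup.eq_one_iff c).2 hc]; exact S'.one_mem
    have hS2map : S2.map π = S' := by
      refine le_antisymm (Subgroup.map_le_iff_le_comap.2 inf_le_left) fun z hz => ?_
      obtain ⟨x, hx, rfl⟩ := hP0map.ge (hSP hz)
      exact ⟨x, ⟨hz, hx⟩, rfl⟩
    have hS2H : S2 ≤ H := fun x hx => (Subgroup.map_subtype_le _ : S' ≤ Hb) hx.1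
    have hS2p : IsPGroup 2 S2 := P0.2.to_le inf_le_right
    obtain ⟨PC, hPC⟩ := PLocal.exists_sylow_inf P0 K
    have hKeq : ∀ R : Subgroup Y, IsPGroup 2 R → S2 ≤ R → R ≤ H → R = S2 := by
      intro R hR hle hRH
      have hRK : R ≤ S'.comap π := by
        have h1 : R.map π ≤ Hb := Subgroup.map_le_iff_le_comap.2 hRH
        have h3 : (R.map π).subgroupOf Hb = (S : Subgroup Hb) :=
          S.3 ((hR.map π).comap_of_injective Hb.subtype Hb.subtype_injective) fun s hs => by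
            show (s : Y ⧸ K) ∈ R.map π
            exact Subgroup.map_mono hle (hS2map.ge ⟨s, hs, rfl⟩)
        intro x hx
        exact ⟨⟨π x, h1 ⟨x, hx, rfl⟩⟩, h3.le ⟨x, hx, rfl⟩, rfl⟩
      refine le_antisymm (fun x hx => ?_) hle
      obtain ⟨s, hs, he⟩ := hS2map.ge (show π x ∈ S' from hRK hx)
      have hc : x * s⁻¹ ∈ R ⊓ K := ⟨R.mul_mem hx (R.inv_mem (hle hs)), (QuotientGroup.eq_one_iff _).1 (by
        show π (x * s⁻¹) = 1
        rw [map_mul, map_inv, ← he, mul_inv_cancel])⟩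
      have h3 : (R ⊓ K).subgroupOf K = (PC : Subgroup K) :=
        PC.3 ((hR.to_le inf_le_left).comap_of_injective K.subtype K.subtype_injective) fun p hp => by
          have : (p : Y) ∈ (P0 : Subgroup Y) ⊓ K := hPC.le ⟨p, hp, rfl⟩
          exact ⟨hle ⟨hKS p.2, this.1⟩, p.2⟩
      have h4 : x * s⁻¹ ∈ (P0 : Subgroup Y) ⊓ K := hPC.le ⟨⟨_, hc.2⟩, h3.le hc, rfl⟩
      simpa using S2.mul_mem (show x * s⁻¹ ∈ S2 from ⟨hKS h4.2, h4.1⟩) hs
    let SH : Sylow 2 H :=
      { toSubgroup := S2.subgroupOf H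
        isPGroup' := hS2p.comap_of_injective H.subtype H.subtype_injective
        is_maximal' := fun {R} hR hle => by
          have h1 := hKeq (R.map H.subtype) (hR.map _)
            (fun x hx => ⟨⟨x, hS2H hx⟩, hle hx, rfl⟩) (Subgroup.map_subtype_le _)
          rw [← Subgroup.comap_map_eq_self_of_injective H.subtype_injective R, h1]
          rfl }
    have hSH : (SH : Subgroup H).map H.subtype = S2 := Subgroup.map_subgroupOf_eq_of_le hS2H
    set 𝒪H : Set (Subgroup H) := {A | A.map H.subtype ∈ 𝒪}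
    have hjoin : (offJoin 𝒪H (SH : Subgroup H)).map H.subtype = offJoin 𝒪 S2 := by
      rw [← hSH]
      refine le_antisymm (map_offJoin_le _ (fun A hA => hA) _) (sSup_le fun A hA => ?_)
      have hAH : A ≤ H := hA.2.trans (Subgroup.map_subtype_le _)
      rw [← Subgroup.map_subgroupOf_eq_of_le hAH]
      refine Subgroup.map_mono (le_offJoin ?_ ?_)
      · show (A.subgroupOf H).map H.subtype ∈ 𝒪
        rw [Subgroup.map_subgroupOf_eq_of_le hAH]; exact hA.1
      · intro a ha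
        obtain ⟨s, hs, he⟩ := hA.2 ha
        rwa [show a = s from Subtype.ext he.symm]
    have hjS : offJoin 𝒪' S' = (offJoin 𝒪 S2).map π := by
      rw [← hS2map]
      exact hF.offJoin_image K hS2p fun R hR h1 h3 => hKeq R hR h1 (h3.trans (sup_le hKH hS2H))
    have hP0fix : offJoin 𝒪 (P0 : Subgroup Y) ≤ stab φ W := by
      rw [hP0, ← hF.map_offJoin]
      rintro _ ⟨x, hx, rfl⟩ w hw
      show φ (g * x * g⁻¹) w = w
      have hw' : φ g⁻¹ w ∈ W := mem_nrm.1 (M.inv_mem hgM) w hw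
      rw [map_mul, map_mul, MulAut.mul_apply, MulAut.mul_apply, hJW hx _ hw', map_inv, MulAut.apply_inv_self]
    have hres := ih (Nat.card H) (hn ▸ lt_of_le_of_ne (Subgroup.card_le_card_group H)
        fun e => hHtop (Subgroup.eq_top_of_card_eq H e)) H rfl V (φ.comp H.subtype) 𝒪H SH W h2
      (fun hi => hfree (involves_of_sub hi)) (hF.onSubgroup H)
      (fun x hx w hw => hP0M (show (x : Y) ∈ P0 from (hSH.le ⟨x, hx, rfl⟩).2) w hw)
      (fun x hx w hw => hP0fix (offJoin_mono 𝒪 inf_le_right (hjoin.le ⟨x, hx, rfl⟩)) w hw)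
      (Strict.onSubgroup (by rw [hSH]; exact (hP0 ▸ hstr.conj hgM : Strict φ (P0 : Subgroup Y) W).mono inf_le_right))
      (fun x hx w hw => by
        have hxM : (x : Y) ∈ M := hM'comap.le (hHN ⟨x.2, by
          rw [hjS, ← hjoin]
          exact Subgroup.le_normalizer_map π ⟨_, Subgroup.le_normalizer_map H.subtype ⟨x, hx, rfl⟩, rfl⟩⟩)
        exact hxM w hw)
    intro z hz
    obtain ⟨x, rfl⟩ := hπ z
    exact ⟨x, fun w hw => (hres.ge (Subgroup.mem_top (⟨x, hz⟩ : H))) w hw, rfl⟩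
  have hTM' : (T' : Subgroup (Y ⧸ K)) ≤ M' := hT' ▸ Subgroup.map_mono hTW
  obtain ⟨B, hB, hBT, hB1, hquad, hbig, hover⟩ := step_over hψinj hN hF' T' M' hM'top hTM' hNJ hsub
  have hfix : W' ≤ fix ψ B := by
    intro w hw b hb
    have hbJ : b ∈ offJoin 𝒪' (T' : Subgroup (Y ⧸ K)) := le_offJoin hB hBT hb
    rw [hJ'] at hbJ
    obtain ⟨j, hj, rfl⟩ := hbJ
    exact (hstab j).2 (hJW hj) w hw
  have hcfg : Cfg ψ T' W' M' B :=
    { inj := hψinj
      two := fun v => Subtype.ext (h2 v)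
      gen := hgen'
      proper := hM'top
      stabW := fun m hm w hw => by
        obtain ⟨x, hx, rfl⟩ := hm
        exact (hnrm x).2 hx w hw
      hTM := hTM'
      hNT := (hF'.normalizer_le _).trans hNJ
      hBT := hBT
      ne := hB1
      sq := hF'.sq B hB
      quad := hquad
      big := hbig
      ovr := hover
      fixW := hfix
      str := hstr' }
  exact hfree (involves_of_hom π hπ hcfg.involves)

/-- Pushing up. -/
theorem push {φ : X →* MulAut V} {𝒪 : Set (Subgroup X)} (h2 : ∀ v : V, v * v = 1) (hfree : ¬ Involves P3 X)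
    (hF : Fam φ 𝒪) (T : Sylow 2 X) (W : Subgroup V) (hTW : (T : Subgroup X) ≤ nrm φ W)
    (hJW : offJoin 𝒪 (T : Subgroup X) ≤ stab φ W) (hstr : Strict φ (T : Subgroup X) W)
    (hNW : Subgroup.normalizer (offJoin 𝒪 (T : Subgroup X) : Set X) ≤ nrm φ W) : nrm φ W = ⊤ :=
  push_aux _ X rfl V φ 𝒪 T W h2 hfree hF hTW hJW hstr hNW

end CfsgLib.S3Free
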