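import Cfsg.Prelude.Def_LocalEven
import Cfsg.Prelude.Def_KGroupFacts
import Cfsg.Agent.Lib.Suzuki.Aut
import Cfsg.Agent.Lib.Suzuki.Lie
import Cfsg.Agent.Lib.Suzuki.TorusFamily
import Cfsg.Agent.Lib.PSL2.Out
import Cfsg.Agent.Lib.PSL2Klein
import Cfsg.Agent.S0276
import Cfsg.Agent.S2904

/-!
The facts about `Sz(q)` and `PSL₂(3^odd)` used for the squared offender bound.
-/

set_option autoImplicit false
set_option linter.unusedSectionVars false
set_option maxHeartbeats 1000000

namespace CfsgLib.S3Free.SmallFacts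

open Cfsg

universe u v

/-- What is needed about a Suzuki group `Y = Sz(2^f)`. -/
structure SzFacts (Y : Type u) [Group Y] (r f : ℕ) : Prop where
  prime : r.Prime
  ne_two : r ≠ 2
  big : ∀ j, 0 < j → r ∣ 2 ^ j - 1 → 4 * f ≤ j
  inner : ∀ τ : MulAut Y, τ * τ = 1 → ∃ y, τ = MulAut.conj y
  rank : ∀ T : Subgroup Y, (∀ t ∈ T, t * t = 1) → Nat.card T ≤ 2 ^ f
  inverted : ∀ a : Y, a ≠ 1 → a * a = 1 → ∃ x, orderOf x = r ∧ a * x * a⁻¹ = x⁻¹

/-- What is needed about a group `Y = PSL₂(3^f)` with `f` odd. -/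
structure LFacts (Y : Type u) [Group Y] : Prop where
  outer : ∀ τ : MulAut Y, τ * τ = 1 → (∀ y, τ ≠ MulAut.conj y) → ∃ x, orderOf x = 3 ∧ τ x = x⁻¹
  rank : ∀ T : Subgroup Y, (∀ t ∈ T, t * t = 1) → Nat.card T ≤ 4
  cent : ∀ a b : Y, a ≠ 1 → b ≠ 1 → a ≠ b → a * a = 1 → b * b = 1 → a * b = b * a →
    ∃ c : Y, Odd (orderOf c) ∧ c ≠ 1 ∧ c * b = b * c ∧ a * c * a⁻¹ = c⁻¹

section transfer

variable {Y : Type u} [Group Y] {Z : Type v} [Group Z] (e : Y ≃* Z)
include e

theorem inner_transfer {σ : MulAut Z} {τ : MulAut Y} (hσ : σ = (e.symm.trans τ).trans e) {z : Z}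
    (hz : σ = MulAut.conj z) : τ = MulAut.conj (e.symm z) := by
  refine MulEquiv.ext fun y => ?_
  have h := MulEquiv.congr_fun hz (e y)
  rw [hσ] at h
  simp only [MulEquiv.trans_apply, MulEquiv.symm_apply_apply, MulAut.conj_apply] at h
  rw [MulAut.conj_apply]
  have h' := congrArg e.symm h
  simpa using h'

theorem sq_transfer {τ : MulAut Y} (hτ : τ * τ = 1) :
    ((e.symm.trans τ).trans e : MulAut Z) * ((e.symm.trans τ).trans e) = 1 := by
  refine MulEquiv.ext fun z => ?_
  show e (τ (e.symm (e (τ (e.symm z))))) = z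
  rw [e.symm_apply_apply, ← MulAut.mul_apply, hτ, MulAut.one_apply, e.apply_symm_apply]

theorem SzFacts.transfer {r f : ℕ} (h : SzFacts Z r f) : SzFacts Y r f where
  prime := h.prime
  ne_two := h.ne_two
  big := h.big
  inner τ hτ := by
    obtain ⟨z, hz⟩ := h.inner _ (sq_transfer e hτ)
    exact ⟨_, inner_transfer e rfl hz⟩
  rank T hT := by
    rw [← Subgroup.card_map_of_injective (f := e.toMonoidHom) e.injective]
    refine h.rank _ ?_
    rintro _ ⟨t, ht, rfl⟩
    rw [← map_mul, hT t ht, map_one]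
  inverted a ha1 ha := by
    obtain ⟨x, hx, hax⟩ := h.inverted (e a) (by simpa using ha1) (by rw [← map_mul, ha, map_one])
    refine ⟨e.symm x, by rw [MulEquiv.orderOf_eq, hx], e.injective ?_⟩
    simpa using hax

theorem LFacts.transfer (h : LFacts Z) : LFacts Y where
  outer τ hτ hout := by
    obtain ⟨x, hx, hx'⟩ := h.outer _ (sq_transfer e hτ) fun z hz => hout _ (inner_transfer e rfl hz)
    refine ⟨e.symm x, by rw [MulEquiv.orderOf_eq, hx], e.injective ?_⟩
    simpa using hx'
  rank T hT := by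
    rw [← Subgroup.card_map_of_injective (f := e.toMonoidHom) e.injective]
    refine h.rank _ ?_
    rintro _ ⟨t, ht, rfl⟩
    rw [← map_mul, hT t ht, map_one]
  cent a b ha1 hb1 hab ha hb hc := by
    obtain ⟨c, hco, hc1, hcb, hca⟩ := h.cent (e a) (e b) (by simpa using ha1) (by simpa using hb1)
      (by simpa using hab) (by rw [← map_mul, ha, map_one]) (by rw [← map_mul, hb, map_one])
      (by rw [← map_mul, hc, map_mul])
    refine ⟨e.symm c, by rwa [MulEquiv.orderOf_eq], by simpa using hc1, e.injective ?_, e.injective ?_⟩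
    · simpa using hcb
    · simpa using hca

end transfer

section suzuki

open CfsgLib.Suzuki

variable {F : Type*} [Field F] [Fintype F] {m : ℕ} (hF : Fintype.card F = 2 ^ (2 * m + 1))
include hF

/-- An involution is conjugate to every other. -/
theorem sz_involution {a : ↥(Cfsg.Sz F m)} (hm : 1 ≤ m) (h1 : a ≠ 1) (h2 : a * a = 1) :
    ∃ g : ↥(Cfsg.Sz F m), g⁻¹ * a * g = uS hF 0 1 := by
  obtain ⟨-, k, hk⟩ := invol_unip hF hm h1 h2
  obtain ⟨x, y, hxy⟩ := (mem_U hF).1 hk
  have hsq : uS hF x y * uS hF x y = 1 := by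
    rw [← hxy]
    simp [mul_assoc]
    rw [← mul_assoc a a, h2, one_mul, inv_mul_cancel]
  rw [uS_mul, ← uS_zero hF] at hsq
  have h20 := two_eq_zero hF
  have hx : x = 0 := by
    have e := (uS_inj hF hsq).2
    have e' : th m x * x = 0 := by linear_combination e - y * h20
    rcases mul_eq_zero.1 e' with h | h
    · exact th_eq_zero_iff.1 h
    · exact h
  subst hx
  have hy : y ≠ 0 := by
    rintro rfl
    rw [uS_zero] at hxy
    refine h1 ?_
    have := congrArg (fun w => k * w * k⁻¹) hxy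
    simpa [mul_assoc] using this
  obtain ⟨t, ht⟩ := th_sq_surj hF hy
  refine ⟨k * dS hF t, ?_⟩
  have e : dS hF t * uS hF 0 1 * (dS hF t)⁻¹ = uS hF 0 y := by rw [dS_uS, mul_zero, mul_one, ht]
  rw [← e] at hxy
  calc (k * dS hF t)⁻¹ * a * (k * dS hF t) = (dS hF t)⁻¹ * (k⁻¹ * a * k) * dS hF t := by group
    _ = uS hF 0 1 := by rw [hxy]; group

theorem sz_facts (hm : 1 ≤ m) : ∃ r, SzFacts ↥(Cfsg.Sz F m) r (2 * m + 1) := by
  classical
  haveI : Fact (Nat.Prime 2) := ⟨Nat.prime_two⟩
  set f := 2 * m + 1 with hf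
  obtain ⟨r, hr, hdvd, hprim⟩ := Cfsg.Agent.S2904.result 2 (4 * f) one_lt_two (by omega) (by omega)
    (by omega)
  haveI : Fact r.Prime := ⟨hr⟩
  have hr2 : r ≠ 2 := by
    rintro rfl
    have h1 : 2 ∣ 2 ^ (4 * f) := dvd_pow_self 2 (by omega)
    have h2 : 1 ≤ 2 ^ (4 * f) := Nat.one_le_two_pow
    omega
  have hbig : ∀ j, 0 < j → r ∣ 2 ^ j - 1 → 4 * f ≤ j := fun j hj hd => by
    by_contra h
    exact hprim j hj (by omega) hd
  have hq : r ∣ (2 ^ f) ^ 2 + 1 := by
    have hsplit : 2 ^ (4 * f) - 1 = (2 ^ (2 * f) + 1) * (2 ^ (2 * f) - 1) := by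
      rw [show 4 * f = 2 * (2 * f) by ring, mul_comm 2 (2 * f), pow_mul]
      rw [show (1 : ℕ) = 1 ^ 2 from rfl, Nat.sq_sub_sq, one_pow]
    rw [hsplit] at hdvd
    rcases hr.dvd_mul.1 hdvd with h | h
    · rwa [← pow_mul, mul_comm f 2]
    · exact absurd h (hprim (2 * f) (by omega) (by omega))
  -- inner
  have hout : ∀ τ : MulAut ↥(Cfsg.Sz F m), τ * τ = 1 → ∃ y, τ = MulAut.conj y := by
    intro τ hτ
    set o : Cfsg.Out ↥(Cfsg.Sz F m) := QuotientGroup.mk τ
    have h2 : o ^ 2 = 1 := by
      rw [sq, ← QuotientGroup.mk_mul, hτ, QuotientGroup.mk_one]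
    haveI : Finite (Cfsg.Out ↥(Cfsg.Sz F m)) := Nat.finite_of_card_ne_zero (by rw [card_out hF hm]; omega)
    have h3 : o ^ (2 * m + 1) = 1 := by rw [← card_out hF hm]; exact pow_card_eq_one'
    have ho : o = 1 := by
      rw [pow_succ, pow_mul, h2, one_pow, one_mul] at h3
      exact h3
    obtain ⟨y, hy⟩ := (QuotientGroup.eq_one_iff _).1 ho
    exact ⟨y, hy.symm⟩
  -- rank
  have hrank : ∀ T : Subgroup ↥(Cfsg.Sz F m), (∀ t ∈ T, t * t = 1) → Nat.card T ≤ 2 ^ f := by
    intro T hT
    have hTp : IsPGroup 2 T := fun a =>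
      ⟨1, Subtype.ext (by rw [SubmonoidClass.coe_pow, pow_one, sq]; exact hT a a.2)⟩
    obtain ⟨P, hP⟩ := hTp.exists_le_sylow
    obtain ⟨g, hg⟩ := exists_conj_eq hF hm P
    have hle : T ≤ (Z hF).map (MulAut.conj g).toMonoidHom := by
      intro t ht
      obtain ⟨u, hu, hut⟩ := hg.le (hP ht)
      refine ⟨u, ?_, hut⟩
      obtain ⟨x, y, rfl⟩ := (mem_U hF).1 hu
      have h : MulAut.conj g (uS hF x y * uS hF x y) = 1 := by
        rw [map_mul]
        change (MulAut.conj g).toMonoidHom _ * (MulAut.conj g).toMonoidHom _ = 1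
        rw [hut]
        exact hT t ht
      rw [EmbeddingLike.map_eq_one_iff, uS_mul, ← uS_zero hF] at h
      have h20 := two_eq_zero hF
      have e := (uS_inj hF h).2
      have e' : th m x * x = 0 := by linear_combination e - y * h20
      have hx : x = 0 := by
        rcases mul_eq_zero.1 e' with h | h
        · exact th_eq_zero_iff.1 h
        · exact h
      exact (mem_Z hF).2 ⟨y, by rw [hx]⟩
    calc Nat.card T ≤ Nat.card ((Z hF).map (MulAut.conj g).toMonoidHom) := Subgroup.card_le_of_le hle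
      _ = 2 ^ f := by rw [Subgroup.card_map_of_injective (MulAut.conj g).injective, card_Z]
  -- an element of order `r`
  have hrS : r ∣ Nat.card ↥(Cfsg.Sz F m) := by
    rw [card_Sz hF hm]
    exact hq.trans (Dvd.intro_left _ rfl |>.trans (dvd_mul_right _ _))
  obtain ⟨x, hx⟩ := exists_prime_orderOf_dvd_card' r hrS
  have hx1 : x ≠ 1 := fun e => hr.one_lt.ne' (by rw [← hx, e, orderOf_one])
  have hss : SS hF x := by
    refine ⟨hx1, fun h => ?_⟩
    have h1 := orderOf_dvd_of_conjSet (U hF) h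
    rw [hx, card_U, ← pow_mul] at h1
    exact hr2 ((Nat.prime_dvd_prime_iff_eq hr Nat.prime_two).1 (hr.dvd_of_dvd_pow h1))
  obtain ⟨c, hc, hcyc, hord, hN⟩ := ss_data hF hm hss
  set C := Subgroup.centralizer ({x} : Set ↥(Cfsg.Sz F m)) with hC
  set N := Subgroup.normalizer (C : Set ↥(Cfsg.Sz F m))
  have hCodd : ¬ 2 ∣ Nat.card C := (torusOrder_props hF hm hord).2.2.1
  obtain ⟨⟨j, hjN⟩, hj⟩ := exists_prime_orderOf_dvd_card' 2 (G := N) (by
    rw [hN]; exact Dvd.dvd.mul_right (by rcases hc with h | h <;> rw [h] <;> decide) _)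
  rw [← Subgroup.orderOf_coe] at hj
  simp only at hj
  have hj2 : j * j = 1 := by rw [← sq, ← hj, pow_orderOf_eq_one]
  have hj1 : j ≠ 1 := fun e => by rw [e, orderOf_one] at hj; omega
  have hji : j⁻¹ = j := inv_eq_of_mul_eq_one_right hj2
  have hxC : x ∈ C := Subgroup.mem_centralizer_singleton_iff.2 rfl
  have hxj : j * x * j⁻¹ ∈ C := (Subgroup.mem_normalizer_iff.1 hjN x).1 hxC
  have hinv : j * x * j⁻¹ = x⁻¹ := by
    set t := x * (j * x * j⁻¹) with ht
    have hcomm : x * (j * x * j⁻¹) = j * x * j⁻¹ * x :=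
      (Subgroup.mem_centralizer_singleton_iff.1 hxj).symm
    have htj : j * t = t * j := by
      have e : j * t * j⁻¹ = t := by
        rw [ht]
        calc j * (x * (j * x * j⁻¹)) * j⁻¹ = j * x * (j * x * (j⁻¹ * j⁻¹)) := by group
          _ = j * x * j * x := by rw [hji, hj2, mul_one, ← mul_assoc]
          _ = j * x * j⁻¹ * x := by rw [hji]
          _ = x * (j * x * j⁻¹) := hcomm.symm
      calc j * t = j * t * j⁻¹ * j := by group
        _ = t * j := by rw [e]
    by_contra hne
    have ht1 : t ≠ 1 := fun e => hne (eq_inv_of_mul_eq_one_right e)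
    obtain ⟨-, hCt⟩ := ss_centralizer_eq hF hm hss (C.mul_mem hxC hxj) ht1
    have hjC : j ∈ C := hCt.le (Subgroup.mem_centralizer_singleton_iff.2 htj)
    exact hCodd (hj ▸ Subgroup.orderOf_dvd_natCard _ hjC)
  refine ⟨r, ⟨hr, hr2, hbig, hout, hrank, fun a ha1 ha => ?_⟩⟩
  obtain ⟨g, hg⟩ := sz_involution hF hm ha1 ha
  obtain ⟨h, hh⟩ := sz_involution hF hm hj1 hj2
  set k := g * h⁻¹
  have hka : k * j * k⁻¹ = a := by
    calc k * j * k⁻¹ = g * (h⁻¹ * j * h) * g⁻¹ := by simp only [k]; group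
      _ = a := by rw [hh, ← hg]; group
  refine ⟨MulAut.conj k x, by rw [MulEquiv.orderOf_eq, hx], ?_⟩
  rw [← map_inv, ← hinv, ← hka]
  simp only [MulAut.conj_apply]
  group

end suzuki

section psl

open CfsgLib.PSL2 Matrix

variable {F : Type} [Field F] [Fintype F] {n : ℕ} (hF : Fintype.card F = 3 ^ (2 * n + 1))
include hF

local notation "M2" => Matrix (Fin 2) (Fin 2) F
local notation "SL2" => Matrix.SpecialLinearGroup (Fin 2) F
local notation "PSL" => Matrix.ProjectiveSpecialLinearGroup (Fin 2) F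

theorem card_mod : Fintype.card F % 8 = 3 ∧ Fintype.card F % 4 = 3 := by
  have h : Fintype.card F % 8 = 3 := by
    rw [hF, pow_succ, pow_mul, Nat.mul_mod, Nat.pow_mod]
    norm_num
  exact ⟨h, by omega⟩

theorem charP_three : CharP F 3 := by
  obtain ⟨p, hp⟩ := CharP.exists F
  obtain ⟨k, hk, hk'⟩ := FiniteField.card F p
  have : p = 3 := by
    have h3 : p ∣ 3 ^ (2 * n + 1) := by rw [← hF, hk']; exact dvd_pow_self _ k.2.ne'
    exact (Nat.prime_dvd_prime_iff_eq hk Nat.prime_three).1 (hk.dvd_of_dvd_pow h3)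
  exact this ▸ hp

theorem two_ne : (2 : F) ≠ 0 := CfsgLib.SL2Orders.two_ne_zero_of_odd (by rw [hF]; exact (by decide : Odd 3).pow)

omit [Fintype F] hF in
theorem mat_sq (M : M2) : M * M = M.trace • M - M.det • (1 : M2) := by
  ext i j
  fin_cases i <;> fin_cases j <;>
    simp [Matrix.mul_apply, Matrix.trace_fin_two, Matrix.det_fin_two, Fin.sum_univ_two] <;> ring

theorem one_le_of_simple [IsSimpleGroup PSL] (hna : ¬ IsMulCommutative PSL) : 1 ≤ n := by
  classical
  rcases Nat.eq_zero_or_pos n with rfl | h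
  swap
  · exact h
  exfalso
  have hq : Fintype.card F = 3 := by simpa using hF
  have hcard : Nat.card SL2 = 24 := by
    rw [CfsgLib.SLCard.card_SL_two (F := F), hq]
    norm_num
  have hV := CfsgLib.PSL2Klein.twelve_mul_card (F := F) (two_ne hF)
  rw [hcard] at hV
  have h1 : Nat.card {V : Subgroup PSL // IsKleinFour V} = 1 := by omega
  obtain ⟨hsub, ⟨V, hV⟩⟩ := Nat.card_eq_one_iff_unique.1 h1
  have hn : V.Normal := by
    refine ⟨fun v hv g => ?_⟩
    have hK : IsKleinFour (V.map (MulAut.conj g).toMonoidHom) := by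
      haveI := hV
      exact ⟨by rw [Subgroup.card_map_of_injective (MulAut.conj g).injective]; exact IsKleinFour.card_four,
        by rw [← Monoid.exponent_eq_of_mulEquiv (V.equivMapOfInjective _ (MulAut.conj g).injective)]
           exact IsKleinFour.exponent_two⟩
    have e : V.map (MulAut.conj g).toMonoidHom = V :=
      congrArg Subtype.val (Subsingleton.elim (⟨_, hK⟩ : {V : Subgroup PSL // IsKleinFour V}) ⟨V, hV⟩)
    exact e.le ⟨v, hv, rfl⟩
  rcases hn.eq_bot_or_eq_top with e | e
  · have := hV.card_four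
    rw [e, Subgroup.card_bot] at this
    omega
  · haveI := hV
    refine hna ⟨⟨fun a b => ?_⟩⟩
    have := mul_comm_of_exponent_two (G := V) IsKleinFour.exponent_two ⟨a, e ▸ Subgroup.mem_top a⟩
      ⟨b, e ▸ Subgroup.mem_top b⟩
    exact congrArg Subtype.val this

theorem psl_facts (hn : 1 ≤ n) : LFacts PSL := by
  classical
  haveI := charP_three hF
  haveI : Fact (Nat.Prime 3) := ⟨Nat.prime_three⟩
  haveI : Fact (Nat.Prime 2) := ⟨Nat.prime_two⟩
  have h2 := two_ne hF
  obtain ⟨hq8, hq4⟩ := card_mod hF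
  refine ⟨?_, ?_, ?_⟩
  · -- an outer involutory automorphism
    intro τ hτ hout
    have hfp : fieldPart 3 τ = 1 := by
      have hsq : fieldPart 3 τ ^ 2 = 1 := by rw [sq, ← map_mul, hτ, map_one]
      have hfr : fieldPart 3 τ ^ (2 * n + 1) = 1 := by
        letI : Algebra (ZMod 3) F := ZMod.algebra F 3
        let σ : F ≃ₐ[ZMod 3] F := AlgEquiv.ofRingEquiv (f := (fieldPart 3 τ : F ≃+* F)) fun c =>
          RingHom.congr_fun (Subsingleton.elim
            ((fieldPart 3 τ : F ≃+* F).toRingHom.comp (algebraMap (ZMod 3) F)) (algebraMap (ZMod 3) F)) c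
        have hdeg : Module.finrank (ZMod 3) F = 2 * n + 1 := by
          have h1 := Module.card_eq_pow_finrank (K := ZMod 3) (V := F)
          rw [hF, ZMod.card] at h1
          exact (Nat.pow_right_injective (by norm_num) h1).symm
        have hσ : σ ^ (2 * n + 1) = 1 := by
          rw [← hdeg, ← IsGalois.card_aut_eq_finrank]
          exact pow_card_eq_one'
        refine RingEquiv.ext fun x => ?_
        have key : ∀ k : ℕ, ∀ y : F, (fieldPart 3 τ ^ k) y = (σ ^ k) y := by
          intro k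
          induction k with
          | zero => intro y; rfl
          | succ k ih => intro y; rw [pow_succ, pow_succ]; exact ih _
        rw [key, hσ]
        rfl
      rw [pow_succ, pow_mul, hsq, one_pow, one_mul] at hfr
      exact hfr
    obtain ⟨g, rfl⟩ := exists_of_fieldPart_eq_one 3 hfp
    have hdet : ¬ IsSquare (g.1.det) := by
      rintro ⟨r, hr⟩
      have hr0 : r ≠ 0 := by
        rintro rfl
        rw [mul_zero] at hr
        exact ((Matrix.isUnit_iff_isUnit_det _).mp g.isUnit).ne_zero hr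
      let A : SL2 := ⟨r⁻¹ • g.1, by
        rw [Matrix.det_smul, hr]; simp; field_simp⟩
      let s : GL (Fin 2) F := Matrix.GeneralLinearGroup.mkOfDetNeZero (Matrix.scalar (Fin 2) r)
        (by simp [hr0])
      have hg : g = s * SpecialLinearGroup.toGL A := by
        refine Units.ext ?_
        show g.1 = Matrix.scalar (Fin 2) r * (r⁻¹ • g.1)
        rw [Matrix.scalar_apply, ← Matrix.smul_eq_diagonal_mul, smul_smul, mul_inv_cancel₀ hr0, one_smul]
      exact hout (mk A) (by rw [hg, map_mul, diagAut_scalar s r rfl, one_mul, diagAut_toGL])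
    have hns : ∀ r : F, g.1 ≠ r • (1 : M2) := by
      intro r e
      exact hdet ⟨r, by rw [e, Matrix.det_smul]; simp [sq]⟩
    have htr : g.1.trace = 0 := by
      have h1 : diagAut (g * g) = fieldAut (RingEquiv.refl F) := by rw [map_mul, hτ, fieldAut_refl]
      obtain ⟨-, r, hr⟩ := scalar_of_fix _ _ h1
      rw [Units.val_mul, mat_sq] at hr
      by_contra htr
      refine hns ((r + g.1.det) / g.1.trace) ?_
      rw [Matrix.scalar_apply, ← Matrix.smul_one_eq_diagonal, sub_eq_iff_eq_add, ← add_smul] at hr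
      rw [div_eq_inv_mul, ← smul_smul, ← hr, smul_smul, inv_mul_cancel₀ htr, one_smul]
    set d := g.1.det with hd
    obtain ⟨s, hs⟩ : IsSquare (-d) := by
      have hd0 : d ≠ 0 := ((Matrix.isUnit_iff_isUnit_det _).mp g.isUnit).ne_zero
      have hm1 : ¬ IsSquare (-1 : F) := fun h => FiniteField.isSquare_neg_one_iff.mp h hq4
      rw [← quadraticChar_one_iff_isSquare (neg_ne_zero.2 hd0), neg_eq_neg_one_mul, map_mul,
        quadraticChar_neg_one_iff_not_isSquare.2 hm1, quadraticChar_neg_one_iff_not_isSquare.2 hdet]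
      norm_num
    set P : M2 := g.1 + s • 1 with hP
    set Q : M2 := g.1 - s • 1 with hQ
    have hgg : g.1 * g.1 = (s * s) • (1 : M2) := by
      rw [mat_sq, htr, zero_smul, zero_sub, ← hd, ← hs, neg_smul]
    have hgP : g.1 * P = s • P := by
      rw [hP, mul_add, mul_smul_comm, mul_one, hgg, smul_add, smul_smul, add_comm]
    have hQg : Q * g.1 = (-s) • Q := by
      rw [hQ, sub_mul, smul_mul_assoc, one_mul, hgg, smul_sub, smul_smul, neg_mul, neg_smul, neg_smul]
      abel
    have hQP : Q * P = 0 := by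
      rw [hP, mul_add, hQg, mul_smul_comm, mul_one, neg_smul, neg_add_cancel]
    obtain ⟨i, j, hij⟩ : ∃ i j, P i j ≠ 0 := by
      by_contra hall
      push Not at hall
      refine hns (-s) ?_
      have : P = 0 := Matrix.ext hall
      rw [hP, add_eq_zero_iff_eq_neg, ← neg_smul] at this
      exact this
    obtain ⟨k, l, hkl⟩ : ∃ k l, Q k l ≠ 0 := by
      by_contra hall
      push Not at hall
      refine hns s ?_
      have : Q = 0 := Matrix.ext hall
      exact sub_eq_zero.1 this
    set N : M2 := P * Matrix.single j k 1 * Q with hN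
    have hN0 : N i l = P i j * Q k l := by
      rw [hN, Matrix.mul_apply, Fin.sum_univ_two]
      fin_cases j <;> fin_cases k <;> simp [Matrix.mul_apply, Matrix.single, Fin.sum_univ_two]
    have hN2 : N * N = 0 := by
      rw [hN, show P * Matrix.single j k 1 * Q * (P * Matrix.single j k 1 * Q) =
        P * Matrix.single j k 1 * (Q * P) * Matrix.single j k 1 * Q by simp only [mul_assoc], hQP]
      simp
    have hgN : g.1 * N = -(N * g.1) := by
      rw [hN, mul_assoc (P * _) Q, hQg, mul_smul_comm, ← mul_assoc, ← mul_assoc, hgP, smul_mul_assoc,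
        smul_mul_assoc, neg_smul, neg_neg]
    have htN : N.trace = 0 := by
      rw [hN, Matrix.trace_mul_comm, ← mul_assoc, hQP, zero_mul, Matrix.trace_zero]
    have hdet1 : (1 + N).det = 1 := by
      have hdN : N.det = 0 := by
        have := congrArg Matrix.det hN2
        simpa using this
      simp [Matrix.det_fin_two, Matrix.trace_fin_two] at htN hdN ⊢
      linear_combination hdN + htN
    let U : SL2 := ⟨1 + N, hdet1⟩
    have hU3 : U ^ 3 = 1 := Subtype.ext (by
      show (1 + N) ^ 3 = 1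
      rw [show (1 + N) ^ 3 = 1 + 3 • N + 3 • (N * N) + N * N * N by noncomm_ring, hN2, smul_zero, zero_mul,
        add_zero, add_zero, nsmul_eq_mul, CharP.cast_eq_zero M2 3, zero_mul, add_zero])
    have hNne : N ≠ 0 := fun e => mul_ne_zero hij hkl (by rw [← hN0, e]; rfl)
    have hUi : U⁻¹.1 = 1 - N := by
      rw [Matrix.SpecialLinearGroup.coe_inv]
      show (1 + N).adjugate = 1 - N
      rw [Matrix.trace_fin_two] at htN
      rw [Matrix.adjugate_fin_two]
      ext i j
      fin_cases i <;> fin_cases j <;> simp <;> linear_combination htN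
    refine ⟨mk U, orderOf_eq_prime (by rw [← map_pow, hU3, map_one]) ?_, ?_⟩
    · intro e
      rw [← map_one (mk : SL2 →* PSL), mk_eq_mk] at e
      rcases e with e | e
      · exact hNne (by simpa [U] using e.symm)
      · have e' : (1 : M2) + 1 = -N := by
          have : (1 : M2) = -(1 + N) := by simpa [U] using e
          refine eq_neg_of_add_eq_zero_left ?_
          calc (1 : M2) + 1 + N = 1 + (1 + N) := by abel
            _ = 0 := add_eq_zero_iff_eq_neg.2 this
        have h4 := congrArg (fun X : M2 => X * X) e'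
        rw [neg_mul_neg, hN2] at h4
        have h5 := congrFun (congrFun h4 0) 0
        simp [Matrix.mul_apply, Fin.sum_univ_two] at h5
        exact h2 (by rw [← one_add_one_eq_two]; exact h5)
    · rw [diagAut_apply, ← map_inv]
      congr 1
      refine Subtype.ext ?_
      rw [coe_conjSL, hUi]
      show g.1 * (1 + N) * (g⁻¹).1 = 1 - N
      rw [mul_add, mul_one, hgN, add_mul, neg_mul, mul_assoc N, ← Units.val_mul, mul_inv_cancel,
        Units.val_one, mul_one, ← sub_eq_add_neg]
  · -- rank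
    intro T hT
    have hTp : IsPGroup 2 T := fun a =>
      ⟨1, Subtype.ext (by rw [SubmonoidClass.coe_pow, pow_one, sq]; exact hT a a.2)⟩
    obtain ⟨P, hP⟩ := hTp.exists_le_sylow
    have hK := Cfsg.Agent.S0276.result (F := F) rfl (Or.inl hq8) P
    exact (Subgroup.card_le_of_le hP).trans hK.card_four.le
  · intro a b ha1 hb1 hab ha hb hc
    obtain ⟨A, rfl⟩ := QuotientGroup.mk'_surjective _ a
    obtain ⟨B, rfl⟩ := QuotientGroup.mk'_surjective _ b
    have hA := (CfsgLib.PSL2Klein.invol_iff h2).1 ⟨ha1, ha⟩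
    have hB := (CfsgLib.PSL2Klein.invol_iff h2).1 ⟨hb1, hb⟩
    have hanti : A * B = -B * A := by
      rw [← map_mul, ← map_mul, CfsgLib.PSL2Klein.mk_eq_iff] at hc
      rcases hc with e | e
      · exfalso
        rcases CfsgLib.PSL2Klein.eq_or_eq_neg h2 hB hA e.symm with h | h
        · exact hab (by rw [h])
        · exact hab (CfsgLib.PSL2Klein.mk_eq_iff.2 (Or.inr (by rw [h, neg_neg])))
      · rw [neg_mul, e, neg_neg]
    set C := Subgroup.centralizer ({B} : Set SL2) with hC
    have hcard := CfsgLib.PSL2Klein.card_centralizer_three h2 hB hq4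
    have hq : 27 ≤ Fintype.card F := by
      rw [hF]
      calc (27 : ℕ) = 3 ^ 3 := by norm_num
        _ ≤ _ := Nat.pow_le_pow_right (by norm_num) (by omega)
    obtain ⟨p, hp, hpd⟩ := Nat.exists_prime_and_dvd
      (show (Fintype.card F + 1) / 4 ≠ 1 by omega)
    have hp2 : p ≠ 2 := by
      rintro rfl
      omega
    haveI : Fact p.Prime := ⟨hp⟩
    obtain ⟨⟨M, hMC⟩, hM⟩ := exists_prime_orderOf_dvd_card' p (G := C) (by
      rw [hcard]; exact hpd.trans (Nat.div_dvd_of_dvd (by omega)))
    rw [← Subgroup.orderOf_coe] at hM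
    simp only at hM
    have hMB : M * B = B * M := Subgroup.mem_centralizer_singleton_iff.1 hMC
    have htr : (A * M).1.trace = 0 := by
      refine CfsgLib.PSL2Klein.trace_of_anti h2 (g := B) ?_
      rw [mul_assoc, hMB, ← mul_assoc, hanti, mul_assoc]
    have hinv : A * M * A⁻¹ = M⁻¹ := by
      rw [mul_inv_eq_iff_eq_mul]
      refine Subtype.ext ?_
      simp only [Matrix.SpecialLinearGroup.coe_mul, Matrix.SpecialLinearGroup.coe_inv,
        Matrix.adjugate_fin_two] at htr ⊢
      rw [Matrix.trace_fin_two] at hA htr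
      ext i j
      fin_cases i <;> fin_cases j <;>
        simp [Matrix.mul_apply, Fin.sum_univ_two] at htr ⊢ <;> grind
    have hoM : orderOf (mk M) = p := by
      have h1 : orderOf (mk M) ∣ p := hM ▸ orderOf_map_dvd mk M
      rcases (Nat.dvd_prime hp).1 h1 with h | h
      · exfalso
        rw [orderOf_eq_one_iff, ← map_one (mk : SL2 →* PSL), mk_eq_mk] at h
        have hM2 : M * M = 1 := by
          rcases h with h | h
          · rw [Subtype.ext h.symm, mul_one]
          · have h' : M = -1 := Subtype.ext (by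
              show M.1 = -(1 : M2)
              rw [show (1 : M2) = -M.1 from h, neg_neg])
            rw [h', neg_mul_neg, mul_one]
        have := hM ▸ orderOf_dvd_of_pow_eq_one (show M ^ 2 = 1 by rw [sq]; exact hM2)
        exact hp2 ((Nat.prime_dvd_prime_iff_eq hp Nat.prime_two).1 this)
      · exact h
    refine ⟨mk M, ?_, ?_, ?_, ?_⟩
    · rw [hoM]; exact hp.odd_of_ne_two hp2
    · intro e
      rw [e, orderOf_one] at hoM
      exact hp.one_lt.ne hoM
    · exact (map_mul mk M B).symm.trans ((congrArg mk hMB).trans (map_mul mk B M))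
    · show mk A * mk M * (mk A)⁻¹ = (mk M)⁻¹
      rw [← map_inv, ← map_mul, ← map_mul, hinv, map_inv]

end psl

/-- The dichotomy. -/
theorem facts {Y : Type u} [Group Y] [IsSimpleGroup Y] (hna : ¬ IsMulCommutative Y)
    (h : IsSuzukiOrPSL2OddPowerThree Y) : (∃ r f, SzFacts Y r f) ∨ LFacts Y := by
  rcases h with ⟨F, iF, iF', m, hm, hF, ⟨e⟩⟩ | ⟨F, iF, iF', n, hF, ⟨e⟩⟩
  · obtain ⟨r, hr⟩ := sz_facts hF hm
    exact Or.inl ⟨r, _, hr.transfer (e.trans (CfsgLib.Suzuki.lieEquiv hF hm).symm)⟩
  · haveI : Nontrivial (Matrix.ProjectiveSpecialLinearGroup (Fin 2) F) := e.symm.toEquiv.nontrivial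
    haveI : IsSimpleGroup (Matrix.ProjectiveSpecialLinearGroup (Fin 2) F) := e.symm.isSimpleGroup
    refine Or.inr ((psl_facts hF (one_le_of_simple hF ?_)).transfer e)
    intro hc
    exact hna ⟨⟨fun a b => e.injective (by rw [map_mul, map_mul]; exact hc.1.comm _ _)⟩⟩

end CfsgLib.S3Free.SmallFacts
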