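import Cfsg.Agent.Lib.S3Free.TwoSingle
import Cfsg.Agent.Lib.CoprimeGen
import Cfsg.Agent.Lib.Basic

/-!
`|A|² |C_V(A)| ≤ |V|` for an elementary abelian 2-group `A` in a faithful linear group without section `S₃`,
without normal 2-subgroup, whose nonabelian composition factors are Suzuki groups or `PSL₂(3^odd)`.
-/

set_option autoImplicit false
set_option linter.unusedSectionVars false
set_option maxHeartbeats 1000000

namespace CfsgLib.S3Free.TwoF

open CfsgLib CfsgLib.Local CfsgLib.OffenderTwo Cfsg CfsgLib.S3Free CfsgLib.S3Free.SmallFacts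

universe u v

variable {X : Type u} [Group X] [Finite X]

/-- Transport of the type of the simple quotient. -/
theorem kind_transfer {Y : Type u} [Group Y] {Z : Type u} [Group Z] (e : Y ≃* Z)
    (h : IsSuzukiOrPSL2OddPowerThree Y) : IsSuzukiOrPSL2OddPowerThree Z := by
  rcases h with ⟨F, iF, iF', m, hm, hF, ⟨f⟩⟩ | ⟨F, iF, iF', n, hF, ⟨f⟩⟩
  · exact Or.inl ⟨F, iF, iF', m, hm, hF, ⟨e.symm.trans f⟩⟩
  · exact Or.inr ⟨F, iF, iF', n, hF, ⟨e.symm.trans f⟩⟩

/-- Components are good. -/
theorem good_of_component (hc : IsCompositionKGroupWith IsSuzukiOrPSL2OddPowerThree X) {S : Subgroup X}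
    (hS : IsComponent S) : Good S := by
  refine ⟨hS.2, hc S hS.1 (Subgroup.center S) hS.2.2 ?_⟩
  intro hcm
  haveI := hS.2.1
  haveI := hS.2.2
  letI : CommGroup (S ⧸ Subgroup.center S) :=
    { (inferInstance : Group (S ⧸ Subgroup.center S)) with mul_comm := fun a b => hcm.1.comm a b }
  have h1 : commutator S ≤ Subgroup.center S := by
    have := Abelianization.commutator_subset_ker (QuotientGroup.mk' (Subgroup.center S))
    rwa [QuotientGroup.ker_mk'] at this
  have h2 : Subgroup.center S = ⊤ := top_le_iff.1 fun x _ => h1 hS.2.1.mem_commutator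
  have := (inferInstance : Nontrivial (S ⧸ Subgroup.center S))
  rw [h2] at this
  exact not_subsingleton (S ⧸ (⊤ : Subgroup S)) QuotientGroup.subsingleton_quotient_top

/-- The image of a good subgroup under a homomorphism with central kernel. -/
theorem good_range {S : Subgroup X} (hS : Good S) (σ : S →* X) (hker : σ.ker ≤ Subgroup.center S) :
    Good σ.range := by
  haveI := hS.qs.1
  haveI := hS.qs.2
  let f : S →* σ.range := σ.rangeRestrict
  have hf : Function.Surjective f := σ.rangeRestrict_surjective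
  let q : S →* σ.range ⧸ Subgroup.center σ.range := (QuotientGroup.mk' _).comp f
  have hq : Function.Surjective q := (QuotientGroup.mk'_surjective _).comp hf
  have hqker : q.ker = Subgroup.center S := by
    refine le_antisymm ?_ fun z hz => ?_
    · rcases quasisimple_normal_le_center_or_eq_top hS.qs q.ker with h | h
      · exact h
      · exfalso
        refine hS.not_comm ⟨⟨fun a b => ?_⟩⟩
        obtain ⟨a, rfl⟩ := QuotientGroup.mk_surjective a
        obtain ⟨b, rfl⟩ := QuotientGroup.mk_surjective b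
        have hb : f b ∈ Subgroup.center σ.range := (QuotientGroup.eq_one_iff _).1 (h.ge (Subgroup.mem_top b) : q b = 1)
        rw [← QuotientGroup.mk_mul, ← QuotientGroup.mk_mul, QuotientGroup.eq]
        refine hker ?_
        have h1 := Subgroup.mem_center_iff.1 hb (f a)
        rw [← MonoidHom.ker_rangeRestrict σ, MonoidHom.mem_ker]
        show f ((a * b)⁻¹ * (b * a)) = 1
        rw [map_mul, map_inv, map_mul, map_mul, h1, inv_mul_cancel]
    · refine MonoidHom.mem_ker.2 ((QuotientGroup.eq_one_iff _).2 (Subgroup.mem_center_iff.2 fun g => ?_))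
      obtain ⟨s, rfl⟩ := hf g
      rw [← map_mul, ← map_mul, Subgroup.mem_center_iff.1 hz s]
  let e : S ⧸ Subgroup.center S ≃* σ.range ⧸ Subgroup.center σ.range :=
    (QuotientGroup.quotientMulEquivOfEq hqker.symm).trans (QuotientGroup.quotientKerEquivOfSurjective q hq)
  refine ⟨⟨?_, e.symm.isSimpleGroup⟩, kind_transfer e hS.kind⟩
  refine ⟨top_le_iff.1 ?_⟩
  refine le_trans ((MonoidHom.range_eq_map f).symm.trans (MonoidHom.range_eq_top.2 hf)).ge ?_
  calc (⊤ : Subgroup S).map f = (commutator S).map f := by rw [hS.qs.1.commutator_eq_top]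
    _ ≤ commutator σ.range := by
      rw [commutator_def, Subgroup.map_commutator, commutator_def]
      exact Subgroup.commutator_mono le_top le_top

omit [Finite X] in
/-- A complement in an elementary abelian 2-group. -/
theorem exists_complement [Finite X] {A D : Subgroup X} (hA : ∀ a ∈ A, a * a = 1) (hD : D ≤ A) :
    ∃ T : Subgroup X, T ≤ A ∧ T ⊓ D = ⊥ ∧ D ⊔ T = A := by
  classical
  obtain ⟨T, ⟨hTA, hT⟩, hmax⟩ := Set.exists_max_image {T : Subgroup X | T ≤ A ∧ T ⊓ D = ⊥}
    (fun T => Nat.card T) (Set.toFinite _) ⟨⊥, bot_le, bot_inf_eq _⟩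
  refine ⟨T, hTA, hT, le_antisymm (sup_le hD hTA) fun q hq => ?_⟩
  by_contra hqn
  have hqT : q ∉ T := fun h => hqn (Subgroup.mem_sup_right h)
  have h2 := card_sup_zpowers hA hTA hq hqT
  have hle : T ⊔ Subgroup.zpowers q ≤ A := sup_le hTA (Subgroup.zpowers_le.2 hq)
  have hcomm : ∀ a ∈ A, ∀ b ∈ A, a * b = b * a := fun a ha b hb => by
    have h := inv_eq_of_mul_eq_one_right (hA _ (A.mul_mem ha hb))
    rwa [mul_inv_rev, inv_eq_of_mul_eq_one_right (hA a ha), inv_eq_of_mul_eq_one_right (hA b hb), eq_comm] at h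
  have hint : (T ⊔ Subgroup.zpowers q) ⊓ D = ⊥ := by
    refine (Subgroup.eq_bot_iff_forall _).2 fun x ⟨hx, hxD⟩ => ?_
    have hnorm : Subgroup.zpowers q ≤ Subgroup.normalizer (T : Set X) := by
      refine Subgroup.zpowers_le.2 (Subgroup.mem_normalizer_iff.2 fun t => ?_)
      constructor
      · intro ht
        rw [hcomm q hq t (hTA ht), mul_inv_cancel_right]; exact ht
      · intro ht
        have htA : t ∈ A := by
          have := A.mul_mem (A.mul_mem (A.inv_mem hq) (hTA ht)) hq
          simpa [mul_assoc] using this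
        rwa [hcomm q hq t htA, mul_inv_cancel_right] at ht
    replace hx : x ∈ ((T ⊔ Subgroup.zpowers q : Subgroup X) : Set X) := hx
    rw [Subgroup.coe_mul_of_right_le_normalizer_left _ _ hnorm] at hx
    obtain ⟨t, ht, w, hw, rfl⟩ := hx
    obtain ⟨i, rfl⟩ := Subgroup.mem_zpowers_iff.1 hw
    rcases Int.even_or_odd i with ⟨j, rfl⟩ | ⟨j, rfl⟩
    · have he : q ^ (j + j) = 1 := by rw [← two_mul, zpow_mul, zpow_ofNat, sq, hA q hq, one_zpow]
      simp only [he, mul_one] at hxD ⊢
      exact (Subgroup.eq_bot_iff_forall _).1 hT t ⟨ht, hxD⟩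
    · have he : q ^ (2 * j + 1) = q := by
        rw [zpow_add, zpow_mul, zpow_ofNat, sq, hA q hq, one_zpow, one_mul, zpow_one]
      simp only [he] at hxD
      refine absurd ?_ hqn
      have := Subgroup.mul_mem (D ⊔ T) (Subgroup.mem_sup_right (T.inv_mem ht)) (Subgroup.mem_sup_left hxD)
      rwa [inv_mul_cancel_left] at this
  have := hmax _ ⟨hle, hint⟩
  rw [h2] at this
  have := Nat.card_pos (α := T)
  omega

/-- A hyperplane over a proper subgroup. -/
theorem exists_hyperplane {A D : Subgroup X} (hA : ∀ a ∈ A, a * a = 1) (hD : D < A) :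
    ∃ B : Subgroup X, D ≤ B ∧ B ≤ A ∧ Nat.card A = 2 * Nat.card B := by
  obtain ⟨B, ⟨hDB, hBA⟩, hmax⟩ := Set.exists_max_image {B : Subgroup X | D ≤ B ∧ B < A}
    (fun B => Nat.card B) (Set.toFinite _) ⟨D, le_rfl, hD⟩
  obtain ⟨q, hq, hqB⟩ := SetLike.exists_of_lt hBA
  refine ⟨B, hDB, hBA.le, ?_⟩
  rw [← card_sup_zpowers hA hBA.le hq hqB]
  have hle : B ⊔ Subgroup.zpowers q ≤ A := sup_le hBA.le (Subgroup.zpowers_le.2 hq)
  suffices e : A = B ⊔ Subgroup.zpowers q by rw [← e]
  by_contra hne
  have hlt : B ⊔ Subgroup.zpowers q < A := lt_of_le_of_ne hle (Ne.symm hne)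
  have := hmax _ ⟨hDB.trans le_sup_left, hlt⟩
  rw [card_sup_zpowers hA hBA.le hq hqB] at this
  have := Nat.card_pos (α := B)
  omega

/-- A group of involutions of order four is not cyclic. -/
theorem not_isCyclic {A : Subgroup X} (hA : ∀ a ∈ A, a * a = 1) (h : 2 < Nat.card A) : ¬ IsCyclic A := by
  intro hc
  obtain ⟨g, hg⟩ := hc.exists_generator
  have : Nat.card A ≤ 2 := by
    rw [← orderOf_eq_card_of_forall_mem_zpowers hg]
    exact orderOf_le_of_pow_eq_one two_pos (by rw [sq]; exact Subtype.ext (hA g g.2))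
  omega

variable (hfree : ¬ Involves P3 X)
  (hO : pCore 2 X = ⊥) (hc : IsCompositionKGroupWith IsSuzukiOrPSL2OddPowerThree X)
include hfree hO hc

/-- Some proper subgroup carries the bound. -/
theorem exists_inverted {A : Subgroup X} (hA : ∀ a ∈ A, a * a = 1) (hA1 : A ≠ ⊥) :
    ∃ B, B < A ∧ Inverted A B := by
  classical
  haveI : Fact (Nat.Prime 2) := ⟨Nat.prime_two⟩
  have hcomm : ∀ a ∈ A, ∀ b ∈ A, a * b = b * a := fun a ha b hb => by
    have h := inv_eq_of_mul_eq_one_right (hA _ (A.mul_mem ha hb))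
    rwa [mul_inv_rev, inv_eq_of_mul_eq_one_right (hA a ha), inv_eq_of_mul_eq_one_right (hA b hb), eq_comm] at h
  by_cases hcore : ∃ (B : Subgroup X) (_ : B ≤ A) (_ : Nat.card A = 2 * Nat.card B) (a : X) (_ : a ∈ A)
      (hac : a ∈ Subgroup.centralizer (B : Set X)),
      (⟨a, hac⟩ : Subgroup.centralizer (B : Set X)) ∉ pCore 2 (Subgroup.centralizer (B : Set X))
  · obtain ⟨B, hBA, hk, a, ha, hac, hout⟩ := hcore
    refine ⟨B, lt_of_le_of_ne hBA fun e => ?_, inverted_of_not_core hfree hA hBA hk ha hac hout⟩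
    rw [e] at hk
    have := Nat.card_pos (α := A)
    omega
  push Not at hcore
  -- `A` sits in `O₂` of the centralizer of each hyperplane
  have hres : ∀ B : Subgroup X, B ≤ A → Nat.card A = 2 * Nat.card B → ∀ a ∈ A, ∀ x ∈ Subgroup.centralizer (B : Set X),
      ∃ n, (x⁻¹ * a * x * a) ^ (2 ^ n) = 1 := by
    intro B hBA hk a ha x hx
    have hac : a ∈ Subgroup.centralizer (B : Set X) := fun b hb => hcomm b (hBA hb) a ha
    have hm := hcore B hBA hk a ha hac
    have h1 := ((inferInstance : (pCore 2 (Subgroup.centralizer (B : Set X))).Normal).conj_mem _ hm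
      (⟨x, hx⟩ : Subgroup.centralizer (B : Set X))⁻¹)
    obtain ⟨n, hn⟩ := (isPGroup_pCore 2) ⟨_, mul_mem h1 hm⟩
    refine ⟨n, ?_⟩
    have h3 := congrArg (fun z : pCore 2 (Subgroup.centralizer (B : Set X)) => ((z : Subgroup.centralizer (B : Set X)) : X)) hn
    simpa using h3
  -- `A` has order at least four
  have h4 : 2 < Nat.card A := by
    by_contra hle
    obtain ⟨a, ha, ha1⟩ := (Subgroup.bot_or_exists_ne_one A).resolve_left hA1
    obtain ⟨B, -, hBA, hk⟩ := exists_hyperplane hA (bot_lt_iff_ne_bot.2 hA1)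
    have hB : B = ⊥ := by
      refine Subgroup.card_eq_one.1 ?_
      have := Nat.card_pos (α := B)
      omega
    subst hB
    have hac : a ∈ Subgroup.centralizer ((⊥ : Subgroup X) : Set X) := fun b hb => hcomm b (hBA hb) a ha
    have hm := hcore ⊥ hBA hk a ha hac
    have htop : Subgroup.centralizer ((⊥ : Subgroup X) : Set X) = ⊤ := by
      ext x; simp [Subgroup.mem_centralizer_iff]
    have h1 : a ∈ pCore 2 X := by
      have := (CfsgLib.pCore_map_equiv 2 ((MulEquiv.subgroupCongr htop).trans Subgroup.topEquiv)).le ⟨_, hm, rfl⟩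
      simpa using this
    rw [hO, Subgroup.mem_bot] at h1
    exact ha1 h1
  set F := fittingSubgroup X
  have hFn : F.Normal := inferInstance
  have hFodd : Odd (Nat.card F) := by
    rw [← Nat.not_even_iff_odd, even_iff_two_dvd]
    intro hd
    obtain ⟨z, hz⟩ := exists_prime_orderOf_dvd_card' 2 hd
    haveI := isNilpotent_fittingSubgroup (G := X)
    have hsn : ((Subgroup.zpowers z).map F.subtype).IsSubnormal :=
      (isSubnormal_of_nilpotent (Subgroup.zpowers z)).trans' hFn.isSubnormal
    have hp : IsPGroup 2 ((Subgroup.zpowers z).map F.subtype) :=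
      (IsPGroup.of_card (n := 1) (by rw [pow_one, Nat.card_zpowers, hz])).map _
    have h1 : (z : X) ∈ pCore 2 X :=
      isSubnormal_isPGroup_le_pCore hsn hp ⟨z, Subgroup.mem_zpowers z, rfl⟩
    rw [hO, Subgroup.mem_bot, OneMemClass.coe_eq_one] at h1
    rw [h1, orderOf_one] at hz
    omega
  have hAF : A ≤ Subgroup.centralizer (F : Set X) := by
    by_contra hne
    let P : Set (Subgroup X) := {B | B ≤ A ∧ ¬ A ≤ Subgroup.centralizer ((F ⊓ Subgroup.centralizer (B : Set X) : Subgroup X) : Set X)}
    have hP : (⊥ : Subgroup X) ∈ P := ⟨bot_le, fun h => hne (h.trans (Subgroup.centralizer_le (fun x hx =>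
      ⟨hx, fun b hb => by rw [SetLike.mem_coe, Subgroup.mem_bot] at hb; rw [hb, one_mul, mul_one]⟩)))⟩
    obtain ⟨B, ⟨hBA, hBm⟩, hmax⟩ := Set.exists_max_image P (fun B => Nat.card B) (Set.toFinite _) ⟨⊥, hP⟩
    have hBne : B < A := by
      refine lt_of_le_of_ne hBA fun e => hBm ?_
      subst e
      intro a ha x hx
      exact (hx.2 a ha).symm
    set K := F ⊓ Subgroup.centralizer (B : Set X)
    have hKodd : Odd (Nat.card K) := hFodd.of_dvd_nat (Subgroup.card_dvd_of_le inf_le_left)
    have hAK : ∀ a ∈ A, ∀ x ∈ K, a * x * a⁻¹ ∈ K := fun a ha x hx => by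
      refine ⟨hFn.conj_mem _ hx.1 a, fun b hb => ?_⟩
      have h1 : Commute b a := hcomm b (hBA hb) a ha
      exact (((h1.mul_right (hx.2 b hb)).mul_right h1.inv_right)).eq
    obtain ⟨q, hq, hqB⟩ := SetLike.exists_of_lt hBne
    set B1 := B ⊔ Subgroup.zpowers q
    have hB1A : B1 ≤ A := sup_le hBA (Subgroup.zpowers_le.2 hq)
    have hB1c := card_sup_zpowers hA hBA hq hqB
    by_cases hB1 : B1 = A
    · -- `B` is a hyperplane
      refine hBm fun a ha x hx => ?_
      obtain ⟨n, hn⟩ := hres B hBA (by rw [← hB1, hB1c]) a ha x hx.2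
      have hmem : x⁻¹ * a * x * a ∈ K := by
        have h := K.mul_mem (K.inv_mem hx) (hAK a ha x hx)
        rwa [inv_eq_of_mul_eq_one_right (hA a ha), ← mul_assoc, ← mul_assoc] at h
      have hord : orderOf (x⁻¹ * a * x * a) ∣ 2 ^ n := orderOf_dvd_of_pow_eq_one hn
      have hord2 : orderOf (x⁻¹ * a * x * a) ∣ Nat.card K := Subgroup.orderOf_dvd_natCard _ hmem
      have hone : orderOf (x⁻¹ * a * x * a) = 1 :=
        Nat.eq_one_of_dvd_coprimes ((Nat.coprime_two_left.2 hKodd).pow_left n) hord hord2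
      rw [orderOf_eq_one_iff] at hone
      calc x * a = x * (x⁻¹ * a * x * a) * a := by rw [hone, mul_one]
        _ = a * x * (a * a) := by group
        _ = a * x := by rw [hA a ha, mul_one]
    · obtain ⟨p, hp, hpB1⟩ := SetLike.exists_of_lt (lt_of_le_of_ne hB1A hB1)
      set Q := Subgroup.zpowers q ⊔ Subgroup.zpowers p
      have hQA : Q ≤ A := sup_le (Subgroup.zpowers_le.2 hq) (Subgroup.zpowers_le.2 hp)
      have hQsq : ∀ a ∈ Q, a * a = 1 := fun a ha => hA a (hQA ha)
      have hQcard : Nat.card Q = 4 := by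
        have hq1 : q ≠ 1 := fun e => hqB (e ▸ one_mem _)
        rw [card_sup_zpowers hA (Subgroup.zpowers_le.2 hq) hp
          (fun h => hpB1 (Subgroup.mem_sup_right h)), Nat.card_zpowers,
          orderOf_eq_prime (p := 2) (by rw [sq]; exact hA q hq) hq1]
      haveI : IsMulCommutative Q := ⟨⟨fun a b => Subtype.ext (hcomm _ (hQA a.2) _ (hQA b.2))⟩⟩
      have hQK : Q ≤ Subgroup.normalizer (K : Set X) := by
        intro a ha
        rw [Subgroup.mem_normalizer_iff]
        refine fun x => ⟨hAK a (hQA ha) x, fun h => ?_⟩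
        have := hAK a⁻¹ (A.inv_mem (hQA ha)) _ h
        simpa [mul_assoc] using this
      have hgen := coprime_generated_by_centralizers (not_isCyclic hQsq (by omega)) hQK
        (by rw [hQcard, show (4 : ℕ) = 2 ^ 2 by norm_num]; exact (Nat.coprime_two_left.2 hKodd).pow_left 2)
      refine hBm ?_
      suffices hKc : K ≤ Subgroup.centralizer (A : Set X) by
        intro a ha x hx
        exact ((hKc hx) a ha).symm
      rw [← hgen]
      refine iSup₂_le fun c hc => ?_
      obtain ⟨hcQ, hc1⟩ := hc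
      have hcB : c ∉ B := by
        intro hcB
        have hle : Q ≤ Subgroup.zpowers q ⊔ Subgroup.zpowers p := le_rfl
        have hnq : Subgroup.zpowers p ≤ Subgroup.normalizer (Subgroup.zpowers q : Set X) := by
          refine Subgroup.zpowers_le.2 (Subgroup.mem_normalizer_iff.2 fun t => ?_)
          constructor
          · intro ht
            rw [hcomm p hp t ((Subgroup.zpowers_le.2 hq) ht), mul_inv_cancel_right]; exact ht
          · intro ht
            have htA : t ∈ A := by
              have := A.mul_mem (A.mul_mem (A.inv_mem hp) ((Subgroup.zpowers_le.2 hq) ht)) hp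
              simpa [mul_assoc] using this
            rwa [hcomm p hp t htA, mul_inv_cancel_right] at ht
        have hcm : c ∈ ((Subgroup.zpowers q ⊔ Subgroup.zpowers p : Subgroup X) : Set X) := hle hcQ
        rw [Subgroup.coe_mul_of_right_le_normalizer_left _ _ hnq] at hcm
        obtain ⟨u, hu, w, hw, huw⟩ := hcm
        obtain ⟨i, rfl⟩ := Subgroup.mem_zpowers_iff.1 hu
        obtain ⟨j, rfl⟩ := Subgroup.mem_zpowers_iff.1 hw
        have hpar : ∀ (g : X), g * g = 1 → ∀ k : ℤ, g ^ k = 1 ∨ g ^ k = g := fun g hg k => by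
          rcases Int.even_or_odd k with ⟨l, rfl⟩ | ⟨l, rfl⟩
          · left; rw [← two_mul, zpow_mul, zpow_ofNat, sq, hg, one_zpow]
          · right; rw [zpow_add, zpow_mul, zpow_ofNat, sq, hg, one_zpow, one_mul, zpow_one]
        change q ^ i * p ^ j = c at huw
        rcases hpar q (hA q hq) i with e | e <;> rcases hpar p (hA p hp) j with e' | e' <;>
          rw [e, e'] at huw <;> subst huw
        · exact hc1 (one_mul 1)
        · exact hpB1 (Subgroup.mem_sup_left (by simpa using hcB))
        · exact hqB (by simpa using hcB)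
        · refine hpB1 ?_
          have := Subgroup.mul_mem B1 (Subgroup.inv_mem _ (Subgroup.mem_sup_right (Subgroup.mem_zpowers q)))
            (Subgroup.mem_sup_left hcB)
          rwa [inv_mul_cancel_left] at this
      have hcA : c ∈ A := hQA hcQ
      have hlarge := card_sup_zpowers hA hBA hcA hcB
      have hnot : B ⊔ Subgroup.zpowers c ∉ P := fun hm => by
        have := hmax _ hm
        rw [hlarge] at this
        have := Nat.card_pos (α := B)
        omega
      have hsup : A ≤ Subgroup.centralizer ((F ⊓ Subgroup.centralizer ((B ⊔ Subgroup.zpowers c : Subgroup X) : Set X) :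
          Subgroup X) : Set X) := by
        by_contra h
        exact hnot ⟨sup_le hBA (Subgroup.zpowers_le.2 hcA), h⟩
      intro x hx a ha
      refine (hsup ha x ⟨hx.1.1, ?_⟩).symm
      rw [SetLike.mem_coe, Products.centralizer_sup]
      refine ⟨hx.1.2, ?_⟩
      rw [Subgroup.zpowers_eq_closure, Subgroup.centralizer_closure]
      exact hx.2
  -- a component not centralized by `A`
  obtain ⟨S, hS, hSA⟩ : ∃ S : Subgroup X, IsComponent S ∧ ¬ A ≤ Subgroup.centralizer (S : Set X) := by
    by_contra hall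
    push Not at hall
    have hAE : A ≤ Subgroup.centralizer (layer X : Set X) := by
      rw [Subgroup.le_centralizer_iff]
      exact sSup_le fun K hK => Subgroup.le_centralizer_iff.1 (hall K hK)
    have hAS : A ≤ Subgroup.centralizer (generalizedFittingSubgroup X : Set X) := by
      show A ≤ Subgroup.centralizer ((layer X ⊔ F : Subgroup X) : Set X)
      rw [Products.centralizer_sup]
      exact le_inf hAE hAF
    set C := Subgroup.centralizer (generalizedFittingSubgroup X : Set X)
    haveI : C.Normal := Subgroup.normal_centralizer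
    have hCab : IsMulCommutative C := ⟨⟨fun a b => Subtype.ext ((b.2 a (centralizer_generalizedFitting_le a.2)).symm).symm⟩⟩
    haveI := hCab
    have hCnil : Group.IsNilpotent C := by
      letI : CommGroup C := { (inferInstance : Group C) with mul_comm := fun a b => hCab.1.comm a b }
      infer_instance
    have hCF : C ≤ F := le_fittingSubgroup hCnil
    obtain ⟨a, ha, ha1⟩ := (Subgroup.bot_or_exists_ne_one A).resolve_left hA1
    have hd : orderOf a ∣ Nat.card F := Subgroup.orderOf_dvd_natCard _ (hCF (hAS ha))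
    rw [orderOf_eq_prime (p := 2) (by rw [sq]; exact hA a ha) ha1] at hd
    exact Nat.not_even_iff_odd.2 hFodd (even_iff_two_dvd.2 hd)
  have hgood := good_of_component hc hS
  set D := A ⊓ Subgroup.normalizer (S : Set X)
  by_cases hDA : D = A
  · exact inverted_single hfree hA hgood (hDA.ge.trans inf_le_right) hSA
  have hDlt : D < A := lt_of_le_of_ne inf_le_left hDA
  -- the diagonal of a product over a complement
  have key : ∀ B : Subgroup X, D ≤ B → B ≤ A → ∃ (T : Subgroup X) (σ : S →* X), T ≤ B ∧ D ⊔ T = B ∧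
      σ.ker ≤ Subgroup.center S ∧
      (∀ t ∈ T, ∀ s, t * σ s * t⁻¹ = σ s) ∧
      (∀ d ∈ D, ∀ s : S, ∃ s' : S, (s' : X) = d * s * d⁻¹ ∧ d * σ s * d⁻¹ = σ s') ∧
      (∀ p ∈ A, p ∉ B → ∀ s, (σ s) * (p * σ s * p⁻¹) = (p * σ s * p⁻¹) * σ s ∧
        ∀ x : S, (x : X) * (p * σ s * p⁻¹) = (p * σ s * p⁻¹) * x) ∧
      (∀ s : S, (∀ x : S, (x : X) * σ s = σ s * x) → s ∈ Subgroup.center S) := by
    intro B hDB hBA
    obtain ⟨T, hTB, hTD, hsup⟩ := exists_complement (fun a ha => hA a (hBA ha)) hDB
    have hTA := hTB.trans hBA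
    let cS : X → Subgroup X := fun g => S.map (MulAut.conj g).toMonoidHom
    have hcomp : ∀ g, IsComponent (cS g) := fun g => isComponent_map_equiv (MulAut.conj g) hS
    have hdis : ∀ g ∈ A, ∀ h ∈ A, g⁻¹ * h ∉ D → ∀ x ∈ S, ∀ y ∈ S, Commute (g * x * g⁻¹) (h * y * h⁻¹) := by
      intro g hg h hh hne x hx y hy
      rcases components_eq_or_commute (hcomp g) (hcomp h) with e | e
      · exfalso
        refine hne ⟨A.mul_mem (A.inv_mem hg) hh, ?_⟩
        have key : ∀ g h : X, cS g = cS h → ∀ z ∈ S, (g⁻¹ * h) * z * (g⁻¹ * h)⁻¹ ∈ S := by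
          intro g h e z hz
          obtain ⟨w, hw, hwe⟩ := e.ge ⟨z, hz, rfl⟩
          change g * w * g⁻¹ = h * z * h⁻¹ at hwe
          have : (g⁻¹ * h) * z * (g⁻¹ * h)⁻¹ = w := by
            calc (g⁻¹ * h) * z * (g⁻¹ * h)⁻¹ = g⁻¹ * (h * z * h⁻¹) * g := by group
              _ = w := by rw [← hwe]; group
          rw [this]; exact hw
        refine Subgroup.mem_normalizer_iff.2 fun z => ⟨key g h e z, fun hz => ?_⟩
        have := key h g e.symm _ hz
        simpa [mul_assoc] using this
      · exact (Subgroup.commutator_eq_bot_iff_le_centralizer.1 e ⟨x, hx, rfl⟩ _ ⟨y, hy, rfl⟩).symm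
    let ϕ : T → (S →* X) := fun i => (MulAut.conj (i : X)).toMonoidHom.comp S.subtype
    have hne : ∀ i j : T, i ≠ j → (i : X)⁻¹ * j ∉ D := fun i j hij h => hij (Subtype.ext (by
      have := (Subgroup.eq_bot_iff_forall _).1 hTD _ ⟨T.mul_mem (T.inv_mem i.2) j.2, h⟩
      exact inv_mul_eq_one.1 this))
    have hpw : Pairwise fun i j => ∀ x y, Commute (ϕ i x) (ϕ j y) := fun i j hij x y =>
      hdis i (hTA i.2) j (hTA j.2) (hne i j hij) x x.2 y y.2
    haveI : Fintype T := Fintype.ofFinite T
    let ψ : (T → S) →* X := MonoidHom.noncommPiCoprod ϕ hpw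
    let σ : S →* X := ψ.comp (Pi.monoidHom fun _ => MonoidHom.id S)
    have hσ : ∀ s, σ s = ψ (fun _ => s) := fun s => rfl
    have hsingle : ∀ i y, ψ (Pi.mulSingle i y) = (i : X) * y * (i : X)⁻¹ := fun i y =>
      (MonoidHom.noncommPiCoprod_mulSingle (ϕ := ϕ) i y)
    have hperm : ∀ t : T, ∀ f : T → S, (t : X) * ψ f * (t : X)⁻¹ = ψ (fun j => f (t⁻¹ * j)) := by
      intro t f
      let r : (T → S) →* (T → S) := Pi.monoidHom fun j => Pi.evalMonoidHom (fun _ : T => S) (t⁻¹ * j)
      have h : ((MulAut.conj (t : X)).toMonoidHom.comp ψ) = ψ.comp r := by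
        suffices hsing : ∀ (i : T) (y : S), ((MulAut.conj (t : X)).toMonoidHom.comp ψ) (Pi.mulSingle i y) = (ψ.comp r) (Pi.mulSingle i y) from
          MonoidHom.ext fun f => Subgroup.pi_mem_of_mulSingle_mem
            (H := ((MulAut.conj (t : X)).toMonoidHom.comp ψ).eqLocus (ψ.comp r)) f fun i => hsing i (f i)
        intro i y
        show (t : X) * ψ (Pi.mulSingle i y) * (t : X)⁻¹ = ψ (r (Pi.mulSingle i y))
        have hr : r (Pi.mulSingle i y) = Pi.mulSingle (t * i) y := by
          funext j
          show (Pi.mulSingle i y : T → S) (t⁻¹ * j) = _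
          by_cases hj : j = t * i
          · subst hj; rw [inv_mul_cancel_left, Pi.mulSingle_eq_same, Pi.mulSingle_eq_same]
          · rw [Pi.mulSingle_eq_of_ne hj, Pi.mulSingle_eq_of_ne (fun e => hj (by rw [← e, mul_inv_cancel_left]))]
        rw [hr, hsingle, hsingle, Subgroup.coe_mul]
        group
      exact DFunLike.congr_fun h f
    have hcs : ∀ f : T → S, f 1 = 1 → ∀ x : S, (x : X) * ψ f = ψ f * x := by
      intro f hf x
      have : f ∈ (Subgroup.centralizer ({(x : X)} : Set X)).comap ψ := by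
        refine Subgroup.pi_mem_of_mulSingle_mem f fun i => ?_
        rw [Subgroup.mem_comap, Subgroup.mem_centralizer_singleton_iff, hsingle]
        by_cases hi : i = 1
        · subst hi; rw [hf]; simp
        · have h := hdis i (hTA i.2) 1 A.one_mem (by
            have h' := hne i 1 hi
            simpa using h') (f i) (f i).2 x x.2
          simpa using h.eq
      exact (Subgroup.mem_centralizer_singleton_iff.1 this).symm
    have hsplit : ∀ s : S, σ s = (s : X) * ψ (Function.update (fun _ => s) 1 1) := by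
      intro s
      have h1 : (fun _ : T => s) = Pi.mulSingle 1 s * Function.update (fun _ => s) 1 1 := by
        funext j
        by_cases hj : j = 1
        · subst hj; simp
        · simp [Function.update_of_ne hj, Pi.mulSingle_eq_of_ne hj]
      rw [hσ]
      conv_lhs => rw [h1]
      rw [map_mul, hsingle]
      simp
    have hcent : ∀ s : S, (∀ x : S, (x : X) * σ s = σ s * x) → s ∈ Subgroup.center S := by
      intro s hs
      refine Subgroup.mem_center_iff.2 fun x => Subtype.ext ?_
      have hrest := hcs (Function.update (fun _ => s) 1 1) (by simp) x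
      have h := hs x
      rw [hsplit] at h
      refine mul_right_cancel (b := ψ (Function.update (fun _ => s) 1 1)) ?_
      show (x : X) * s * _ = (s : X) * x * _
      rw [mul_assoc, h, mul_assoc (s : X) (x : X), hrest, ← mul_assoc]
    refine ⟨T, σ, hTB, hsup, fun s hs => hcent s fun x => ?_, ?_, ?_, ?_, hcent⟩
    · rw [MonoidHom.mem_ker.1 hs, mul_one, one_mul]
    · intro t ht s
      rw [hσ]
      exact hperm ⟨t, ht⟩ _
    · intro d hd s
      set α : S →* S :=
        { toFun := fun s => ⟨d * s * d⁻¹, (Subgroup.mem_normalizer_iff.1 hd.2 _).1 s.2⟩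
          map_one' := Subtype.ext (by simp)
          map_mul' := fun s t => Subtype.ext (by simp) }
      refine ⟨α s, rfl, ?_⟩
      let r : (T → S) →* (T → S) := Pi.monoidHom fun j => α.comp (Pi.evalMonoidHom (fun _ : T => S) j)
      have h : ((MulAut.conj d).toMonoidHom.comp ψ) = ψ.comp r := by
        suffices hsing : ∀ (i : T) (y : S), ((MulAut.conj d).toMonoidHom.comp ψ) (Pi.mulSingle i y) = (ψ.comp r) (Pi.mulSingle i y) from
          MonoidHom.ext fun f => Subgroup.pi_mem_of_mulSingle_mem
            (H := ((MulAut.conj d).toMonoidHom.comp ψ).eqLocus (ψ.comp r)) f fun i => hsing i (f i)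
        intro i y
        show d * ψ (Pi.mulSingle i y) * d⁻¹ = ψ (r (Pi.mulSingle i y))
        have hr : r (Pi.mulSingle i y) = Pi.mulSingle i (α y) := by
          funext j
          show α ((Pi.mulSingle i y : T → S) j) = _
          by_cases hj : j = i
          · subst hj; rw [Pi.mulSingle_eq_same, Pi.mulSingle_eq_same]
          · rw [Pi.mulSingle_eq_of_ne hj, Pi.mulSingle_eq_of_ne hj, map_one]
        rw [hr, hsingle, hsingle]
        show d * ((i : X) * y * (i : X)⁻¹) * d⁻¹ = (i : X) * (d * y * d⁻¹) * (i : X)⁻¹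
        have hdi : d * (i : X) = i * d := hcomm d hd.1 i (hTA i.2)
        calc d * ((i : X) * y * (i : X)⁻¹) * d⁻¹ = (d * i) * y * (d * i)⁻¹ := by group
          _ = _ := by rw [hdi]; group
      exact DFunLike.congr_fun h (fun _ => s)
    · intro p hp hpB s
      have hfar : ∀ i j : T, ((p * (i : X))⁻¹ * (j : X)) ∉ D := by
        intro i j h
        apply hpB
        have h1 : p * (i : X) ∈ B := by
          have h2' : ((p * (i : X))⁻¹ * j)⁻¹ ∈ B := B.inv_mem (hDB h)
          have h3 := B.mul_mem (hTB j.2) h2'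
          rwa [mul_inv_rev, inv_inv, mul_inv_cancel_left] at h3
        have h4 := B.mul_mem h1 (B.inv_mem (hTB i.2))
        rwa [mul_inv_cancel_right] at h4
      have hmemc : ∀ (x : X), (∀ i : T, ∀ y : S, Commute x (p * ((i : X) * y * (i : X)⁻¹) * p⁻¹)) →
          ∀ f : T → S, x * (p * ψ f * p⁻¹) = (p * ψ f * p⁻¹) * x := by
        intro x hx f
        have : f ∈ (Subgroup.centralizer ({x} : Set X)).comap ((MulAut.conj p).toMonoidHom.comp ψ) := by
          refine Subgroup.pi_mem_of_mulSingle_mem f fun i => ?_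
          rw [Subgroup.mem_comap, Subgroup.mem_centralizer_singleton_iff]
          show p * ψ (Pi.mulSingle i (f i)) * p⁻¹ * x = x * (p * ψ (Pi.mulSingle i (f i)) * p⁻¹)
          rw [hsingle]
          exact (hx i (f i)).symm.eq
        exact (Subgroup.mem_centralizer_singleton_iff.1 this).symm
      have hbase : ∀ (j i : T) (x y : S), Commute ((j : X) * x * (j : X)⁻¹) (p * ((i : X) * y * (i : X)⁻¹) * p⁻¹) := by
        intro j i x y
        have h := hdis (p * i) (A.mul_mem hp (hTA i.2)) j (hTA j.2) (hfar i j) y y.2 x x.2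
        have e : p * ((i : X) * y * (i : X)⁻¹) * p⁻¹ = p * i * y * (p * i)⁻¹ := by group
        rw [e]; exact h.symm
      refine ⟨?_, fun x => hmemc _ (fun i y => by simpa using hbase 1 i x y) _⟩
      refine hmemc _ (fun i y => ?_) _
      rw [hσ]
      have : (fun _ : T => s) ∈ (Subgroup.centralizer ({p * ((i : X) * y * (i : X)⁻¹) * p⁻¹} : Set X)).comap ψ := by
        refine Subgroup.pi_mem_of_mulSingle_mem _ fun j => ?_
        rw [Subgroup.mem_comap, Subgroup.mem_centralizer_singleton_iff, hsingle]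
        exact (hbase j i s y).eq
      exact Subgroup.mem_centralizer_singleton_iff.1 this
  by_cases hDS : D ≤ Subgroup.centralizer (S : Set X)
  · -- a hyperplane over `D`
    exfalso
    obtain ⟨B, hDB, hBA, hk⟩ := exists_hyperplane hA hDlt
    obtain ⟨T, σ, hTB, hsup, hker, hT, hD, hp, hcent⟩ := key B hDB hBA
    obtain ⟨p, hpA, hpB⟩ := SetLike.exists_of_lt (lt_of_le_of_ne hBA (fun e => by
      rw [e] at hk; have := Nat.card_pos (α := A); omega) : B < A)
    have hσB : ∀ s, σ s ∈ Subgroup.centralizer (B : Set X) := by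
      intro s
      show σ s ∈ Subgroup.centralizer ((B : Subgroup X) : Set X)
      rw [← hsup]
      rw [Products.centralizer_sup]
      refine ⟨fun d hd => ?_, fun t ht => mul_inv_eq_iff_eq_mul.1 (hT t ht s)⟩
      obtain ⟨s', hs', hs''⟩ := hD d hd s
      have : s' = s := Subtype.ext (by rw [hs', ← (hDS hd) s s.2, mul_inv_cancel_right])
      rw [this] at hs''
      exact mul_inv_eq_iff_eq_mul.1 hs''
    haveI := hS.2.2
    have hY : IsPGroup 2 (S ⧸ Subgroup.center S) := by
      intro y
      obtain ⟨s, rfl⟩ := QuotientGroup.mk_surjective y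
      obtain ⟨n, hn⟩ := hres B hBA hk p hpA (σ s) (hσB s)
      refine ⟨n, ?_⟩
      rw [← QuotientGroup.mk_pow, QuotientGroup.eq_one_iff]
      obtain ⟨hcm, hx⟩ := hp p hpA hpB s
      refine hcent _ fun x => ?_
      have h1 : σ (s ^ (2 ^ n)) = (p * σ s * p⁻¹) ^ (2 ^ n) := by
        have hc' : Commute (σ s)⁻¹ (p * σ s * p⁻¹) := (show Commute (σ s) _ from hcm).inv_left
        have e : (σ s)⁻¹ * p * σ s * p = (σ s)⁻¹ * (p * σ s * p⁻¹) := by
          rw [inv_eq_of_mul_eq_one_right (hA p hpA)]; simp only [mul_assoc]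
        rw [e, hc'.mul_pow, inv_pow, inv_mul_eq_one] at hn
        rw [map_pow, hn]
      rw [h1]
      exact ((show Commute (x : X) _ from hx x).pow_right _).eq
    haveI := hY.isNilpotent
    exact (good_of_component hc hS).not_comm ⟨⟨IsSimpleGroup.comm_iff_isSolvable.2 inferInstance⟩⟩
  · -- a diagonal subgroup normalized by `A`
    obtain ⟨T, σ, hTA, hsup, hker, hT, hD, -, -⟩ := key A hDlt.le le_rfl
    refine inverted_single hfree hA (good_range hgood σ hker) ?_ ?_
    · rw [← hsup]
      refine sup_le (fun d hd => ?_) (fun t ht => ?_)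
      · have hsub : ∀ d ∈ D, ∀ x ∈ σ.range, d * x * d⁻¹ ∈ σ.range := by
          rintro d hd _ ⟨s, rfl⟩
          obtain ⟨s', -, e⟩ := hD d hd s
          exact ⟨s', e.symm⟩
        rw [Subgroup.mem_normalizer_iff]
        refine fun x => ⟨hsub d hd x, fun h => ?_⟩
        have := hsub d⁻¹ (D.inv_mem hd) _ h
        simpa [mul_assoc] using this
      · refine Subgroup.centralizer_le_normalizer _ ?_
        rintro _ ⟨s, rfl⟩
        exact (mul_inv_eq_iff_eq_mul.1 (hT t ht s)).symm
    · intro hle
      refine hDS fun d hd => ?_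
      intro x hx
      haveI := hS.2.1
      have hmod : ∀ s : S, ∃ z ∈ Subgroup.center S, d * (s : X) * d⁻¹ = (s : X) * (z : X) := by
        intro s
        obtain ⟨s', hs', he⟩ := hD d hd s
        refine ⟨s⁻¹ * s', hker ?_, ?_⟩
        · have hfix : d * σ s * d⁻¹ = σ s := mul_inv_eq_iff_eq_mul.2 ((hle hd.1) _ ⟨s, rfl⟩).symm
          rw [MonoidHom.mem_ker, map_mul, map_inv, ← he, hfix, inv_mul_cancel]
        · rw [← hs']; simp [mul_assoc]
      exact (commute_of_mod_center hS.2.1 hmod ⟨x, hx⟩).symm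

variable {V : Type v} [CommGroup V] [Finite V] {φ : X →* MulAut V} (hinj : Function.Injective φ)
  (h2 : ∀ v : V, v * v = 1)
include hinj h2

/-- The bound. -/
theorem rel_bot {A : Subgroup X} (hA : ∀ a ∈ A, a * a = 1) : Rel φ A ⊥ := by
  induction h : Nat.card A using Nat.strong_induction_on generalizing A with
  | h n ih =>
    subst h
    by_cases hA1 : A = ⊥
    · subst hA1; exact le_refl _
    obtain ⟨B, hB, hinv⟩ := exists_inverted hfree hO hc hA hA1
    exact (hinv.rel hinj h2 hA).trans (ih _ (lt_of_le_of_ne (Subgroup.card_le_of_le hB.le)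
      fun e => hB.ne (Subgroup.eq_of_le_of_card_ge hB.le e.ge)) (fun b hb => hA b (hB.le hb)) rfl)

/-- `|A|² |C_V(A)| ≤ |V|`. -/
theorem sq_bound {A : Subgroup X} (hA : ∀ a ∈ A, a * a = 1) :
    Nat.card A ^ 2 * Nat.card (fix φ A) ≤ Nat.card V := by
  have h := rel_bot hfree hO hc hinj h2 hA
  unfold Rel at h
  rw [Subgroup.card_bot, one_pow, one_mul] at h
  exact h.trans (Subgroup.card_le_card_group _)

end CfsgLib.S3Free.TwoF
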