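import Cfsg.Agent.Lib.S3Free.EGroup
import Cfsg.Agent.Lib.S3Free.Closure
import Cfsg.Agent.Lib.ZJ.Complement

/-!
A subgroup satisfying the inequalities of an E-group inside a Sylow 2-subgroup lies in `O₂(G)`, and its normal
closure is centralized by the largest elementary abelian subgroups.
-/

set_option autoImplicit false
set_option linter.unusedSectionVars false
set_option maxHeartbeats 1000000

open scoped Pointwise commutatorElement

namespace CfsgLib.S3Free.EGrp

open CfsgLib CfsgLib.Local CfsgLib.OffenderTwo Cfsg CfsgLib.S3Free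

universe u

variable {G : Type u} [Group G] [Finite G]

/-- The order of a product of subgroups. -/
theorem card_sup_mul_inf {H K : Subgroup G} (h : H ≤ Subgroup.normalizer (K : Set G)) :
    Nat.card ↥(H ⊔ K) * Nat.card ↥(H ⊓ K) = Nat.card H * Nat.card K := by
  set M := H ⊔ K
  haveI : (K.subgroupOf M).Normal :=
    Subgroup.normal_subgroupOf_iff_le_normalizer le_sup_right |>.2 (sup_le h Subgroup.le_normalizer)
  have h1 : K.relIndex M = K.relIndex H := by
    have e := Subgroup.relIndex_sup_right (H := H.subgroupOf M) (K := K.subgroupOf M)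
    rw [← Subgroup.subgroupOf_sup (le_sup_left : H ≤ M) (le_sup_right : K ≤ M), Subgroup.subgroupOf_self,
      Subgroup.relIndex_top_right, Subgroup.relIndex_subgroupOf (le_sup_left : H ≤ M)] at e
    exact e
  rw [← Products.card_mul_relIndex_of_le (le_sup_right : K ≤ M), h1, ← Products.card_inf_mul_relIndex K H,
    inf_comm H K]
  ring

theorem mem_map_conj {g x : G} {H : Subgroup G} :
    x ∈ H.map (MulAut.conj g).toMonoidHom ↔ g⁻¹ * x * g ∈ H := by
  constructor
  · rintro ⟨h, hh, rfl⟩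
    simpa [mul_assoc] using hh
  · intro h
    exact ⟨_, h, by simp [mul_assoc]⟩

/-- The inequality for a conjugate inside a normal section. -/
theorem half_bound {S : Sylow 2 G} {W Q' : Subgroup G} (hW : Tame (S : Subgroup G) W)
    (hQ'S : Q' ≤ (S : Subgroup G)) (g : G) {k x z1 x1 : ℕ} (hk : 1 ≤ k)
    (hE : Nat.card ↥(W ⊓ Q') = 2 ^ x) (hWc : Nat.card W = 2 ^ (k + x))
    (hF : Nat.card ↥(W.map (MulAut.conj g).toMonoidHom ⊓ Q') = 2 ^ x)
    (hz : Nat.card ↥(W.map (MulAut.conj g).toMonoidHom ⊓ Q' ⊓ Subgroup.centralizer (W : Set G)) = 2 ^ z1)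
    (hx1 : Nat.card ↥(W ⊓ Q' ⊓ Subgroup.centralizer ((W.map (MulAut.conj g).toMonoidHom : Subgroup G) : Set G)) = 2 ^ x1) :
    3 * x + 2 * x1 < 2 * (k + x) + 3 * z1 := by
  obtain ⟨hWS, hn, hel, hb⟩ := hW
  set W' := W.map (MulAut.conj g).toMonoidHom with hW'
  set F := W' ⊓ Q' with hFdef
  haveI := hel.1
  have hx1x : x1 ≤ x := by
    refine (Nat.pow_le_pow_iff_right (le_refl 2)).1 ?_
    rw [← hE, ← hx1]
    exact Subgroup.card_le_of_le inf_le_left
  by_cases hFC : F ≤ Subgroup.centralizer (W : Set G)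
  · rw [inf_eq_left.2 hFC, hF] at hz
    have := Nat.pow_right_injective (le_refl 2) hz
    omega
  have hFcomm : ∀ a ∈ F, ∀ b ∈ F, a * b = b * a := by
    rintro _ ⟨⟨a, ha, rfl⟩, -⟩ _ ⟨⟨b, hb, rfl⟩, -⟩
    rw [← map_mul, ← map_mul, Subgroup.mul_comm_of_mem_isMulCommutative W ha hb]
  have hact : Act W F := by
    refine ⟨Subgroup.commutator_le.2 fun a ha b hb => ?_, fun a ha => ?_, hFC⟩
    · rw [commutatorElement_eq_one_iff_mul_comm.2 (hFcomm a ha b hb)]; exact one_mem _
    · obtain ⟨⟨w, hw, rfl⟩, -⟩ := ha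
      rw [← map_pow, hel.2 w hw, map_one]; exact one_mem _
  have h1 := (hb F (inf_le_right.trans hQ'S) hact).1
  have hle : W ⊓ Q' ⊓ Subgroup.centralizer (W' : Set G) ≤ W ⊓ Subgroup.centralizer (F : Set G) := fun w hw =>
    ⟨hw.1.1, fun f hf => hw.2 f hf.1⟩
  have h2 : (2 ^ x) ^ 3 * (2 ^ x1) ^ 2 < (2 ^ (k + x)) ^ 2 * (2 ^ z1) ^ 3 := by
    rw [← hWc, ← hz, ← hx1, ← hF]
    refine lt_of_le_of_lt ?_ h1
    exact Nat.mul_le_mul_left _ (Nat.pow_le_pow_left (Subgroup.card_le_of_le hle) 2)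
  rw [← pow_mul, ← pow_mul, ← pow_mul, ← pow_mul, ← pow_add, ← pow_add] at h2
  have := (Nat.pow_lt_pow_iff_right (by norm_num)).1 h2
  omega

variable (hfree : ¬ Involves (Equiv.Perm (Fin 4)) G)
  (hc : IsCompositionKGroupWith IsSuzukiOrPSL2OddPowerThree G)
  (hcon : Subgroup.centralizer (pCore 2 G : Set G) ≤ pCore 2 G)
include hfree hc hcon

/-- A tame subgroup of a Sylow 2-subgroup lies in `O₂(G)`. -/
theorem le_pCore_of_tame {S : Sylow 2 G} {W : Subgroup G} (hW : Tame (S : Subgroup G) W) : W ≤ pCore 2 G := by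
  classical
  haveI : Fact (Nat.Prime 2) := ⟨Nat.prime_two⟩
  by_contra hne
  obtain ⟨hWS, hn, hel, hb⟩ := id hW
  haveI := hel.1
  set Q := pCore 2 G
  have hQS : Q ≤ (S : Subgroup G) := pCore_le_sylow S
  have hQ2 : IsPGroup 2 Q := isPGroup_pCore 2
  set π := QuotientGroup.mk' Q
  have hπ : Function.Surjective π := QuotientGroup.mk'_surjective Q
  have hX0 : pCore 2 (G ⧸ Q) = ⊥ := CfsgLib.ZJ.pCore_quotient_pCore_eq_bot
  have hX3 : ¬ Involves P3 (G ⧸ Q) := by
    haveI : (Subgroup.centralizer (Q : Set G)).Normal := Subgroup.normal_centralizer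
    intro hi
    refine not_involves_quotient hfree Q hQ2 (involves_of_hom
      (QuotientGroup.map (Subgroup.centralizer (Q : Set G)) Q (MonoidHom.id G) hcon) ?_ hi)
    intro y
    obtain ⟨x, rfl⟩ := hπ y
    exact ⟨QuotientGroup.mk x, rfl⟩
  have hA : ∀ a ∈ W.map π, a * a = 1 := by
    rintro _ ⟨w, hw, rfl⟩
    rw [← map_mul, ← sq, hel.2 w hw, map_one]
  obtain ⟨Bb, hBb, k, a, r, hBA, hk, ha, hr, hr2, hinv, hcB, hbig⟩ := TwoF.exists_inverted hX3 hX0
    (quotient_compK (fun Y Z _ _ ⟨e⟩ h => TwoF.kind_transfer e h) hc Q) hA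
    (fun e => hne fun w hw => (QuotientGroup.eq_one_iff w).1 (Subgroup.mem_bot.1 (e ▸ ⟨w, hw, rfl⟩)))
  have hk1 : 1 ≤ k := by
    by_contra h
    have hk0 : k = 0 := by omega
    rw [hk0, pow_zero, one_mul] at hk
    exact hBb.ne (Subgroup.eq_of_le_of_card_ge hBA hk.le)
  set Q' := Bb.comap π with hQ'
  have hQQ' : Q ≤ Q' := fun q hq => by
    rw [hQ', Subgroup.mem_comap, show π q = 1 from (QuotientGroup.eq_one_iff q).2 hq]; exact one_mem _
  have hQ'S : Q' ≤ (S : Subgroup G) := by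
    intro x hx
    obtain ⟨w, hw, he⟩ := hBA hx
    have h1 : w⁻¹ * x ∈ Q := (QuotientGroup.eq_one_iff _).1 (by
      show π (w⁻¹ * x) = 1
      rw [map_mul, map_inv, he, inv_mul_cancel])
    simpa using Subgroup.mul_mem _ (hWS hw) (hQS h1)
  have hcard : Nat.card W = 2 ^ k * Nat.card ↥(W ⊓ Q') := by
    have h1 := card_map_mul_inf π W
    have h2 := card_map_mul_inf π (W ⊓ Q')
    have e : (W ⊓ Q').map π = Bb := by
      refine le_antisymm (fun y ⟨x, hx, hxy⟩ => hxy ▸ hx.2) fun y hy => ?_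
      obtain ⟨w, hw, rfl⟩ := hBA hy
      exact ⟨w, ⟨hw, hy⟩, rfl⟩
    have e2 : W ⊓ Q' ⊓ π.ker = W ⊓ π.ker := by
      refine le_antisymm (inf_le_inf_right _ inf_le_left) fun x hx => ⟨⟨hx.1, hQQ' ?_⟩, hx.2⟩
      have := hx.2
      rwa [QuotientGroup.ker_mk'] at this
    rw [e, e2] at h2
    rw [← h1, ← h2, hk, mul_assoc]
  obtain ⟨g, hg⟩ := hπ r
  obtain ⟨w, hwW, hwa⟩ := ha
  have hgN : ∀ x, x ∈ Q' ↔ g * x * g⁻¹ ∈ Q' := by
    intro x
    rw [hQ', Subgroup.mem_comap, Subgroup.mem_comap, map_mul, map_mul, map_inv, hg]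
    constructor
    · intro h
      rwa [hcB _ h, mul_inv_cancel_right]
    · intro h
      have e := hcB _ h
      have e' : r * π x * r⁻¹ = π x := by
        calc r * π x * r⁻¹ = r⁻¹ * (r * (r * π x * r⁻¹)) := by group
          _ = r⁻¹ * ((r * π x * r⁻¹) * r) := by rw [e]
          _ = π x := by group
      rwa [e'] at h
  set W' := W.map (MulAut.conj g).toMonoidHom with hW'
  set E := W ⊓ Q' with hE
  set F := W' ⊓ Q' with hF
  have hmapQ' : Q'.map (MulAut.conj g).toMonoidHom = Q' := by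
    ext x
    rw [mem_map_conj, hgN (g⁻¹ * x * g)]
    simp [mul_assoc]
  have hEF : E.map (MulAut.conj g).toMonoidHom = F := by
    rw [hE, Subgroup.map_inf _ _ _ (MulAut.conj g).injective, hmapQ']
  have hQ'2 : IsPGroup 2 Q' := S.2.to_le hQ'S
  obtain ⟨x, hx⟩ := (IsPGroup.iff_card (p := 2)).1 (hQ'2.to_le (inf_le_right : E ≤ Q'))
  obtain ⟨z1, hz1⟩ := (IsPGroup.iff_card (p := 2)).1
    (hQ'2.to_le ((inf_le_left.trans inf_le_right : F ⊓ Subgroup.centralizer (W : Set G) ≤ Q')))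
  obtain ⟨x1, hx1⟩ := (IsPGroup.iff_card (p := 2)).1
    (hQ'2.to_le ((inf_le_left.trans inf_le_right : E ⊓ Subgroup.centralizer (W' : Set G) ≤ Q')))
  have hWc : Nat.card W = 2 ^ (k + x) := by rw [hcard, hx, pow_add]
  have hFc : Nat.card F = 2 ^ x := by rw [← hEF, Subgroup.card_map_of_injective (MulAut.conj g).injective, hx]
  have b1 := half_bound hW hQ'S g hk1 hx hWc hFc hz1 hx1
  -- the other inequality
  have hb2 : 3 * x + 2 * z1 < 2 * (k + x) + 3 * x1 := by
    set W'' := W.map (MulAut.conj g⁻¹).toMonoidHom with hW''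
    have hback : W''.map (MulAut.conj g).toMonoidHom = W := by
      ext y; rw [mem_map_conj, mem_map_conj]; simp [mul_assoc]
    have h1 : (W'' ⊓ Q').map (MulAut.conj g).toMonoidHom = E := by
      rw [Subgroup.map_inf _ _ _ (MulAut.conj g).injective, hback, hmapQ']
    refine half_bound hW hQ'S g⁻¹ hk1 hx hWc ?_ ?_ ?_
    · rw [← Subgroup.card_map_of_injective (K := W'' ⊓ Q') (f := (MulAut.conj g).toMonoidHom) (MulAut.conj g).injective,
        h1, hx]
    · rw [← Subgroup.card_map_of_injective (f := (MulAut.conj g).toMonoidHom) (MulAut.conj g).injective,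
        map_centralizer _ (MulAut.conj g).injective, h1]
      exact hx1
    · rw [← Subgroup.card_map_of_injective (f := (MulAut.conj g).toMonoidHom) (MulAut.conj g).injective,
        map_centralizer _ (MulAut.conj g).injective, hback, hEF]
      exact hz1
  -- the normal section
  have hWQ' : ∀ v ∈ W, ∀ q ∈ Q', v * q * v⁻¹ ∈ Q' := by
    intro v hv q hq
    rw [hQ', Subgroup.mem_comap, map_mul, map_mul, map_inv]
    obtain ⟨u, hu, hue⟩ := hBA hq
    rw [← hue, ← map_mul, Subgroup.mul_comm_of_mem_isMulCommutative W hv hu, map_mul, mul_inv_cancel_right, hue]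
    exact hq
  have hW'Q' : ∀ v ∈ W', ∀ q ∈ Q', v * q * v⁻¹ ∈ Q' := by
    rintro _ ⟨v, hv, rfl⟩ q hq
    have h1 : g⁻¹ * q * g ∈ Q' := (hgN _).2 (by simpa [mul_assoc] using hq)
    have h2 := (hgN _).1 (hWQ' v hv _ h1)
    simpa [mul_assoc] using h2
  have hQ'W : ∀ q ∈ Q', ∀ v ∈ W, q * v * q⁻¹ ∈ W := fun q hq v hv =>
    (Subgroup.mem_normalizer_iff.1 (hn (hQ'S hq)) v).1 hv
  have hQ'W' : ∀ q ∈ Q', ∀ v ∈ W', q * v * q⁻¹ ∈ W' := by
    rintro q hq _ ⟨v, hv, rfl⟩
    have h1 : g⁻¹ * q * g ∈ Q' := (hgN _).2 (by simpa [mul_assoc] using hq)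
    refine ⟨_, hQ'W _ h1 v hv, ?_⟩
    simp [mul_assoc]
  set N := E ⊔ F with hNdef
  have hcE : ∀ v ∈ W, ∀ q ∈ Q', v * q * v⁻¹ * q⁻¹ ∈ E := fun v hv q hq =>
    ⟨by simpa [mul_assoc] using W.mul_mem hv (hQ'W q hq _ (W.inv_mem hv)), Q'.mul_mem (hWQ' v hv q hq) (Q'.inv_mem hq)⟩
  have hcF : ∀ v ∈ W', ∀ q ∈ Q', v * q * v⁻¹ * q⁻¹ ∈ F := fun v hv q hq =>
    ⟨by simpa [mul_assoc] using W'.mul_mem hv (hQ'W' q hq _ (W'.inv_mem hv)), Q'.mul_mem (hW'Q' v hv q hq) (Q'.inv_mem hq)⟩
  have hNQ' : N ≤ Q' := sup_le inf_le_right inf_le_right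
  have hstable : ∀ v : G, (∀ q ∈ Q', v * q * v⁻¹ * q⁻¹ ∈ N) → ∀ n ∈ N, v * n * v⁻¹ ∈ N := fun v hv n hn => by
    simpa using N.mul_mem (hv n (hNQ' hn)) hn
  let M : Subgroup G :=
    { carrier := {v | (∀ q ∈ Q', v * q * v⁻¹ * q⁻¹ ∈ N) ∧ ∀ q ∈ Q', v⁻¹ * q * v * q⁻¹ ∈ N}
      one_mem' := ⟨fun q _ => by simp, fun q _ => by simp⟩
      mul_mem' := fun {u v} hu hv => by
        refine ⟨fun q hq => ?_, fun q hq => ?_⟩
        · have h := N.mul_mem (hstable u hu.1 _ (hv.1 q hq)) (hu.1 q hq)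
          simpa [mul_assoc] using h
        · have h1 := hu.2 q hq
          have h2 := hstable v⁻¹ (fun q hq => by simpa using hv.2 q hq) _ h1
          have h := N.mul_mem h2 (hv.2 q hq)
          simpa [mul_assoc] using h
      inv_mem' := fun {v} hv => ⟨fun q hq => by simpa using hv.2 q hq, fun q hq => by simpa using hv.1 q hq⟩ }
  have hWM : W ≤ M := fun v hv =>
    ⟨fun q hq => Subgroup.mem_sup_left (hcE v hv q hq), fun q hq => by
      simpa using Subgroup.mem_sup_left (T := F) (hcE _ (W.inv_mem hv) q hq)⟩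
  have hW'M : W' ≤ M := fun v hv =>
    ⟨fun q hq => Subgroup.mem_sup_right (hcF v hv q hq), fun q hq => by
      simpa using Subgroup.mem_sup_right (S := E) (hcF _ (W'.inv_mem hv) q hq)⟩
  -- the element of odd order
  set K := W ⊔ W'
  set m := w * (g * w * g⁻¹) with hm
  have hmK : m ∈ K := mul_mem (Subgroup.mem_sup_left hwW) (Subgroup.mem_sup_right ⟨w, hwW, rfl⟩)
  have hπm : π m = (r ^ 2)⁻¹ := by
    rw [hm, map_mul, map_mul, map_mul, map_inv, hg, hwa]
    have hai : a⁻¹ = a := inv_eq_of_mul_eq_one_right (hA a ⟨w, hwW, hwa⟩)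
    calc a * (r * a * r⁻¹) = a * r * a⁻¹ * r⁻¹ := by rw [hai]; simp only [mul_assoc]
      _ = (r ^ 2)⁻¹ := by rw [hinv, sq, mul_inv_rev]
  obtain ⟨n, o, ho, hno⟩ := Nat.exists_eq_pow_mul_and_not_dvd (orderOf_pos m).ne' 2 (by norm_num)
  set y := m ^ (2 ^ n)
  set p := orderOf r with hp
  haveI : Fact p.Prime := ⟨hr⟩
  have hodd : Odd p := hr.odd_of_ne_two hr2
  have hπy : orderOf (π y) = p := by
    rw [map_pow, hπm, inv_pow, orderOf_inv, ← pow_mul]
    exact Nat.Coprime.orderOf_pow (Nat.Coprime.mul_right (Nat.coprime_two_right.2 hodd)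
      ((Nat.coprime_two_right.2 hodd).pow_right n))
  have hyodd : Odd (orderOf y) := by
    rw [orderOf_pow' m (pow_ne_zero n two_ne_zero), hno, Nat.gcd_mul_right_left,
      Nat.mul_div_cancel_left o (Nat.two_pow_pos n)]
    exact Nat.odd_iff.2 (by omega)
  have hyp : y ^ p = 1 := by
    have h1 : y ^ p ∈ Q := (QuotientGroup.eq_one_iff _).1 (by
      show π (y ^ p) = 1
      rw [map_pow, ← hπy, pow_orderOf_eq_one])
    obtain ⟨i, hi⟩ := hQ2 ⟨_, h1⟩
    have h2 : (y ^ p) ^ (2 ^ i) = 1 := congrArg Subtype.val hi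
    have hd1 : orderOf (y ^ p) ∣ 2 ^ i := orderOf_dvd_of_pow_eq_one h2
    have hd2 : orderOf (y ^ p) ∣ orderOf y := orderOf_pow_dvd p
    exact orderOf_eq_one_iff.1 (Nat.eq_one_of_dvd_coprimes ((Nat.coprime_two_left.2 hyodd).pow_left i) hd1 hd2)
  have hy1 : y ≠ 1 := fun e => by
    rw [e, map_one, orderOf_one] at hπy
    exact hr.one_lt.ne hπy
  have hyord : orderOf y = p := orderOf_eq_prime hyp hy1
  have hyM : y ∈ M := M.pow_mem (sup_le hWM hW'M hmK) _
  have hyN : ∀ v ∈ N, y * v * y⁻¹ ∈ N := hstable y hyM.1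
  -- its fixed points
  set D := N ⊓ Subgroup.centralizer ({y} : Set G)
  have hE1 : E ⊓ Subgroup.centralizer (W' : Set G) ≤ D := by
    intro e he
    refine ⟨Subgroup.mem_sup_left he.1, ?_⟩
    have hle : K ≤ Subgroup.centralizer ({e} : Set G) := sup_le
      (fun v hv => Subgroup.mem_centralizer_singleton_iff.2 (Subgroup.mul_comm_of_mem_isMulCommutative W hv he.1.1))
      (fun v hv => Subgroup.mem_centralizer_singleton_iff.2 (he.2 v hv))
    exact Subgroup.mem_centralizer_singleton_iff.2 ((Subgroup.mem_centralizer_singleton_iff.1 (hle (K.pow_mem hmK _))).symm)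
  have hF1 : F ⊓ Subgroup.centralizer (W : Set G) ≤ D := by
    intro e he
    refine ⟨Subgroup.mem_sup_right he.1, ?_⟩
    have hle : K ≤ Subgroup.centralizer ({e} : Set G) := sup_le
      (fun v hv => Subgroup.mem_centralizer_singleton_iff.2 (he.2 v hv))
      (fun v hv => by
        obtain ⟨v, hv, rfl⟩ := hv
        obtain ⟨e', he', rfl⟩ := he.1.1
        exact Subgroup.mem_centralizer_singleton_iff.2 (by
          rw [← map_mul, ← map_mul, Subgroup.mul_comm_of_mem_isMulCommutative W hv he']))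
    exact Subgroup.mem_centralizer_singleton_iff.2 ((Subgroup.mem_centralizer_singleton_iff.1 (hle (K.pow_mem hmK _))).symm)
  have hDne : D ≠ N := by
    intro e
    refine hy1 ?_
    have hyN' : ∀ v ∈ N, y * v = v * y := fun v hv =>
      (Subgroup.mem_centralizer_singleton_iff.1 (e.ge hv).2).symm
    have hyQ : y ∈ Subgroup.centralizer (Q : Set G) := by
      intro q hq
      set c := y * q * y⁻¹ * q⁻¹ with hcdef
      have hcN : c ∈ N := hyM.1 q (hQQ' hq)
      have hq' : y * q * y⁻¹ = c * q := by rw [hcdef]; group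
      have hpow : ∀ i : ℕ, y ^ i * q * (y ^ i)⁻¹ = c ^ i * q := by
        intro i
        induction i with
        | zero => simp
        | succ i ih =>
          calc y ^ (i + 1) * q * (y ^ (i + 1))⁻¹ = y * (y ^ i * q * (y ^ i)⁻¹) * y⁻¹ := by rw [pow_succ']; group
            _ = (y * c ^ i) * q * y⁻¹ := by rw [ih]; simp only [mul_assoc]
            _ = c ^ i * (y * q * y⁻¹) := by rw [hyN' _ (N.pow_mem hcN i)]; simp only [mul_assoc]
            _ = c ^ (i + 1) * q := by rw [hq', pow_succ]; simp only [mul_assoc]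
      have h := hpow p
      rw [hyp, one_mul, inv_one, mul_one, right_eq_mul] at h
      obtain ⟨i, hi⟩ := hQ'2 ⟨c, hNQ' hcN⟩
      have hc1 : c = 1 := orderOf_eq_one_iff.1 (Nat.eq_one_of_dvd_coprimes
        ((Nat.coprime_two_left.2 hodd).pow_left i) (orderOf_dvd_of_pow_eq_one (congrArg Subtype.val hi))
        (orderOf_dvd_of_pow_eq_one h))
      rw [hc1, one_mul, mul_inv_eq_iff_eq_mul] at hq'
      exact hq'.symm
    have hyQ' : π y = 1 := (QuotientGroup.eq_one_iff y).2 (hcon hyQ)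
    rw [hyQ', orderOf_one] at hπy
    exact absurd hπy hr.one_lt.ne
  let P := Subgroup.zpowers y
  have hmemP : ∀ h : P, ∀ v ∈ N, (h : G) * v * (h : G)⁻¹ ∈ N := by
    intro h
    obtain ⟨i, hi⟩ := mem_powers_iff_mem_zpowers.2 h.2
    rw [← hi]
    clear hi
    induction i with
    | zero => intro v hv; simpa using hv
    | succ i ih =>
      intro v hv
      have := ih _ (hyN v hv)
      simpa [pow_succ, mul_assoc] using this
  letI : MulAction P N :=
    { smul := fun h v => ⟨(h : G) * v * (h : G)⁻¹, hmemP h v v.2⟩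
      one_smul := fun v => Subtype.ext (by show (1 : G) * v * (1 : G)⁻¹ = v; simp)
      mul_smul := fun h h' v => Subtype.ext (by
        show (h : G) * h' * v * ((h : G) * h')⁻¹ = h * (h' * v * (h' : G)⁻¹) * (h : G)⁻¹
        group) }
  have hP : IsPGroup p P := IsPGroup.of_card (n := 1) (by rw [pow_one, Nat.card_zpowers, hyord])
  have hmod := hP.card_modEq_card_fixedPoints N
  have hfp : Nat.card (MulAction.fixedPoints P N) = Nat.card D := by
    refine Nat.card_congr
      { toFun := fun v => ⟨v.1.1, v.1.2, Subgroup.mem_centralizer_singleton_iff.2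
          (mul_inv_eq_iff_eq_mul.1 (congrArg Subtype.val (v.2 ⟨y, Subgroup.mem_zpowers y⟩))).symm⟩
        invFun := fun v => ⟨⟨v.1, v.2.1⟩, fun h => Subtype.ext ?_⟩
        left_inv := fun v => rfl
        right_inv := fun v => rfl }
    show (h : G) * v.1 * (h : G)⁻¹ = v.1
    obtain ⟨i, hi⟩ := Subgroup.mem_zpowers_iff.1 h.2
    rw [← hi, mul_inv_eq_iff_eq_mul]
    exact ((show Commute v.1 y from Subgroup.mem_centralizer_singleton_iff.1 v.2.2).zpow_right i).symm.eq
  rw [hfp] at hmod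
  obtain ⟨nN, hnN⟩ := (IsPGroup.iff_card (p := 2)).1 (hQ'2.to_le hNQ')
  obtain ⟨nD, hnD⟩ := (IsPGroup.iff_card (p := 2)).1 (hQ'2.to_le (inf_le_left.trans hNQ' : D ≤ Q'))
  have hdb : nD < nN := by
    rcases lt_or_ge nD nN with h | h
    · exact h
    · refine absurd (Subgroup.eq_of_le_of_card_ge (inf_le_left : D ≤ N) ?_) hDne
      rw [hnN, hnD]
      exact Nat.pow_le_pow_right two_pos h
  have hdvd : p ∣ 2 ^ (nN - nD) - 1 := by
    rw [hnN, hnD] at hmod
    have h1 : p ∣ 2 ^ nN - 2 ^ nD := (Nat.modEq_iff_dvd' (Nat.pow_le_pow_right two_pos hdb.le)).1 hmod.symm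
    rw [show 2 ^ nN - 2 ^ nD = 2 ^ nD * (2 ^ (nN - nD) - 1) by
      rw [Nat.mul_sub, mul_one, ← pow_add, Nat.add_sub_cancel' hdb.le]] at h1
    exact (Nat.Coprime.dvd_mul_left (Nat.Coprime.pow_right _ ((Nat.coprime_primes hr Nat.prime_two).2 hr2))).1 h1
  have hj := hbig (nN - nD) (by omega) hdvd
  -- counting
  set E1 := E ⊓ Subgroup.centralizer (W' : Set G)
  set F1 := F ⊓ Subgroup.centralizer (W : Set G)
  have hnorm : E ≤ Subgroup.normalizer (F : Set G) := by
    intro e he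
    rw [Subgroup.mem_normalizer_iff]
    have hsub : ∀ e ∈ E, ∀ f ∈ F, e * f * e⁻¹ ∈ F := fun e he f hf =>
      ⟨hQ'W' e he.2 f hf.1, Q'.mul_mem (Q'.mul_mem he.2 hf.2) (Q'.inv_mem he.2)⟩
    refine fun f => ⟨hsub e he f, fun hf => ?_⟩
    simpa [mul_assoc] using hsub e⁻¹ (E.inv_mem he) _ hf
  have hcN := card_sup_mul_inf hnorm
  have hinf : E ⊓ F = E1 ⊓ F1 := by
    refine le_antisymm (fun z hz => ⟨⟨hz.1, fun v hv => ?_⟩, hz.2, fun v hv => ?_⟩)
      (inf_le_inf inf_le_left inf_le_left)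
    · obtain ⟨z', hz', hzz'⟩ := hz.2.1
      obtain ⟨v, hv', rfl⟩ := hv
      rw [← hzz', ← map_mul, ← map_mul, Subgroup.mul_comm_of_mem_isMulCommutative W hv' hz']
    · exact Subgroup.mul_comm_of_mem_isMulCommutative W hv hz.1.1
  have hcD := (Products.card_mul_card_le E1 F1).trans
    (Nat.mul_le_mul_right _ (Subgroup.card_le_of_le (sup_le hE1 hF1)))
  obtain ⟨zz, hzz⟩ := (IsPGroup.iff_card (p := 2)).1 (hQ'2.to_le (inf_le_left.trans inf_le_right : E ⊓ F ≤ Q'))
  rw [← hinf, hx1, hz1, hnD, hzz, ← pow_add, ← pow_add] at hcD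
  rw [← hNdef, hnN, hx, hFc, hzz, ← pow_add, ← pow_add] at hcN
  have h1 := Nat.pow_right_injective (le_refl 2) hcN
  have h2 := (Nat.pow_le_pow_iff_right (le_refl 2)).1 hcD
  omega

omit hc hcon in
/-- The conjugates of a tame subgroup inside `S` commute. -/
theorem conj_commute {S : Sylow 2 G} {W : Subgroup G} (hW : Tame (S : Subgroup G) W)
    (hWn : ∀ g : G, W.map (MulAut.conj g).toMonoidHom ≤ (S : Subgroup G)) (g : G) :
    W.map (MulAut.conj g).toMonoidHom ≤ Subgroup.centralizer (W : Set G) := by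
  obtain ⟨hWS, hn, hel, hb⟩ := id hW
  haveI := hel.1
  have key : ∀ g : G, ¬ W.map (MulAut.conj g).toMonoidHom ≤ Subgroup.centralizer (W : Set G) →
      Nat.card W ^ 3 * Nat.card ↥(W ⊓ Subgroup.centralizer ((W.map (MulAut.conj g).toMonoidHom : Subgroup G) : Set G)) ^ 2 <
        Nat.card W ^ 2 * Nat.card ↥(W.map (MulAut.conj g).toMonoidHom ⊓ Subgroup.centralizer (W : Set G)) ^ 3 := by
    intro g hne
    have h1 := (hb _ (hWn g) ⟨Subgroup.commutator_le.2 ?_, ?_, hne⟩).1
    · rwa [Subgroup.card_map_of_injective (MulAut.conj g).injective] at h1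
    · rintro _ ⟨a, ha, rfl⟩ _ ⟨b, hb, rfl⟩
      rw [commutatorElement_eq_one_iff_mul_comm.2 (by
        rw [← map_mul, ← map_mul, Subgroup.mul_comm_of_mem_isMulCommutative W ha hb])]
      exact one_mem _
    · rintro _ ⟨w, hw, rfl⟩
      rw [← map_pow, hel.2 w hw, map_one]; exact one_mem _
  by_contra hne
  set W' := W.map (MulAut.conj g).toMonoidHom
  set W'' := W.map (MulAut.conj g⁻¹).toMonoidHom
  have hback : W''.map (MulAut.conj g).toMonoidHom = W := by
    ext y; rw [mem_map_conj, mem_map_conj]; simp [mul_assoc]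
  have hne' : ¬ W'' ≤ Subgroup.centralizer (W : Set G) := by
    intro h
    refine hne (Subgroup.le_centralizer_iff.1 ?_)
    calc W = W''.map (MulAut.conj g).toMonoidHom := hback.symm
      _ ≤ Subgroup.centralizer (W' : Set G) :=
        (le_centralizer_map_iff _ (MulAut.conj g).injective W'' W).2 h
  have h1 := key g hne
  have h2 := key g⁻¹ hne'
  rw [← Subgroup.card_map_of_injective (K := W ⊓ Subgroup.centralizer (W'' : Set G))
      (f := (MulAut.conj g).toMonoidHom) (MulAut.conj g).injective,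
    ← Subgroup.card_map_of_injective (K := W'' ⊓ Subgroup.centralizer (W : Set G))
      (f := (MulAut.conj g).toMonoidHom) (MulAut.conj g).injective,
    map_centralizer _ (MulAut.conj g).injective, map_centralizer _ (MulAut.conj g).injective, hback] at h2
  have ha : Nat.card ↥(W' ⊓ Subgroup.centralizer (W : Set G)) ≤ Nat.card W := by
    rw [← Subgroup.card_map_of_injective (K := W) (f := (MulAut.conj g).toMonoidHom) (MulAut.conj g).injective]
    exact Subgroup.card_le_of_le inf_le_left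
  have hb' : Nat.card ↥(W ⊓ Subgroup.centralizer (W' : Set G)) ≤ Nat.card W := Subgroup.card_le_of_le inf_le_left
  generalize Nat.card ↥(W' ⊓ Subgroup.centralizer (W : Set G)) = a at h1 h2 ha
  generalize Nat.card ↥(W ⊓ Subgroup.centralizer (W' : Set G)) = b at h1 h2 hb'
  generalize Nat.card W = n at h1 h2 ha hb'
  rcases le_total a b with hab | hab
  · have : n ^ 2 * a ^ 3 ≤ n ^ 3 * b ^ 2 := by
      calc n ^ 2 * a ^ 3 = n ^ 2 * (a * a ^ 2) := by ring
        _ ≤ n ^ 2 * (n * b ^ 2) := Nat.mul_le_mul_left _ (Nat.mul_le_mul ha (Nat.pow_le_pow_left hab 2))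
        _ = _ := by ring
    omega
  · have : n ^ 2 * b ^ 3 ≤ n ^ 3 * a ^ 2 := by
      calc n ^ 2 * b ^ 3 = n ^ 2 * (b * b ^ 2) := by ring
        _ ≤ n ^ 2 * (n * a ^ 2) := Nat.mul_le_mul_left _ (Nat.mul_le_mul hb' (Nat.pow_le_pow_left hab 2))
        _ = _ := by ring
    omega

/-- The largest elementary abelian subgroups centralize the normal closure of a tame subgroup. -/
theorem exists_closure_module {S : Sylow 2 G} {W : Subgroup G} (hW : Tame (S : Subgroup G) W) :
    ∃ V : Subgroup G, V.Normal ∧ W ≤ V ∧ ∀ A ∈ maxEl G, A ≤ Subgroup.centralizer (V : Set G) := by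
  classical
  haveI : Fact (Nat.Prime 2) := ⟨Nat.prime_two⟩
  obtain ⟨hWS, hn, hel, hb⟩ := id hW
  haveI := hel.1
  have hWQ := le_pCore_of_tame hfree hc hcon hW
  have hWn : ∀ g : G, W.map (MulAut.conj g).toMonoidHom ≤ (S : Subgroup G) := by
    rintro g _ ⟨w, hw, rfl⟩
    exact pCore_le_sylow S ((inferInstance : (pCore 2 G).Normal).conj_mem w (hWQ hw) g)
  set V := Subgroup.normalClosure (W : Set G) with hVdef
  have hWV : W ≤ V := fun w hw => Subgroup.subset_normalClosure hw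
  have hcomm : ∀ g h : G, ∀ a ∈ W, ∀ b ∈ W, Commute (g * a * g⁻¹) (h * b * h⁻¹) := by
    intro g h a ha b hb
    have h1 := conj_commute hfree hW hWn (g⁻¹ * h) ⟨b, hb, rfl⟩ a ha
    have h2 := congrArg (MulAut.conj g) h1
    show _ * _ = _ * _
    simpa [mul_assoc] using h2
  have hVel : IsElementaryAbelian 2 V := by
    have hab : ∀ x ∈ Group.conjugatesOfSet (W : Set G), ∀ y ∈ Group.conjugatesOfSet (W : Set G),
        x * y = y * x := by
      intro x hx y hy
      obtain ⟨a, ha, hax⟩ := Group.mem_conjugatesOfSet_iff.1 hx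
      obtain ⟨b, hb, hby⟩ := Group.mem_conjugatesOfSet_iff.1 hy
      obtain ⟨g, rfl⟩ := isConj_iff.1 hax
      obtain ⟨h, rfl⟩ := isConj_iff.1 hby
      exact hcomm g h a ha b hb
    have hVc : IsMulCommutative V := by
      rw [hVdef]
      exact Subgroup.isMulCommutative_closure hab
    refine ⟨hVc, fun x hx => ?_⟩
    induction hx using Subgroup.closure_induction with
    | mem x hx =>
      obtain ⟨a, ha, hax⟩ := Group.mem_conjugatesOfSet_iff.1 hx
      obtain ⟨g, rfl⟩ := isConj_iff.1 hax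
      rw [conj_pow, hel.2 a ha, mul_one, mul_inv_cancel]
    | one => exact one_pow _
    | mul x y hx hy ihx ihy =>
      rw [(show Commute x y from Subgroup.mul_comm_of_mem_isMulCommutative V hx hy).mul_pow, ihx, ihy, one_mul]
    | inv x _ ih => rw [inv_pow, ih, inv_one]
  haveI hVc : IsMulCommutative V := hVel.1
  haveI : (Subgroup.centralizer (V : Set G)).Normal := Subgroup.normal_centralizer
  refine ⟨V, inferInstance, hWV, ?_⟩
  letI : CommGroup V := { (inferInstance : Group V) with mul_comm := hVc.is_comm.comm }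
  set C := Subgroup.centralizer (V : Set G)
  let π := QuotientGroup.mk' C
  have hπ : Function.Surjective π := QuotientGroup.mk'_surjective C
  let ρ : G →* MulAut V := MulAut.conjNormal
  have hρC : C ≤ ρ.ker := fun c hc => MulEquiv.ext fun v => Subtype.ext (by
    show ((MulAut.conjNormal c v : V) : G) = v
    rw [MulAut.conjNormal_apply, mul_inv_eq_iff_eq_mul]
    exact (hc v v.2).symm)
  let φ : G ⧸ C →* MulAut V := QuotientGroup.lift C ρ hρC
  have hval : ∀ g (v : V), ((φ (π g) v : V) : G) = g * v * g⁻¹ := fun g v => MulAut.conjNormal_apply g v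
  have hinj : Function.Injective φ := by
    refine (injective_iff_map_eq_one φ).2 fun y hy => ?_
    obtain ⟨g, rfl⟩ := hπ y
    refine (QuotientGroup.eq_one_iff g).2 fun v hv => ?_
    have := congrArg Subtype.val (show φ (π g) ⟨v, hv⟩ = ⟨v, hv⟩ by rw [hy]; rfl)
    rw [hval] at this
    exact (mul_inv_eq_iff_eq_mul.1 this).symm
  have hF := fam_image hVel φ hval
  set T : Sylow 2 (G ⧸ C) := S.mapSurjective hπ
  have hT : (T : Subgroup (G ⧸ C)) = (S : Subgroup G).map π := Sylow.coe_mapSurjective hπ S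
  set W0 := W.subgroupOf V
  have hW0 : W0.map V.subtype = W := Subgroup.map_subgroupOf_eq_of_le hWV
  have hstab : ∀ g : G, π g ∈ stab φ W0 ↔ g ∈ Subgroup.centralizer (W : Set G) := by
    intro g
    constructor
    · intro h v hv
      have h1 := congrArg Subtype.val (h ⟨v, hWV hv⟩ hv)
      rw [hval] at h1
      exact (mul_inv_eq_iff_eq_mul.1 h1).symm
    · intro h v hv
      refine Subtype.ext ((hval g v).trans ?_)
      exact mul_inv_eq_iff_eq_mul.2 (h v hv).symm
  have hstr : Strict φ (T : Subgroup (G ⧸ C)) W0 := by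
    intro D hD hsq hcm hne
    set R := (S : Subgroup G) ⊓ D.comap π
    have hmap : R.map π = D := by
      refine le_antisymm (Subgroup.map_le_iff_le_comap.2 inf_le_right) fun d hd => ?_
      obtain ⟨s, hs, rfl⟩ := hT.le (hD hd)
      exact ⟨s, ⟨hs, hd⟩, rfl⟩
    have hact : Act W R := by
      refine ⟨Subgroup.commutator_le.2 fun a ha b hb => (hstab _).1 ?_, fun a ha => (hstab _).1 ?_, fun hle => hne ?_⟩
      · rw [commutatorElement_def, map_mul, map_mul, map_mul, map_inv, map_inv]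
        exact hcm _ ha.2 _ hb.2
      · rw [map_pow, sq]; exact hsq _ ha.2
      · intro d hd
        obtain ⟨s, hs, rfl⟩ := hmap.ge hd
        exact (hstab s).2 (hle hs)
    have h1 := (hb R inf_le_left hact).1
    have e1 := card_map_mul_inf π R
    have e2 := card_map_mul_inf π (R ⊓ Subgroup.centralizer (W : Set G))
    have e3 : (R ⊓ Subgroup.centralizer (W : Set G)).map π = D ⊓ stab φ W0 := by
      refine le_antisymm ?_ ?_
      · rintro _ ⟨s, hs, rfl⟩
        exact ⟨hs.1.2, (hstab s).2 hs.2⟩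
      · rintro d ⟨hd, hds⟩
        obtain ⟨s, hs, rfl⟩ := hmap.ge hd
        exact ⟨s, ⟨hs, (hstab s).1 hds⟩, rfl⟩
    have e4 : R ⊓ Subgroup.centralizer (W : Set G) ⊓ π.ker = R ⊓ π.ker := by
      refine le_antisymm (inf_le_inf_right _ inf_le_left) fun s hs => ⟨⟨hs.1, ?_⟩, hs.2⟩
      have h2 := hs.2
      rw [QuotientGroup.ker_mk'] at h2
      exact Subgroup.centralizer_le hWV h2
    have e5 : Nat.card ↥(W0 ⊓ fix φ D) = Nat.card ↥(W ⊓ Subgroup.centralizer (R : Set G)) := by
      rw [← Subgroup.card_map_of_injective V.subtype_injective]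
      congr 2
      ext v
      constructor
      · rintro ⟨u, ⟨hu, hf⟩, rfl⟩
        refine ⟨hu, fun s hs => ?_⟩
        have h2 := congrArg Subtype.val (hf (π s) hs.2)
        rw [hval] at h2
        exact mul_inv_eq_iff_eq_mul.1 h2
      · rintro ⟨hv, hc'⟩
        refine ⟨⟨v, hWV hv⟩, ⟨hv, fun d hd => ?_⟩, rfl⟩
        obtain ⟨s, hs, rfl⟩ := hmap.ge hd
        exact Subtype.ext ((hval s _).trans (mul_inv_eq_iff_eq_mul.2 (hc' s hs)))
    rw [e3, e4] at e2
    rw [hmap] at e1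
    have e6 : Nat.card W0 = Nat.card W := by
      rw [← Subgroup.card_map_of_injective V.subtype_injective, hW0]
    rw [e5, e6]
    rw [← e1, ← e2] at h1
    have hsle : Nat.card ↥(D ⊓ stab φ W0) ≤ Nat.card D := Subgroup.card_le_of_le inf_le_left
    generalize Nat.card ↥(D ⊓ stab φ W0) = s at h1 hsle ⊢
    generalize Nat.card ↥(R ⊓ π.ker) = c at h1
    generalize Nat.card D = d at h1 hsle ⊢
    generalize Nat.card ↥(W ⊓ Subgroup.centralizer (R : Set G)) = f at h1 ⊢
    generalize Nat.card W = n at h1 ⊢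
    by_contra hle
    rw [not_lt] at hle
    have : n ^ 2 * (s * c) ^ 3 ≤ (d * c) ^ 3 * f ^ 2 := by
      calc n ^ 2 * (s * c) ^ 3 = (n * s) ^ 2 * (s * c ^ 3) := by ring
        _ ≤ (d * f) ^ 2 * (d * c ^ 3) := Nat.mul_le_mul (Nat.pow_le_pow_left hle 2) (Nat.mul_le_mul_right _ hsle)
        _ = _ := by ring
    omega
  have htop : (⨆ x : G ⧸ C, tr φ x W0) = ⊤ := by
    refine Subgroup.map_injective V.subtype_injective ?_
    rw [← MonoidHom.range_eq_map, Subgroup.range_subtype]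
    refine le_antisymm (Subgroup.map_subtype_le _) ?_
    haveI : ((⨆ x : G ⧸ C, tr φ x W0).map V.subtype).Normal := by
      refine ⟨fun v hv g => ?_⟩
      obtain ⟨u, hu, rfl⟩ := hv
      refine ⟨φ (π g) u, ?_, hval g u⟩
      have hle : (⨆ x : G ⧸ C, tr φ x W0).map (φ (π g)).toMonoidHom ≤ ⨆ x : G ⧸ C, tr φ x W0 := by
        rw [Subgroup.map_iSup]
        refine iSup_le fun y => le_trans (le_of_eq ?_) (le_iSup (fun z => tr φ z W0) (π g * y))
        show (W0.map (φ y).toMonoidHom).map (φ (π g)).toMonoidHom = W0.map (φ (π g * y)).toMonoidHom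
        rw [Subgroup.map_map, map_mul]
        rfl
      exact hle ⟨u, hu, rfl⟩
    refine Subgroup.normalClosure_le_normal fun w hw => ⟨⟨w, hWV hw⟩, ?_, rfl⟩
    exact le_iSup (fun z => tr φ z W0) 1 ⟨⟨w, hWV hw⟩, hw, by
      show φ 1 _ = _; rw [map_one, MulAut.one_apply]⟩
  have hs := strict_closure (fun v : V => Subtype.ext (by rw [Subgroup.coe_mul, ← pow_two]; exact hVel.2 v v.2))
    (not_involves_quotient hfree V (PLocal.isPGroup_elementary hVel)) T hstr
  rw [htop] at hs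
  intro A hA
  obtain ⟨P, hP⟩ := (PLocal.isPGroup_elementary hA.1).exists_le_sylow
  obtain ⟨g, hg⟩ := MulAction.exists_smul_eq G P S
  set A' := A.map (MulAut.conj g).toMonoidHom
  have hA'S : A' ≤ (S : Subgroup G) := by rw [← hg]; exact Subgroup.map_mono hP
  have hA'C : A' ≤ C := by
    intro a ha
    refine (QuotientGroup.eq_one_iff a).1 (hinj ?_)
    rw [map_one]
    exact MulEquiv.ext fun v => hF.le_stab_of_strict hs (A := A'.map π) ⟨A', maxEl_conj g hA, rfl⟩
      (hT.symm ▸ Subgroup.map_mono hA'S) ⟨a, ha, rfl⟩ v (Subgroup.mem_top v)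
  intro a ha
  have h1 := (inferInstance : C.Normal).conj_mem _ (hA'C ⟨a, ha, rfl⟩) g⁻¹
  simpa [mul_assoc] using h1

end CfsgLib.S3Free.EGrp
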