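import Cfsg.Agent.Lib.S3Free.TwoBound

/-!
The dual form `|A|² ≤ |[V, A]|` of the squared offender bound.
-/

set_option autoImplicit false
set_option linter.unusedSectionVars false
set_option maxHeartbeats 1000000

namespace CfsgLib.S3Free.TwoF

open CfsgLib CfsgLib.Local CfsgLib.OffenderTwo Cfsg CfsgLib.S3Free

universe u v

variable {X : Type u} [Group X] {V : Type v} [CommGroup V]

/-- The action on the characters. -/
noncomputable def dual (φ : X →* MulAut V) : X →* MulAut (V →* ℂˣ) :=
  MonoidHom.mk' (fun g =>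
    { toFun := fun f => f.comp (φ g)⁻¹.toMonoidHom
      invFun := fun f => f.comp (φ g).toMonoidHom
      left_inv := fun f => MonoidHom.ext fun v => by
        show f ((φ g)⁻¹ (φ g v)) = f v
        rw [MulAut.inv_apply_self]
      right_inv := fun f => MonoidHom.ext fun v => by
        show f (φ g ((φ g)⁻¹ v)) = f v
        rw [MulAut.apply_inv_self]
      map_mul' := fun f f' => MonoidHom.ext fun v => rfl })
    (fun g h => MulEquiv.ext fun f => MonoidHom.ext fun v => by
      show f ((φ (g * h))⁻¹ v) = f ((φ h)⁻¹ ((φ g)⁻¹ v))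
      rw [map_mul, mul_inv_rev, MulAut.mul_apply])

/-- The subgroup generated by the displacements of `A`. -/
def moved (φ : X →* MulAut V) (A : Subgroup X) : Subgroup V :=
  Subgroup.closure {w | ∃ a ∈ A, ∃ v : V, φ a v / v = w}

theorem comm_sq_bound [Finite X] [Finite V] {φ : X →* MulAut V} (hinj : Function.Injective φ)
    (h2 : ∀ v : V, v * v = 1) (hfree : ¬ Involves P3 X) (hO : pCore 2 X = ⊥)
    (hc : IsCompositionKGroupWith IsSuzukiOrPSL2OddPowerThree X) {A : Subgroup X} (hA : ∀ a ∈ A, a * a = 1) :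
    Nat.card A ^ 2 ≤ Nat.card (moved φ A) := by
  haveI : NeZero ((Monoid.exponent V : ℕ) : ℂ) := ⟨Nat.cast_ne_zero.2 Monoid.exponent_ne_zero_of_finite⟩
  haveI : Finite (V →* ℂˣ) := Nat.finite_of_card_ne_zero
    ((CommGroup.card_monoidHom_of_hasEnoughRootsOfUnity V ℂ).trans_ne Nat.card_pos.ne')
  have hinjd : Function.Injective (dual φ) := by
    refine (injective_iff_map_eq_one _).2 fun g hg => hinj ?_
    rw [map_one]
    refine inv_eq_one.1 (MulEquiv.ext fun v => ?_)
    rw [MulAut.one_apply]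
    by_contra hne
    obtain ⟨χ, hχ⟩ := CommGroup.exists_apply_ne_one_of_hasEnoughRootsOfUnity V ℂ
      (a := (φ g)⁻¹ v / v) (fun e => hne (div_eq_one.1 e))
    refine hχ ?_
    have h := DFunLike.congr_fun (MulEquiv.congr_fun hg χ) v
    change χ ((φ g)⁻¹ v) = χ v at h
    rw [map_div, h, div_self']
  have h2d : ∀ f : V →* ℂˣ, f * f = 1 := fun f => MonoidHom.ext fun v => by
    show f v * f v = 1
    rw [← map_mul, h2, map_one]
  have key := sq_bound (φ := dual φ) hfree hO hc hinjd (fun f => h2d f) hA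
  set N := moved φ A
  let res : (V ⧸ N →* ℂˣ) → fix (dual φ) A := fun f => ⟨f.comp (QuotientGroup.mk' N), fun b hb =>
    MonoidHom.ext fun v => by
      show f (QuotientGroup.mk' N ((φ b)⁻¹ v)) = f (QuotientGroup.mk' N v)
      congr 1
      refine QuotientGroup.eq.2 (Subgroup.subset_closure ⟨b, hb, (φ b)⁻¹ v, ?_⟩)
      rw [MulAut.apply_inv_self, div_eq_inv_mul]⟩
  have hres : Function.Injective res := fun f f' h => by
    refine MonoidHom.ext fun x => ?_
    obtain ⟨v, rfl⟩ := QuotientGroup.mk'_surjective N x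
    exact DFunLike.congr_fun (congrArg Subtype.val h) v
  have hle := Nat.card_le_card_of_injective res hres
  haveI : NeZero ((Monoid.exponent (V ⧸ N) : ℕ) : ℂ) :=
    ⟨Nat.cast_ne_zero.2 Monoid.exponent_ne_zero_of_finite⟩
  rw [CommGroup.card_monoidHom_of_hasEnoughRootsOfUnity (V ⧸ N) ℂ] at hle
  rw [CommGroup.card_monoidHom_of_hasEnoughRootsOfUnity V ℂ,
    Subgroup.card_eq_card_quotient_mul_card_subgroup N] at key
  have h1 : Nat.card A ^ 2 * Nat.card (V ⧸ N) ≤ Nat.card (V ⧸ N) * Nat.card N :=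
    le_trans (Nat.mul_le_mul (le_refl _) hle) key
  rw [mul_comm (Nat.card (V ⧸ N)) (Nat.card N)] at h1
  exact Nat.le_of_mul_le_mul_right h1 Nat.card_pos

end CfsgLib.S3Free.TwoF
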