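import Cfsg.Agent.Lib.S3Free.TwoCore
import Cfsg.Agent.Lib.JComp.Comp

/-!
The three 2-factorizations of an `S₄`-free group of characteristic 2 with restricted composition factors.
-/

set_option autoImplicit false
set_option linter.unusedSectionVars false
set_option maxHeartbeats 1000000

open scoped Pointwise commutatorElement

namespace CfsgLib.S3Free.EGrp

open CfsgLib CfsgLib.Local CfsgLib.OffenderTwo Cfsg CfsgLib.S3Free

universe u

variable {G : Type u} [Group G]

theorem isEGroup_map_iff {H : Type u} [Group H] (f : H →* G) (hf : Function.Injective f) (U : Subgroup H) :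
    IsEGroup ↥(U.map f) ↔ IsEGroup ↥U := by
  rw [isEGroup_iff (U.map f), isEGroup_iff_of_injective (f.comp U.subtype) (hf.comp U.subtype_injective),
    MonoidHom.range_comp, Subgroup.range_subtype]

/-- Composition factors of a normal subgroup. -/
theorem normal_compK {K : ∀ (X : Type u) [Group X], Prop}
    (hK : ∀ (Y Z : Type u) [Group Y] [Group Z], Nonempty (Y ≃* Z) → K Y → K Z)
    (hc : IsCompositionKGroupWith K G) (C : Subgroup G) [hC : C.Normal] : IsCompositionKGroupWith K C := by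
  intro H hH N _ hs hna
  set H' := H.map C.subtype
  let e : H ≃* H' := H.equivMapOfInjective C.subtype C.subtype_injective
  have hH' : H'.IsSubnormal := Subgroup.IsSubnormal.trans' hH hC.isSubnormal
  haveI : (N.map e.toMonoidHom).Normal := Subgroup.Normal.map inferInstance _ e.surjective
  let q : H ⧸ N ≃* H' ⧸ N.map e.toMonoidHom := QuotientGroup.congr N _ e rfl
  refine hK _ _ ⟨q.symm⟩ (hc H' hH' (N.map e.toMonoidHom) q.symm.isSimpleGroup fun hcm => hna ⟨⟨fun a b => q.injective ?_⟩⟩)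
  rw [map_mul, map_mul]
  exact hcm.1.comm _ _

variable [Finite G]

theorem exists_maxEl_le (S : Sylow 2 G) : ∃ A ∈ maxEl G, A ≤ (S : Subgroup G) := by
  haveI : Fact (Nat.Prime 2) := ⟨Nat.prime_two⟩
  obtain ⟨A, hA, hmax⟩ := Set.exists_max_image {B : Subgroup G | IsElementaryAbelian 2 B}
    (fun B => Nat.card B) (Set.toFinite _)
    ⟨⊥, ⟨inferInstance, fun x hx => by rw [Subgroup.mem_bot.1 hx, one_pow]⟩⟩
  obtain ⟨P, hP⟩ := (PLocal.isPGroup_elementary hA).exists_le_sylow
  obtain ⟨x, hx⟩ := MulAction.exists_smul_eq G P S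
  refine ⟨_, maxEl_conj x ⟨hA, hmax⟩, ?_⟩
  rw [← hx]
  exact Subgroup.map_mono hP

theorem jh_map {H : Type u} [Group H] [Finite H] (f : H →* G) (hf : Function.Injective f) (S : Subgroup H) :
    (jh S).map f = jh (S.map f) := by
  refine le_antisymm ?_ ?_
  · rw [Subgroup.map_le_iff_le_comap, jh_eq S]
    refine sSup_le ?_
    rintro U ⟨hUS, hU, hJ⟩
    refine Subgroup.map_le_iff_le_comap.1 (le_jh (Subgroup.map_mono hUS) ((isEGroup_map_iff f hf U).2 hU) ?_)
    rw [JComp.thompsonOf_map f hf]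
    exact Subgroup.map_mono hJ
  · rw [jh_eq (S.map f)]
    refine sSup_le ?_
    rintro U ⟨hUS, hU, hJ⟩
    have hUr : (U.comap f).map f = U :=
      Subgroup.map_comap_eq_self (hUS.trans (Subgroup.map_le_range _ _))
    rw [← hUr] at hU hUS ⊢
    refine Subgroup.map_mono (le_jh ((Subgroup.map_le_map_iff_of_injective hf).1 hUS) ((isEGroup_map_iff f hf _).1 hU) ?_)
    rw [← Subgroup.map_le_map_iff_of_injective hf, ← JComp.thompsonOf_map f hf, hUr]
    exact hJ

theorem jh_le (S : Subgroup G) : jh S ≤ S := Subgroup.map_subtype_le _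

/-- A normal subgroup of a group of characteristic 2 is of characteristic 2. -/
theorem char_two_normal (hcon : Subgroup.centralizer (pCore 2 G : Set G) ≤ pCore 2 G) (C : Subgroup G) [C.Normal] :
    Subgroup.centralizer (pCore 2 C : Set C) ≤ pCore 2 C := by
  haveI : Fact (Nat.Prime 2) := ⟨Nat.prime_two⟩
  set Q := pCore 2 G
  set Q0 := Q ⊓ C
  haveI : (Subgroup.centralizer (Q0 : Set G)).Normal := Subgroup.normal_centralizer
  set D := C ⊓ Subgroup.centralizer (Q0 : Set G)
  have hD : IsPGroup 2 D := by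
    rintro ⟨x, hxC, hxQ⟩
    obtain ⟨k, m, hm2, hkm⟩ := Nat.exists_eq_pow_mul_and_not_dvd (orderOf_pos x).ne' 2 (by norm_num)
    refine ⟨k, Subtype.ext ?_⟩
    show x ^ 2 ^ k = 1
    set y := x ^ 2 ^ k with hy
    have hodd : Odd (orderOf y) := by
      rw [hy, orderOf_pow' x (pow_ne_zero k two_ne_zero), hkm, Nat.gcd_mul_right_left,
        Nat.mul_div_cancel_left m (Nat.two_pow_pos k)]
      exact Nat.odd_iff.2 (by omega)
    have hyC : y ∈ C := C.pow_mem hxC _
    have hyQ : y ∈ Subgroup.centralizer (Q0 : Set G) := Subgroup.pow_mem _ hxQ _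
    have hcent : y ∈ Subgroup.centralizer (Q : Set G) := by
      intro q hq
      set c := y * q * y⁻¹ * q⁻¹ with hcdef
      have hc0 : c ∈ Q0 := ⟨Q.mul_mem ((inferInstance : Q.Normal).conj_mem q hq y) (Q.inv_mem hq), by
        have := C.mul_mem hyC ((inferInstance : C.Normal).conj_mem _ (C.inv_mem hyC) q)
        simpa [hcdef, mul_assoc] using this⟩
      have hyc : y * c = c * y := (hyQ c hc0).symm
      have hq' : y * q * y⁻¹ = c * q := by rw [hcdef]; group
      have hpow : ∀ i : ℕ, y ^ i * q * (y ^ i)⁻¹ = c ^ i * q := by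
        intro i
        induction i with
        | zero => simp
        | succ i ih =>
          calc y ^ (i + 1) * q * (y ^ (i + 1))⁻¹ = y * (y ^ i * q * (y ^ i)⁻¹) * y⁻¹ := by rw [pow_succ']; group
            _ = (y * c ^ i) * q * y⁻¹ := by rw [ih]; simp only [mul_assoc]
            _ = c ^ i * (y * q * y⁻¹) := by
                rw [(show Commute y c from hyc).pow_right i]; simp only [mul_assoc]
            _ = c ^ (i + 1) * q := by rw [hq', pow_succ]; simp only [mul_assoc]
      have h := hpow (orderOf y)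
      rw [pow_orderOf_eq_one, one_mul, inv_one, mul_one, right_eq_mul] at h
      obtain ⟨i, hi⟩ := isPGroup_pCore 2 ⟨c, hc0.1⟩
      have hc1 : c = 1 := orderOf_eq_one_iff.1 (Nat.eq_one_of_dvd_coprimes
        ((Nat.coprime_two_left.2 hodd).pow_left i) (orderOf_dvd_of_pow_eq_one (congrArg Subtype.val hi))
        (orderOf_dvd_of_pow_eq_one h))
      rw [hc1, one_mul, mul_inv_eq_iff_eq_mul] at hq'
      exact hq'.symm
    obtain ⟨i, hi⟩ := isPGroup_pCore 2 ⟨y, hcon hcent⟩
    exact orderOf_eq_one_iff.1 (Nat.eq_one_of_dvd_coprimes ((Nat.coprime_two_left.2 hodd).pow_left i)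
      (orderOf_dvd_of_pow_eq_one (congrArg Subtype.val hi)) dvd_rfl)
  have hDQ : D ≤ Q := le_pCore hD
  haveI : (Q0.subgroupOf C).Normal := Subgroup.Normal.subgroupOf inferInstance C
  have hQ0 : Q0.subgroupOf C ≤ pCore 2 C :=
    le_pCore (((isPGroup_pCore 2).to_le inf_le_left).comap_of_injective C.subtype C.subtype_injective)
  intro x hx
  have hxD : (x : G) ∈ D := ⟨x.2, fun q hq => congrArg Subtype.val (hx ⟨q, hq.2⟩ (hQ0 hq))⟩
  exact hQ0 ⟨hDQ hxD, x.2⟩

variable (hfree : ¬ Involves (Equiv.Perm (Fin 4)) G)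
  (hc : IsCompositionKGroupWith IsSuzukiOrPSL2OddPowerThree G)
  (hcon : Subgroup.centralizer (pCore 2 G : Set G) ≤ pCore 2 G)

include hfree hc hcon in
/-- `G = C(Z(S)) N(Ĵ(S))`. -/
theorem exists_product_jh (S : Sylow 2 G) (g : G) :
    ∃ c ∈ Subgroup.centralizer
        (((S : Subgroup G) ⊓ Subgroup.centralizer ((S : Subgroup G) : Set G) : Subgroup G) : Set G),
      ∃ n ∈ Subgroup.normalizer (jh (S : Subgroup G) : Set G), g = c * n := by
  haveI : Fact (Nat.Prime 2) := ⟨Nat.prime_two⟩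
  obtain ⟨V, hVn, hV, hVQ, hVZ, hcore⟩ := exists_center_module hcon S
  haveI : (Subgroup.centralizer (V : Set G)).Normal := Subgroup.normal_centralizer
  set C := Subgroup.centralizer (V : Set G)
  have hVS : V ≤ (S : Subgroup G) := hVQ.trans (pCore_le_sylow S)
  have hA : ∀ A ∈ maxEl G, A ≤ C := fun A hA => maxEl_le_centralizer hfree hV hcore hA
  have hVJ : V ≤ thompsonSubgroupOf 2 (S : Subgroup G) := by
    obtain ⟨A', hA', hA'S⟩ := exists_maxEl_le S
    have hsup := isElementary_sup hA'.1 hV fun v hv a ha => (hA A' hA' ha v hv).symm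
    have hle : V ≤ A' := by
      have e := Subgroup.eq_of_le_of_card_ge (le_sup_left : A' ≤ A' ⊔ V) (hA'.2 _ hsup)
      exact e.ge.trans' le_sup_right
    exact hle.trans (PLocal.le_thompsonSubgroupOf hA'S hA')
  have hjC : jh (S : Subgroup G) ≤ C := by
    rw [jh_eq]
    refine sSup_le ?_
    rintro U ⟨hUS, hU, hJ⟩
    exact (isEGroup_iff U).1 hU V ⟨hVJ.trans hJ, Subgroup.le_normalizer_of_normal, hV,
      fun R _ hR => bnd_of_reduced hfree hc hV hcore hR⟩
  obtain ⟨P, hP⟩ := PLocal.exists_sylow_inf S C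
  have hfr := Sylow.normalizer_sup_eq_top P
  rw [hP] at hfr
  have hJeq : thompsonSubgroupOf 2 (S : Subgroup G) = offJoin (maxEl G) ((S : Subgroup G) ⊓ C) := by
    rw [thompson_eq_offJoin S]
    exact le_antisymm (sSup_le fun A hA' => le_offJoin hA'.1 (le_inf hA'.2 (hA A hA'.1)))
      (offJoin_mono _ inf_le_left)
  have hN : Subgroup.normalizer (((S : Subgroup G) ⊓ C : Subgroup G) : Set G) ≤
      Subgroup.normalizer (jh (S : Subgroup G) : Set G) := by
    intro x hx
    refine mem_normalizer_of_map_conj_eq (Subgroup.eq_of_le_of_card_ge ?_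
      (Subgroup.card_map_of_injective (MulAut.conj x).injective).ge)
    set f := (MulAut.conj x).toMonoidHom
    have hfix : ((S : Subgroup G) ⊓ C).map f = (S : Subgroup G) ⊓ C := map_conj_eq_of_mem_normalizer hx
    have hJfix : (thompsonSubgroupOf 2 (S : Subgroup G)).map f = thompsonSubgroupOf 2 (S : Subgroup G) := by
      refine Subgroup.eq_of_le_of_card_ge ?_ (Subgroup.card_map_of_injective (MulAut.conj x).injective).ge
      rw [hJeq]
      exact (map_offJoin_le _ (𝒪' := maxEl G) (fun A hA => maxEl_conj x hA) _).trans (offJoin_mono _ hfix.le)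
    rw [Subgroup.map_le_iff_le_comap, jh_eq]
    refine sSup_le ?_
    rintro U ⟨hUS, hU, hJ⟩
    have hUC : U ≤ C := (le_jh hUS hU hJ).trans hjC
    refine Subgroup.map_le_iff_le_comap.1 ?_
    rw [← jh_eq]
    refine le_jh ((Subgroup.map_mono (le_inf hUS hUC)).trans (hfix.le.trans inf_le_left))
      ((isEGroup_map_iff f (MulAut.conj x).injective U).2 hU) ?_
    rw [← hJfix]
    exact Subgroup.map_mono hJ
  have hg : g ∈ C ⊔ Subgroup.normalizer (((S : Subgroup G) ⊓ C : Subgroup G) : Set G) := by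
    rw [sup_comm, hfr]; exact Subgroup.mem_top g
  obtain ⟨c, hcC, n, hn, rfl⟩ := Subgroup.mem_sup_of_normal_left.1 hg
  exact ⟨c, hVZ hcC, n, hN hn, rfl⟩

end CfsgLib.S3Free.EGrp

namespace CfsgLib.S3Free.EGrp

open CfsgLib CfsgLib.Local CfsgLib.OffenderTwo Cfsg CfsgLib.S3Free

universe u

/-- `Ω₁(Z(Ĵ(S))) ≤ J(S)`. -/
theorem omegaCenter_jh_le {G : Type u} [Group G] [Finite G] (S : Sylow 2 G) :
    omegaCenterOf (jh (S : Subgroup G)) ≤ thompsonSubgroupOf 2 (S : Subgroup G) := by
  haveI : Fact (Nat.Prime 2) := ⟨Nat.prime_two⟩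
  rw [omegaCenterOf, omegaOne, Subgroup.closure_le]
  rintro x ⟨⟨hxj, hxc⟩, hx2⟩
  have hxS : x ∈ (S : Subgroup G) := jh_le _ hxj
  obtain ⟨A', hA', hA'S⟩ := exists_maxEl_le S
  have hA'J := PLocal.le_thompsonSubgroupOf hA'S hA'
  have hel : IsElementaryAbelian 2 (Subgroup.zpowers x) := by
    refine ⟨inferInstance, fun z hz => ?_⟩
    obtain ⟨k, rfl⟩ := Subgroup.mem_zpowers_iff.1 hz
    rw [← zpow_natCast (x ^ k), ← zpow_mul, mul_comm, zpow_mul, zpow_natCast, hx2, one_zpow]
  have hsup := isElementary_sup hA'.1 hel fun z hz a ha => by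
    obtain ⟨k, rfl⟩ := Subgroup.mem_zpowers_iff.1 hz
    exact ((show Commute a x from hxc a (thompson_le_jh S (hA'J ha))).zpow_right k).eq
  have e := Subgroup.eq_of_le_of_card_ge (le_sup_left : A' ≤ A' ⊔ Subgroup.zpowers x) (hA'.2 _ hsup)
  exact hA'J (e.ge (Subgroup.mem_sup_right (Subgroup.mem_zpowers x)))

/-- `G = C(Ω₁(Z(Ĵ(S)))) N(J(S))`. -/
theorem exists_product_omega : ∀ (n : ℕ) (G : Type u) [Group G] [Finite G], Nat.card G = n →
    ¬ Involves (Equiv.Perm (Fin 4)) G → IsCompositionKGroupWith IsSuzukiOrPSL2OddPowerThree G →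
    Subgroup.centralizer (pCore 2 G : Set G) ≤ pCore 2 G → ∀ (S : Sylow 2 G) (g : G),
    ∃ c ∈ Subgroup.centralizer (omegaCenterOf (jh (S : Subgroup G)) : Set G),
      ∃ n ∈ Subgroup.normalizer (thompsonSubgroupOf 2 (S : Subgroup G) : Set G), g = c * n := by
  intro n
  induction n using Nat.strong_induction_on with
  | _ n ih =>
  intro G _ _ hn hfree hc hcon S g
  haveI : Fact (Nat.Prime 2) := ⟨Nat.prime_two⟩
  by_cases hE : IsEGroup (S : Subgroup G)
  · have hj : jh (S : Subgroup G) = S :=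
      le_antisymm (jh_le _) (le_jh le_rfl hE (Subgroup.map_subtype_le _))
    obtain ⟨c, hc', m, hm, e⟩ := exists_product hfree hcon S g
    refine ⟨c, ?_, m, hm, e⟩
    refine Subgroup.centralizer_le ?_ hc'
    rw [hj]
    exact (Subgroup.closure_le _).2 fun x hx => hx.1
  rw [isEGroup_iff] at hE
  push_neg at hE
  obtain ⟨W, hW, hWS⟩ := hE
  obtain ⟨V, hVn, hWV, hVA⟩ := exists_closure_module hfree hc hcon hW
  haveI : (Subgroup.centralizer (V : Set G)).Normal := Subgroup.normal_centralizer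
  set C := Subgroup.centralizer (V : Set G) with hC
  obtain ⟨c, hcC, m, hm, rfl⟩ := exists_mul_normalizer C hVA S g
  have hCtop : C ≠ ⊤ := fun e => hWS fun s _ w hw => by
    have h : s ∈ C := e ▸ Subgroup.mem_top s
    exact h w (hWV hw)
  obtain ⟨P, hP⟩ := PLocal.exists_sylow_inf S C
  have hJC : thompsonSubgroupOf 2 (S : Subgroup G) ≤ (P : Subgroup C).map C.subtype := by
    rw [hP, thompson_eq_offJoin S]
    exact sSup_le fun A hA => le_inf hA.2 (hVA A hA.1)
  have hJP : thompsonSubgroupOf 2 ((P : Subgroup C).map C.subtype) = thompsonSubgroupOf 2 (S : Subgroup G) := by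
    obtain ⟨A, hA, hAS⟩ := exists_maxEl_le S
    have hAP : A ≤ (P : Subgroup C).map C.subtype := (PLocal.le_thompsonSubgroupOf hAS hA).trans hJC
    rw [thompson_eq_offJoin' hA hAP, thompson_eq_offJoin S, hP]
    exact le_antisymm (offJoin_mono _ inf_le_left) (sSup_le fun A hA => le_offJoin hA.1 (le_inf hA.2 (hVA A hA.1)))
  obtain ⟨c', hc', m', hm', e⟩ := ih (Nat.card C) (hn ▸ lt_of_le_of_ne (Subgroup.card_le_card_group C)
      (fun e => hCtop ((Subgroup.card_eq_iff_eq_top C).1 e))) C rfl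
    (fun h => hfree (CfsgLib.ThompsonComplement.involves_of_subgroup h)) (normal_compK (fun Y Z _ _ ⟨e⟩ h => TwoF.kind_transfer e h) hc C)
    (char_two_normal hcon C) P ⟨c, hcC⟩
  refine ⟨(c' : G), ?_, (m' : G) * m, ?_, ?_⟩
  · have hY : omegaCenterOf (jh (S : Subgroup G)) ≤ omegaCenterOf (jh ((P : Subgroup C).map C.subtype)) := by
      have hjj : jh ((P : Subgroup C).map C.subtype) ≤ jh (S : Subgroup G) := by
        rw [jh_eq ((P : Subgroup C).map C.subtype)]
        refine sSup_le ?_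
        rintro U ⟨hUP, hU, hJ⟩
        exact le_jh (hUP.trans (hP.le.trans inf_le_left)) hU (hJP ▸ hJ)
      have hYj : omegaCenterOf (jh (S : Subgroup G)) ≤ jh ((P : Subgroup C).map C.subtype) := by
        refine (omegaCenter_jh_le S).trans ?_
        rw [← hJP, ← jh_map C.subtype C.subtype_injective, JComp.thompsonOf_map C.subtype C.subtype_injective]
        exact Subgroup.map_mono (thompson_le_jh P)
      rw [omegaCenterOf, omegaOne, Subgroup.closure_le]
      rintro x ⟨⟨hxj, hxc⟩, hx2⟩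
      exact Subgroup.subset_closure
        ⟨⟨hYj (Subgroup.subset_closure ⟨⟨hxj, hxc⟩, hx2⟩), fun z hz => hxc z (hjj hz)⟩, hx2⟩
    refine Subgroup.centralizer_le hY ?_
    rw [← jh_map C.subtype C.subtype_injective, JComp.omegaCenterOf_map C.subtype C.subtype_injective]
    rintro _ ⟨z, hz, rfl⟩
    exact congrArg Subtype.val (hc' z hz)
  · refine Subgroup.mul_mem _ ?_ hm
    rw [← hJP, JComp.thompsonOf_map C.subtype C.subtype_injective]
    exact Subgroup.le_normalizer_map C.subtype ⟨m', hm', rfl⟩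
  · rw [← mul_assoc, ← Subgroup.coe_mul, ← e]

end CfsgLib.S3Free.EGrp
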