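import Cfsg.Agent.Lib.S3Free.TwoStep
import Cfsg.Agent.Lib.S3Free.SmallSimpleFacts

/-!
A group of involutions acting on a quasisimple subgroup of Suzuki or `PSL₂(3^odd)` type: a step for the squared bound.
-/

set_option autoImplicit false
set_option linter.unusedSectionVars false
set_option maxHeartbeats 1000000

namespace CfsgLib.S3Free.TwoF

open CfsgLib CfsgLib.Local CfsgLib.OffenderTwo Cfsg CfsgLib.S3Free CfsgLib.S3Free.SmallFacts

universe u v

variable {X : Type u} [Group X] [Finite X]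

/-- A quasisimple subgroup whose simple quotient is a Suzuki group or `PSL₂(3^odd)`. -/
structure Good (Δ : Subgroup X) : Prop where
  qs : IsQuasisimple Δ
  kind : IsSuzukiOrPSL2OddPowerThree (Δ ⧸ Subgroup.center Δ)

theorem Good.not_comm {Δ : Subgroup X} (h : Good Δ) : ¬ IsMulCommutative (Δ ⧸ Subgroup.center Δ) := by
  intro hc
  haveI := h.qs.2
  haveI := isQuasisimple_nontrivial h.qs
  refine isQuasisimple_not_isSolvable h.qs ?_
  letI : CommGroup (Δ ⧸ Subgroup.center Δ) :=
    { (inferInstance : Group (Δ ⧸ Subgroup.center Δ)) with mul_comm := fun a b => hc.1.comm a b }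
  haveI := h.qs.1
  exfalso
  have h1 : commutator Δ ≤ Subgroup.center Δ := by
    have := Abelianization.commutator_subset_ker (QuotientGroup.mk' (Subgroup.center Δ))
    rwa [QuotientGroup.ker_mk'] at this
  have h2 : Subgroup.center Δ = ⊤ := top_le_iff.1 (fun x _ => h1 h.qs.1.mem_commutator)
  have := (inferInstance : Nontrivial (Δ ⧸ Subgroup.center Δ))
  rw [h2] at this
  exact not_subsingleton (Δ ⧸ (⊤ : Subgroup Δ)) QuotientGroup.subsingleton_quotient_top

omit [Finite X] in
/-- An element acting trivially modulo the centre of a perfect subgroup centralizes it. -/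
theorem commute_of_mod_center {S : Subgroup X} (hS : Group.IsPerfect S) {a : X}
    (hmod : ∀ s : S, ∃ z ∈ Subgroup.center S, a * (s : X) * a⁻¹ = (s : X) * (z : X)) : ∀ s : S, a * (s : X) = s * a := by
  choose z hz he using hmod
  let f : S →* Subgroup.center S := MonoidHom.mk' (fun s => ⟨z s, hz s⟩) (fun s t => Subtype.ext (Subtype.ext (by
    show (z (s * t) : X) = (z s : X) * (z t : X)
    have h1 := he (s * t)
    rw [Subgroup.coe_mul] at h1
    have h2 : a * ((s : X) * t) * a⁻¹ = ((s : X) * z s) * ((t : X) * z t) := by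
      rw [← he, ← he]; group
    rw [h1] at h2
    have h3 : (z s : X) * t = t * z s := congrArg Subtype.val ((Subgroup.mem_center_iff.1 (hz s) t).symm)
    rw [show ((s : X) * z s) * ((t : X) * z t) = (s : X) * t * ((z s : X) * z t) by
      rw [mul_assoc, ← mul_assoc (z s : X), h3]; simp only [mul_assoc]] at h2
    exact mul_left_cancel h2)))
  intro s
  have hker : commutator S ≤ f.ker := by
    letI : CommGroup (Subgroup.center S) := { (inferInstance : Group (Subgroup.center S)) with
      mul_comm := fun x y => Subtype.ext (Subgroup.mem_center_iff.1 y.2 x) }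
    exact Abelianization.commutator_subset_ker f
  have h1 : (z s : X) = 1 := congrArg (fun x : Subgroup.center S => ((x : S) : X))
    (MonoidHom.mem_ker.1 (hker hS.mem_commutator) : f s = 1)
  have h2 := he s
  rw [h1, mul_one] at h2
  exact mul_inv_eq_iff_eq_mul.1 h2

/-- The action on the simple quotient. -/
def actBar (Δ : Subgroup X) : (Subgroup.normalizer (Δ : Set X) : Subgroup X) →* MulAut (Δ ⧸ Subgroup.center Δ) :=
  (CfsgLib.PSL2.centreQuotAut Δ).comp Δ.normalizerMonoidHom

omit [Finite X] in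
theorem actBar_mk {Δ : Subgroup X} (a : (Subgroup.normalizer (Δ : Set X) : Subgroup X)) (s : Δ) :
    actBar Δ a (QuotientGroup.mk s) =
      QuotientGroup.mk (⟨(a : X) * s * (a : X)⁻¹, (Subgroup.mem_normalizer_iff.1 a.2 _).1 s.2⟩ : Δ) := rfl

omit [Finite X] in
theorem actBar_eq_one_iff {Δ : Subgroup X} (hΔ : Group.IsPerfect Δ)
    (a : (Subgroup.normalizer (Δ : Set X) : Subgroup X)) :
    actBar Δ a = 1 ↔ (a : X) ∈ Subgroup.centralizer (Δ : Set X) := by
  constructor
  · intro h x hx
    have hmod : ∀ s : Δ, ∃ z ∈ Subgroup.center Δ, (a : X) * (s : X) * (a : X)⁻¹ = (s : X) * (z : X) := by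
      intro s
      have h1 := MulEquiv.congr_fun h (QuotientGroup.mk s)
      rw [actBar_mk, MulAut.one_apply] at h1
      refine ⟨_, QuotientGroup.eq.1 h1.symm, ?_⟩
      simp [mul_assoc]
    exact (commute_of_mod_center hΔ hmod ⟨x, hx⟩).symm
  · intro h
    refine MulEquiv.ext fun y => QuotientGroup.induction_on y fun s => ?_
    rw [actBar_mk, MulAut.one_apply]
    congr 1
    refine Subtype.ext ?_
    show (a : X) * s * (a : X)⁻¹ = s
    rw [← h s s.2, mul_inv_cancel_right]

/-- Lifting an inverted element of the simple quotient. -/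
theorem exists_lift {Δ : Subgroup X} (a : (Subgroup.normalizer (Δ : Set X) : Subgroup X))
    (ha : (a : X) * a = 1) (c : Δ) (hx : Odd (orderOf (QuotientGroup.mk c : Δ ⧸ Subgroup.center Δ)))
    (hinv : actBar Δ a (QuotientGroup.mk c) = (QuotientGroup.mk c : Δ ⧸ Subgroup.center Δ)⁻¹) :
    ∃ y : Δ, orderOf (QuotientGroup.mk c : Δ ⧸ Subgroup.center Δ) ∣ orderOf (y : X) ∧
      (a : X) * y * (a : X)⁻¹ = (y : X)⁻¹ ∧
      ∀ b : X, b * a = a * b → b * (c : X) = c * b → b * (y : X) = y * b := by
  have hc' := (Subgroup.mem_normalizer_iff.1 a.2 (c : X)).1 c.2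
  have hai : (a : X)⁻¹ = a := inv_eq_of_mul_eq_one_right ha
  set y : Δ := c⁻¹ * ⟨(a : X) * c * (a : X)⁻¹, hc'⟩ with hy
  refine ⟨y, ?_, ?_, ?_⟩
  · have h1 : (QuotientGroup.mk y : Δ ⧸ Subgroup.center Δ) = (QuotientGroup.mk c : Δ ⧸ Subgroup.center Δ)⁻¹ ^ 2 := by
      rw [hy, QuotientGroup.mk_mul, QuotientGroup.mk_inv, sq]
      congr 1
    have h2 : orderOf ((QuotientGroup.mk c : Δ ⧸ Subgroup.center Δ)⁻¹ ^ 2) =
        orderOf (QuotientGroup.mk c : Δ ⧸ Subgroup.center Δ) := by
      rw [Nat.Coprime.orderOf_pow, orderOf_inv]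
      rw [orderOf_inv]
      exact Nat.coprime_two_right.2 hx
    rw [Subgroup.orderOf_coe]
    refine dvd_trans ?_ (orderOf_map_dvd (QuotientGroup.mk' (Subgroup.center Δ)) y)
    show _ ∣ orderOf (QuotientGroup.mk y : Δ ⧸ Subgroup.center Δ)
    rw [h1, h2]
  · show (a : X) * ((c : X)⁻¹ * ((a : X) * c * (a : X)⁻¹)) * (a : X)⁻¹ = ((c : X)⁻¹ * ((a : X) * c * (a : X)⁻¹))⁻¹
    rw [mul_inv_rev, inv_inv]
    calc (a : X) * ((c : X)⁻¹ * ((a : X) * c * (a : X)⁻¹)) * (a : X)⁻¹
        = (a : X) * (c : X)⁻¹ * (a : X) * c * ((a : X)⁻¹ * (a : X)⁻¹) := by group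
      _ = ((a : X) * c * (a : X)⁻¹)⁻¹ * c := by
          rw [hai, ha, mul_one, mul_inv_rev, mul_inv_rev, hai]
          simp only [mul_assoc]
  · intro b hba hbc
    show b * ((c : X)⁻¹ * ((a : X) * c * (a : X)⁻¹)) = (c : X)⁻¹ * ((a : X) * c * (a : X)⁻¹) * b
    exact (((show Commute b c from hbc).inv_right).mul_right
      (((show Commute b a from hba).mul_right hbc).mul_right (show Commute b a from hba).inv_right)).eq

/-- The subgroup generated by a further involution has twice the order. -/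
theorem card_sup_zpowers {A B : Subgroup X} (hA : ∀ a ∈ A, a * a = 1) (hBA : B ≤ A) {q : X} (hq : q ∈ A)
    (hqB : q ∉ B) : Nat.card ↥(B ⊔ Subgroup.zpowers q) = 2 * Nat.card B := by
  have hinv : ∀ a ∈ A, a⁻¹ = a := fun a ha => inv_eq_of_mul_eq_one_right (hA a ha)
  have hcomm : ∀ a ∈ A, ∀ b ∈ A, a * b = b * a := fun a ha b hb => by
    have h := hinv _ (A.mul_mem ha hb)
    rwa [mul_inv_rev, hinv a ha, hinv b hb, eq_comm] at h
  have hqq := hA q hq
  let K : Subgroup X :=
    { carrier := {x | x ∈ B ∨ q * x ∈ B}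
      one_mem' := Or.inl (one_mem _)
      mul_mem' := by
        intro x y hx hy
        have hxA : x ∈ A := hx.elim (fun h => hBA h) fun h => by
          have := A.mul_mem hq (hBA h)
          rwa [← mul_assoc, hqq, one_mul] at this
        rcases hx with hx | hx <;> rcases hy with hy | hy
        · exact Or.inl (mul_mem hx hy)
        · right
          rw [← mul_assoc, hcomm q hq x hxA, mul_assoc]
          exact mul_mem hx hy
        · right
          rw [← mul_assoc]
          exact mul_mem hx hy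
        · left
          have := mul_mem hx hy
          rwa [← mul_assoc, mul_assoc q x q, hcomm x hxA q hq, ← mul_assoc, hqq, one_mul] at this
      inv_mem' := by
        intro x hx
        rcases hx with hx | hx
        · exact Or.inl (inv_mem hx)
        · right
          have hxA : x ∈ A := by
            have := A.mul_mem hq (hBA hx)
            rwa [← mul_assoc, hqq, one_mul] at this
          rw [hinv x hxA]
          exact hx }
  have hle : B ⊔ Subgroup.zpowers q ≤ K :=
    sup_le (fun b hb => Or.inl hb) (Subgroup.zpowers_le.2 (Or.inr (by rw [hqq]; exact one_mem _)))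
  have hidx : B.relIndex (B ⊔ Subgroup.zpowers q) = 2 := by
    rw [Subgroup.relIndex_eq_two_iff]
    refine ⟨q, Subgroup.mem_sup_right (Subgroup.mem_zpowers q), fun b hb => ?_⟩
    rcases hle hb with h | h
    · refine Or.inr ⟨h, fun h' => hqB ?_⟩
      have := mul_mem (inv_mem h) h'
      rwa [inv_mul_cancel_left] at this
    · have hbA : b ∈ A := by
        have := A.mul_mem hq (hBA h)
        rwa [← mul_assoc, hqq, one_mul] at this
      refine Or.inl ⟨by rwa [hcomm b hbA q hq], fun h' => hqB ?_⟩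
      have := mul_mem h (inv_mem h')
      rwa [mul_inv_cancel_right] at this
  rw [← Products.card_mul_relIndex_of_le (le_sup_left : B ≤ B ⊔ Subgroup.zpowers q), hidx, mul_comm]

variable (hfree : ¬ Involves P3 X)
include hfree

/-- The step for a single quasisimple subgroup. -/
theorem inverted_single {A Δ : Subgroup X} (hA : ∀ a ∈ A, a * a = 1) (hΔ : Good Δ)
    (hn : A ≤ Subgroup.normalizer (Δ : Set X)) (hne : ¬ A ≤ Subgroup.centralizer (Δ : Set X)) :
    ∃ B, B < A ∧ Inverted A B := by
  classical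
  haveI : Fact (Nat.Prime 2) := ⟨Nat.prime_two⟩
  haveI := hΔ.qs.2
  set Y := Δ ⧸ Subgroup.center Δ
  have hperf : Group.IsPerfect Δ := hΔ.qs.1
  set N := Subgroup.normalizer (Δ : Set X)
  let ψ : A →* MulAut Y := (actBar Δ).comp (Subgroup.inclusion hn)
  set B := A ⊓ Subgroup.centralizer (Δ : Set X)
  have hBA : B < A := lt_of_le_of_ne inf_le_left fun e => hne (inf_eq_left.1 e)
  have hkerψ : ∀ a : A, ψ a = 1 ↔ (a : X) ∈ B := fun a =>
    (actBar_eq_one_iff hperf (Subgroup.inclusion hn a)).trans ⟨fun h => ⟨a.2, h⟩, fun h => h.2⟩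
  have hψsq : ∀ a : A, ψ a * ψ a = 1 := fun a => by
    rw [← map_mul, show a * a = 1 from Subtype.ext (hA a a.2), map_one]
  have hkmap : ψ.ker.map A.subtype = B := by
    ext x
    constructor
    · rintro ⟨a, ha, rfl⟩
      exact (hkerψ a).1 ha
    · intro hx
      exact ⟨⟨x, hx.1⟩, (hkerψ _).2 hx, rfl⟩
  have hcard : Nat.card A = Nat.card ψ.range * Nat.card B := by
    rw [← hkmap, Subgroup.card_map_of_injective A.subtype_injective, ← Subgroup.index_ker, mul_comm]
    exact (Subgroup.card_mul_index _).symm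
  have hcommA : ∀ a ∈ A, ∀ b ∈ A, a * b = b * a := fun a ha b hb => by
    have h := inv_eq_of_mul_eq_one_right (hA _ (A.mul_mem ha hb))
    rwa [mul_inv_rev, inv_eq_of_mul_eq_one_right (hA a ha), inv_eq_of_mul_eq_one_right (hA b hb), eq_comm] at h
  -- elements of order three
  have hthree : ∀ (a : A) (x : Y), orderOf x = 3 → ψ a x = x⁻¹ → False := by
    intro a x hx hax
    obtain ⟨c, rfl⟩ := QuotientGroup.mk_surjective x
    obtain ⟨y, hy, hya, -⟩ := exists_lift (Subgroup.inclusion hn a) (hA a a.2)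
      c (by rw [hx]; decide) hax
    rw [hx] at hy
    have ho : orderOf ((y : X) ^ (orderOf (y : X) / 3)) = 3 := orderOf_pow_orderOf_div (orderOf_pos _).ne' hy
    refine hfree (involves_perm3 (r := (y : X) ^ (orderOf (y : X) / 3)) (a := (a : X))
      (by have h3 := pow_orderOf_eq_one ((y : X) ^ (orderOf (y : X) / 3)); rwa [ho] at h3) (fun e => by rw [e, orderOf_one] at ho; omega) (hA a a.2) ?_)
    rw [← conj_pow]
    exact (congrArg (· ^ (orderOf (y : X) / 3)) hya).trans (inv_pow _ _)
  have hconj : Function.Injective (MulAut.conj : Y →* MulAut Y) := by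
    refine (injective_iff_map_eq_one _).2 fun y hy => ?_
    have hyc : y ∈ Subgroup.center Y := Subgroup.mem_center_iff.2 fun g => by
      have h := MulEquiv.congr_fun hy g
      rw [MulAut.conj_apply, MulAut.one_apply] at h
      exact (mul_inv_eq_iff_eq_mul.1 h).symm
    rcases (inferInstance : (Subgroup.center Y).Normal).eq_bot_or_eq_top with e | e
    · rwa [e, Subgroup.mem_bot] at hyc
    · exact absurd ⟨⟨fun a b => ((Subgroup.mem_center_iff.1 (e ▸ Subgroup.mem_top a)) b).symm⟩⟩ hΔ.not_comm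
  -- conclusion from an inverted element of odd order
  have hstep : ∀ (a : A) (x : Y) (d : Δ), QuotientGroup.mk d = x → Odd (orderOf x) → x ≠ 1 → ψ a x = x⁻¹ →
      ∀ B' : Subgroup X, B ≤ B' → B' ≤ A → Nat.card A = 2 * Nat.card B' →
      (∀ b ∈ B', b * (d : X) = d * b) → ∃ B, B < A ∧ Inverted A B := by
    intro a x d hd hx hx1 hax B' hBB' hB'A hk hb
    subst hd
    obtain ⟨y, hy, hya, hyc⟩ := exists_lift (Subgroup.inclusion hn a) (hA a a.2) d hx hax
    obtain ⟨p, hp, hpd⟩ := Nat.exists_prime_and_dvd (fun e => hx1 (orderOf_eq_one_iff.1 e) : orderOf (QuotientGroup.mk d : Y) ≠ 1)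
    set t := (y : X) ^ (orderOf (y : X) / p)
    have ho : orderOf t = p := orderOf_pow_orderOf_div (orderOf_pos _).ne' (hpd.trans hy)
    refine ⟨B', lt_of_le_of_ne hB'A (fun e => ?_), inverted_of_odd hfree hA hB'A hk a.2 (t := t) ?_ ?_ ?_ ?_⟩
    · have := Nat.card_pos (α := B')
      rw [e] at hk this
      omega
    · rw [ho]
      exact hx.of_dvd_nat hpd
    · intro e
      rw [e, orderOf_one] at ho
      exact hp.one_lt.ne ho
    · rw [← conj_pow]
      exact (congrArg (· ^ (orderOf (y : X) / p)) hya).trans (inv_pow _ _)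
    · intro b hbB
      exact ((show Commute b y from hyc b (hcommA b (hB'A hbB) a a.2) (hb b hbB)).pow_right _).symm.eq
  rcases facts hΔ.not_comm hΔ.kind with ⟨r, f, hS⟩ | hL
  · -- Suzuki
    have hinner : ∀ a : A, ∃ y, ψ a = MulAut.conj y := fun a => hS.inner _ (hψsq a)
    set T := ψ.range.comap (MulAut.conj : Y →* MulAut Y)
    have hTmap : T.map (MulAut.conj : Y →* MulAut Y) = ψ.range := by
      refine le_antisymm (Subgroup.map_comap_le _ _) ?_
      rintro _ ⟨a, rfl⟩
      obtain ⟨y, hy⟩ := hinner a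
      exact ⟨y, ⟨a, hy⟩, hy.symm⟩
    have hTle : Nat.card T ≤ 2 ^ f := by
      refine hS.rank T fun t ht => hconj ?_
      obtain ⟨a, ha⟩ := ht
      rw [map_mul, map_one, ← ha, hψsq]
    rw [← Subgroup.card_map_of_injective hconj, hTmap] at hTle
    obtain ⟨k, hk⟩ : ∃ k, Nat.card ψ.range = 2 ^ k := (IsPGroup.iff_card (p := 2)).1 fun z => by
      obtain ⟨a, ha⟩ := z.2
      exact ⟨1, Subtype.ext (by rw [SubmonoidClass.coe_pow, pow_one, sq, ← ha, hψsq]; rfl)⟩
    obtain ⟨a₀, ha₀A, ha₀⟩ := SetLike.exists_of_lt hBA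
    set a : A := ⟨a₀, ha₀A⟩
    obtain ⟨ya, hya⟩ := hinner a
    have hya1 : ya ≠ 1 := fun e => ha₀ ((hkerψ a).1 (by rw [hya, e, map_one]))
    obtain ⟨x, hxr, hx⟩ := hS.inverted ya hya1 (hconj (by rw [map_mul, map_one, ← hya, hψsq]))
    obtain ⟨c, rfl⟩ := QuotientGroup.mk_surjective x
    obtain ⟨y, hy, hyinv, hyc⟩ := exists_lift (Subgroup.inclusion hn a) (hA a a.2) c
      (by rw [hxr]; exact hS.prime.odd_of_ne_two hS.ne_two) (by
        show ψ a (QuotientGroup.mk c) = _
        rw [hya, MulAut.conj_apply]; exact hx)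
    rw [hxr] at hy
    set t := (y : X) ^ (orderOf (y : X) / r)
    have ho : orderOf t = r := orderOf_pow_orderOf_div (orderOf_pos _).ne' hy
    refine ⟨B, hBA, k, (a : X), t, hBA.le, by rw [hcard, hk], a.2, ?_, ?_, ?_, ?_, ?_⟩
    · rw [ho]; exact hS.prime
    · rw [ho]; exact hS.ne_two
    · rw [← conj_pow]
      exact (congrArg (· ^ (orderOf (y : X) / r)) hyinv).trans (inv_pow _ _)
    · intro b hb
      exact ((show Commute b y from (hb.2 y y.2).symm).pow_right _).symm.eq
    · intro j hj hd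
      have hkf : k ≤ f := (Nat.pow_le_pow_iff_right (by norm_num)).1 (hk ▸ hTle)
      have := hS.big j hj (ho ▸ hd)
      omega
  · -- `PSL₂(3^odd)`
    have hinner : ∀ a : A, ∃ y, ψ a = MulAut.conj y := fun a => by
      by_contra hall
      push Not at hall
      obtain ⟨x, hx, hx'⟩ := hL.outer _ (hψsq a) hall
      exact hthree a x hx hx'
    choose g hg using hinner
    have hgsq : ∀ a, g a * g a = 1 := fun a => hconj (by rw [map_mul, map_one, ← hg, hψsq])
    have hgone : ∀ a : A, g a = 1 ↔ (a : X) ∈ B := fun a => by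
      rw [← hkerψ, hg, ← map_one (MulAut.conj : Y →* MulAut Y), hconj.eq_iff]
    obtain ⟨a₀, ha₀A, ha₀⟩ := SetLike.exists_of_lt hBA
    set a : A := ⟨a₀, ha₀A⟩
    have hga : g a ≠ 1 := fun e => ha₀ ((hgone a).1 e)
    by_cases hall : ∀ b : A, g b = 1 ∨ g b = g a
    · -- one involution
      have hkA : Nat.card A = 2 * Nat.card B := by
        rw [← card_sup_zpowers hA hBA.le ha₀A ha₀]
        congr 2
        refine le_antisymm (fun b hb => ?_) (sup_le hBA.le (Subgroup.zpowers_le.2 ha₀A))
        rcases hall ⟨b, hb⟩ with e | e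
        · exact Subgroup.mem_sup_left ((hgone _).1 e)
        · have h1 : (((a * ⟨b, hb⟩ : A) : A) : X) ∈ B := (hkerψ _).1 (by
            rw [map_mul, hg ⟨b, hb⟩, e, ← hg, hψsq])
          have h2' := Subgroup.mul_mem (B ⊔ Subgroup.zpowers a₀)
            (Subgroup.mem_sup_right (Subgroup.mem_zpowers a₀)) (Subgroup.mem_sup_left h1)
          rwa [Subgroup.coe_mul, ← mul_assoc, hA a₀ ha₀A, one_mul] at h2'
      have hout : (⟨g a, Subgroup.mem_top _⟩ : (⊤ : Subgroup Y)) ∉ pCore 2 (⊤ : Subgroup Y) := by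
        intro hm
        have h1 : (g a) ∈ pCore 2 Y := by
          rw [← pCore_map_equiv 2 (Subgroup.topEquiv (G := Y))]
          exact ⟨_, hm, rfl⟩
        rcases (Subgroup.Normal.eq_bot_or_eq_top (inferInstance : (pCore 2 Y).Normal)) with e | e
        · exact hga (by rwa [e, Subgroup.mem_bot] at h1)
        · have hp : IsPGroup 2 (⊤ : Subgroup Y) := e ▸ isPGroup_pCore 2
          exact absurd (IsSimpleGroup.comm_iff_isSolvable.2 (by
            haveI := (IsPGroup.of_equiv hp Subgroup.topEquiv).isNilpotent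
            infer_instance)) (fun hc => hΔ.not_comm ⟨⟨hc⟩⟩)
      obtain ⟨x, -, hxo, hx1, hxa⟩ := exists_inverted_of_not_mem (Subgroup.mem_top (g a)) (hgsq a) hout
      obtain ⟨c, hc⟩ := QuotientGroup.mk_surjective x
      refine hstep a x c hc hxo hx1 (by rw [hg, MulAut.conj_apply]; exact hxa) B le_rfl hBA.le hkA ?_
      intro b hb
      exact (hb.2 c c.2).symm
    · -- two involutions
      push Not at hall
      obtain ⟨b₀, hb1, hb2⟩ := hall
      set T := ψ.range.comap (MulAut.conj : Y →* MulAut Y)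
      have hTmap : T.map (MulAut.conj : Y →* MulAut Y) = ψ.range := by
        refine le_antisymm (Subgroup.map_comap_le _ _) ?_
        rintro _ ⟨c, rfl⟩
        exact ⟨g c, ⟨c, hg c⟩, (hg c).symm⟩
      have hTle : Nat.card T ≤ 4 := by
        refine hL.rank T fun t ht => hconj ?_
        obtain ⟨c, hc⟩ := ht
        rw [map_mul, map_one, ← hc, hψsq]
      rw [← Subgroup.card_map_of_injective hconj, hTmap] at hTle
      have hbB : (b₀ : X) ∉ B := fun h => hb1 ((hgone b₀).2 h)
      set B' := B ⊔ Subgroup.zpowers (b₀ : X)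
      have hB'A : B' ≤ A := sup_le hBA.le (Subgroup.zpowers_le.2 b₀.2)
      have hcB' := card_sup_zpowers hA hBA.le b₀.2 hbB
      have haB' : a₀ ∉ B' := by
        intro h
        have hle : B' ≤ ((ψ.ker ⊔ Subgroup.zpowers b₀).map A.subtype) := sup_le
          (by rw [← hkmap]; exact Subgroup.map_mono le_sup_left)
          (Subgroup.zpowers_le.2 ⟨b₀, Subgroup.mem_sup_right (Subgroup.mem_zpowers b₀), rfl⟩)
        obtain ⟨c, hc, hca⟩ := hle h
        have hca' : c = a := Subtype.ext hca
        obtain ⟨k, hk, w, hw, rfl⟩ := Subgroup.mem_sup_of_normal_left.1 hc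
        obtain ⟨i, rfl⟩ := Subgroup.mem_zpowers_iff.1 hw
        have h1 : MulAut.conj (g a) = MulAut.conj (g b₀ ^ i) := by
          rw [← hg a, ← hca', map_mul, MonoidHom.mem_ker.1 hk, one_mul, map_zpow, map_zpow, hg b₀]
        have h3 := hconj h1
        rcases Int.even_or_odd i with ⟨j, rfl⟩ | ⟨j, rfl⟩
        · refine hga ?_
          rw [h3, ← two_mul, zpow_mul, zpow_ofNat, sq, hgsq, one_zpow]
        · refine hb2 ?_
          rw [h3, zpow_add, zpow_mul, zpow_ofNat, sq, hgsq, one_zpow, one_mul, zpow_one]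
      have hk : Nat.card A = 2 * Nat.card B' := by
        have hlt : Nat.card B' < Nat.card A := lt_of_le_of_ne (Subgroup.card_le_of_le hB'A) fun e =>
          haB' ((Subgroup.eq_of_le_of_card_ge hB'A e.ge) ▸ ha₀A)
        have h4 : Nat.card ψ.range ∣ 4 := by
          obtain ⟨k, hk⟩ : ∃ k, Nat.card ψ.range = 2 ^ k := (IsPGroup.iff_card (p := 2)).1 fun z => by
            obtain ⟨c, hc⟩ := z.2
            exact ⟨1, Subtype.ext (by rw [SubmonoidClass.coe_pow, pow_one, sq, ← hc, hψsq]; rfl)⟩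
          rw [hk] at hTle ⊢
          exact pow_dvd_pow 2 ((Nat.pow_le_pow_iff_right (le_refl 2)).1 (show 2 ^ k ≤ 2 ^ 2 from hTle))
        rw [hcB'] at hlt
        rw [hcard] at hlt ⊢
        rw [hcB']
        have h5 : Nat.card ψ.range = 4 := by
          have h2' : 2 < Nat.card ψ.range := Nat.lt_of_mul_lt_mul_right hlt
          have := Nat.le_of_dvd (by norm_num) h4
          interval_cases hh : Nat.card ψ.range <;> simp_all
        rw [h5]
        ring
      obtain ⟨c, hco, hc1, hcb, hca⟩ := hL.cent (g a) (g b₀) hga hb1 (fun e => hb2 e.symm) (hgsq a) (hgsq b₀)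
        (hconj (by rw [map_mul, map_mul, ← hg, ← hg, ← map_mul, ← map_mul,
          show a * b₀ = b₀ * a from Subtype.ext (hcommA a a.2 b₀ b₀.2)]))
      have hxo : Odd (orderOf (c ^ 2)) := by
        rw [Nat.Coprime.orderOf_pow (Nat.coprime_two_right.2 hco)]; exact hco
      have hx1 : c ^ 2 ≠ 1 := fun e => hc1 (by
        rw [← orderOf_eq_one_iff, ← Nat.Coprime.orderOf_pow (Nat.coprime_two_right.2 hco), e, orderOf_one])
      -- a lift of a power of `c` commuting with `B'`
      obtain ⟨c₀, hc₀⟩ := QuotientGroup.mk'_surjective (Subgroup.center Δ) c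
      have hbn := hn b₀.2
      let c₁ : Δ := c₀ * ⟨(b₀ : X) * c₀ * (b₀ : X)⁻¹, (Subgroup.mem_normalizer_iff.1 hbn _).1 c₀.2⟩
      have hbinv : (b₀ : X)⁻¹ = b₀ := inv_eq_of_mul_eq_one_right (hA _ b₀.2)
      set c' : Δ := ⟨(b₀ : X) * c₀ * (b₀ : X)⁻¹, (Subgroup.mem_normalizer_iff.1 hbn _).1 c₀.2⟩
      have hmk : (QuotientGroup.mk c' : Y) = c := by
        show actBar Δ (Subgroup.inclusion hn b₀) (QuotientGroup.mk' _ c₀) = c
        show ψ b₀ (QuotientGroup.mk' _ c₀) = c
        rw [hc₀, hg, MulAut.conj_apply, ← hcb, mul_inv_cancel_right]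
      have hc₀' : (QuotientGroup.mk c₀ : Y) = c := hc₀
      have hc₁ : (QuotientGroup.mk c₁ : Y) = c ^ 2 := by
        rw [QuotientGroup.mk_mul, sq, hc₀', hmk]
      have hcfix : (b₀ : X) * (c₁ : X) = c₁ * b₀ := by
        have hz : c₀⁻¹ * c' ∈ Subgroup.center Δ := QuotientGroup.eq.1 (hc₀'.trans hmk.symm)
        have hcm : c₀ * c' = c' * c₀ := by
          have h := Subgroup.mem_center_iff.1 hz c₀
          calc c₀ * c' = c₀ * (c₀ * (c₀⁻¹ * c')) := by rw [mul_inv_cancel_left]
            _ = c₀ * ((c₀⁻¹ * c') * c₀) := by rw [h]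
            _ = c' * c₀ := by group
        have hcm' := congrArg Subtype.val hcm
        simp only [Subgroup.coe_mul, c'] at hcm'
        show (b₀ : X) * ((c₀ : X) * ((b₀ : X) * c₀ * (b₀ : X)⁻¹)) = (c₀ : X) * ((b₀ : X) * c₀ * (b₀ : X)⁻¹) * b₀
        rw [hcm', hbinv]
        simp only [← mul_assoc, hA _ b₀.2, one_mul]
        rw [hbinv] at hcm'
        simp only [← mul_assoc] at hcm'
        rw [← hcm', mul_assoc _ (b₀ : X) (b₀ : X), hA _ b₀.2, mul_one]
      refine hstep a (c ^ 2) c₁ hc₁ hxo hx1 ?_ B' le_sup_left hB'A hk ?_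
      · rw [hg, MulAut.conj_apply, ← conj_pow, hca, inv_pow]
      · intro b hb
        have hle : B' ≤ Subgroup.centralizer ({(c₁ : X)} : Set X) :=
          sup_le (fun e he => Subgroup.mem_centralizer_singleton_iff.2 (he.2 c₁ c₁.2).symm)
            (Subgroup.zpowers_le.2 (Subgroup.mem_centralizer_singleton_iff.2 hcfix))
        exact Subgroup.mem_centralizer_singleton_iff.1 (hle hb)

end CfsgLib.S3Free.TwoF
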