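import Cfsg.Agent.Lib.S3Free.NoOffender
import Cfsg.Agent.Lib.S3Free.Detect
import Cfsg.Agent.Lib.Components
import Cfsg.Agent.Lib.Subnormal

/-!
Steps for the bound `|A|² |C_V(A)| ≤ |V|`: an element of odd prime order inverted by an involution of `A`
and commuting with `B ≤ A` makes `A` lose enough fixed vectors against `B`.
-/

set_option autoImplicit false
set_option linter.unusedSectionVars false
set_option maxHeartbeats 1000000

namespace CfsgLib.S3Free.TwoF

open scoped Pointwise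
open CfsgLib CfsgLib.Local CfsgLib.OffenderTwo Cfsg CfsgLib.S3Free

universe u v

variable {X : Type u} [Group X] {V : Type v} [CommGroup V]

/-- `A` does not beat `B` in the squared count. -/
def Rel (φ : X →* MulAut V) (A B : Subgroup X) : Prop :=
  Nat.card A ^ 2 * Nat.card (fix φ A) ≤ Nat.card B ^ 2 * Nat.card (fix φ B)

theorem Rel.trans {φ : X →* MulAut V} {A B C : Subgroup X} (h : Rel φ A B) (h' : Rel φ B C) : Rel φ A C :=
  le_trans h h'

variable [Finite X] [Finite V] {φ : X →* MulAut V}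

/-- An element of odd order commuting with a 2-group and trivial on its fixed vectors is trivial. -/
theorem eq_one_of_trivial_on_fix (hinj : Function.Injective φ) (h2 : ∀ v : V, v * v = 1) {B : Subgroup X}
    (hB : IsPGroup 2 B) {r : X} (hodd : Odd (orderOf r)) (hc : ∀ b ∈ B, r * b = b * r)
    (hfix : ∀ v ∈ fix φ B, φ r v = v) : r = 1 := by
  refine hinj (MulEquiv.ext fun v => ?_)
  rw [map_one, MulAut.one_apply]
  by_contra hne
  let d : V →* V := MonoidHom.mk' (fun v => φ r v / v) (fun a b => by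
    rw [map_mul, div_mul_div_comm])
  have hR : d.range ≠ ⊥ := by
    intro e
    have h1 : d v ∈ d.range := ⟨v, rfl⟩
    rw [e, Subgroup.mem_bot] at h1
    exact hne (div_eq_one.1 h1)
  have hinv : ∀ b ∈ B, ∀ w ∈ d.range, φ b w ∈ d.range := by
    rintro b hb _ ⟨u, rfl⟩
    refine ⟨φ b u, ?_⟩
    show φ r (φ b u) / φ b u = φ b (φ r u / u)
    rw [map_div, ← MulAut.mul_apply, ← map_mul, hc b hb, map_mul, MulAut.mul_apply]
  obtain ⟨w, hw, hw1⟩ := Subgroup.nontrivial_iff_exists_ne_one _ |>.1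
    ((Subgroup.nontrivial_iff_ne_bot _).2 (fix_ne_bot (W := d.range) hB h2 hR hinv))
  obtain ⟨⟨u, rfl⟩, hwB⟩ := hw
  have hstep : φ r u = u * d u := by
    show φ r u = u * (φ r u / u)
    rw [mul_div_cancel]
  have hpow : ∀ m : ℕ, φ (r ^ m) u = u * d u ^ m := by
    intro m
    induction m with
    | zero => simp
    | succ m ih =>
      rw [pow_succ', map_mul, MulAut.mul_apply, ih, map_mul, map_pow, hfix (d u) hwB, hstep, pow_succ',
        mul_assoc]
  have h := hpow (orderOf r)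
  rw [pow_orderOf_eq_one, map_one, MulAut.one_apply, left_eq_mul] at h
  obtain ⟨m, hm⟩ := hodd
  rw [hm, pow_succ, pow_mul, sq, h2, one_pow, one_mul] at h
  exact hw1 h

/-- The basic step. -/
theorem rel_of_inverted (hinj : Function.Injective φ) (h2 : ∀ v : V, v * v = 1) {A B : Subgroup X}
    (hA : ∀ a ∈ A, a * a = 1) (hBA : B ≤ A) {k : ℕ} (hk : Nat.card A = 2 ^ k * Nat.card B) {a r : X}
    (ha : a ∈ A) (hr : (orderOf r).Prime) (hr2 : orderOf r ≠ 2) (hinv : a * r * a⁻¹ = r⁻¹)
    (hc : ∀ b ∈ B, r * b = b * r) (hbig : ∀ j : ℕ, 0 < j → orderOf r ∣ 2 ^ j - 1 → 4 * k ≤ j + 1) :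
    Rel φ A B := by
  classical
  haveI : Fact (Nat.Prime 2) := ⟨Nat.prime_two⟩
  set p := orderOf r with hp
  haveI : Fact p.Prime := ⟨hr⟩
  have hodd : Odd p := hr.odd_of_ne_two hr2
  set U := fix φ A
  set FB := fix φ B
  have hUB : U ≤ FB := fix_anti hBA
  have hrB : ∀ v ∈ FB, ∀ m : ℕ, φ (r ^ m) v ∈ FB := by
    intro v hv m b hb
    have hcm : b * r ^ m = r ^ m * b := (((show Commute r b from hc b hb).pow_left m).eq).symm
    rw [← MulAut.mul_apply, ← map_mul, hcm, map_mul, MulAut.mul_apply, hv b hb]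
  set U' := U.map (φ r).toMonoidHom
  have hU'B : U' ≤ FB := by
    rintro _ ⟨w, hw, rfl⟩
    have := hrB w (hUB hw) 1
    rwa [pow_one] at this
  -- the vectors of `fix φ B` fixed by `r`
  let D : Subgroup V :=
    { carrier := {v | v ∈ FB ∧ φ r v = v}
      one_mem' := ⟨one_mem _, map_one _⟩
      mul_mem' := fun {x y} hx hy => ⟨mul_mem hx.1 hy.1, by rw [map_mul, hx.2, hy.2]⟩
      inv_mem' := fun {x} hx => ⟨inv_mem hx.1, by rw [map_inv, hx.2]⟩ }
  have hai : a⁻¹ = a := inv_eq_of_mul_eq_one_right (hA a ha)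
  have hCD : U ⊓ U' ≤ D := by
    rintro v ⟨hv, w, hw, rfl⟩
    refine ⟨hUB hv, ?_⟩
    set v := (φ r).toMonoidHom w with hvdef
    have hva : φ a v = v := hv a ha
    have hwa : φ (r * a * r⁻¹) v = v := by
      show φ (r * a * r⁻¹) (φ r w) = φ r w
      rw [← MulAut.mul_apply, ← map_mul, inv_mul_cancel_right, map_mul, MulAut.mul_apply, hw a ha]
    have key : r * a * r⁻¹ = r * r * a := by
      rw [← hinv, ← mul_assoc, ← mul_assoc, hai, mul_assoc r a a, hA a ha, mul_one]
    have hsq : φ (r * r) v = v := by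
      rw [key, map_mul, MulAut.mul_apply, hva] at hwa
      exact hwa
    have hpw : ∀ n : ℕ, φ ((r * r) ^ n) v = v := by
      intro n
      induction n with
      | zero => simp
      | succ n ih => rw [pow_succ, map_mul, MulAut.mul_apply, hsq, ih]
    obtain ⟨m, hm⟩ := hodd
    have hr' : (r * r) ^ (m + 1) = r := by
      rw [← sq, ← pow_mul, show 2 * (m + 1) = p + 1 by omega, pow_succ, hp, pow_orderOf_eq_one, one_mul]
    have := hpw (m + 1)
    rwa [hr'] at this
  have hDB : D ≤ FB := fun v hv => hv.1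
  have hDne : D ≠ FB := by
    intro e
    have h1 := eq_one_of_trivial_on_fix hinj h2 ((isPGroup_of_sq fun b hb => hA b (hBA hb))) hodd hc
      (fun v hv => (e.ge hv).2)
    rw [h1, orderOf_one] at hp
    exact hr.one_lt.ne' hp
  -- orbits of `r`
  let P := Subgroup.zpowers r
  have hmemP : ∀ g : P, ∀ v ∈ FB, φ (g : X) v ∈ FB := fun g v hv => by
    obtain ⟨m, hm⟩ := mem_powers_iff_mem_zpowers.2 g.2
    exact hm ▸ hrB v hv m
  letI : MulAction P FB :=
    { smul := fun g w => ⟨φ g w, hmemP g w w.2⟩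
      one_smul := fun w => Subtype.ext (by show φ (1 : X) w = w; rw [map_one, MulAut.one_apply])
      mul_smul := fun g g' w => Subtype.ext (by
        show φ ((g : X) * g') w = φ g (φ g' w)
        rw [map_mul, MulAut.mul_apply]) }
  have hP : IsPGroup p P := IsPGroup.of_card (n := 1) (by rw [pow_one, Nat.card_zpowers])
  have hmod := hP.card_modEq_card_fixedPoints FB
  have hfp : Nat.card (MulAction.fixedPoints P FB) = Nat.card D := by
    refine Nat.card_congr
      { toFun := fun w => ⟨w.1.1, w.1.2, congrArg Subtype.val (w.2 ⟨r, Subgroup.mem_zpowers r⟩)⟩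
        invFun := fun v => ⟨⟨v.1, v.2.1⟩, fun g => Subtype.ext ?_⟩
        left_inv := fun w => rfl
        right_inv := fun v => rfl }
    obtain ⟨m, hm⟩ := mem_powers_iff_mem_zpowers.2 g.2
    show φ (g : X) v.1 = v.1
    rw [← hm]
    clear hm
    induction m with
    | zero => simp
    | succ n ih =>
      show φ (r ^ (n + 1)) v.1 = v.1
      rw [pow_succ, map_mul, MulAut.mul_apply, v.2.2]
      exact ih
  rw [hfp] at hmod
  have hpow : ∀ W : Subgroup V, ∃ n, Nat.card W = 2 ^ n := fun W =>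
    (IsPGroup.iff_card (p := 2)).1 (fun w => ⟨1, Subtype.ext (by
      rw [SubmonoidClass.coe_pow, pow_one, sq]; exact h2 _)⟩)
  obtain ⟨b, hb⟩ := hpow FB
  obtain ⟨d, hd⟩ := hpow D
  obtain ⟨u, hu⟩ := hpow U
  have hdb : d < b := by
    rcases lt_or_ge d b with h | h
    · exact h
    · refine absurd (Subgroup.eq_of_le_of_card_ge hDB ?_) hDne
      rw [hb, hd]
      exact Nat.pow_le_pow_right two_pos h
  have hdvd : p ∣ 2 ^ (b - d) - 1 := by
    rw [hb, hd] at hmod
    have h1 : p ∣ 2 ^ b - 2 ^ d := (Nat.modEq_iff_dvd' (Nat.pow_le_pow_right two_pos hdb.le)).1 hmod.symm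
    rw [show 2 ^ b - 2 ^ d = 2 ^ d * (2 ^ (b - d) - 1) by
      rw [Nat.mul_sub, mul_one, ← pow_add, Nat.add_sub_cancel' hdb.le]] at h1
    refine (Nat.Coprime.dvd_mul_left ?_).1 h1
    exact Nat.Coprime.pow_right _ ((Nat.coprime_primes hr Nat.prime_two).2 hr2)
  have hj := hbig (b - d) (by omega) hdvd
  have hub : 2 ^ u * 2 ^ u ≤ 2 ^ b * 2 ^ d := by
    rw [← hb, ← hd, ← hu]
    calc Nat.card U * Nat.card U = Nat.card U * Nat.card U' := by
          rw [Subgroup.card_map_of_injective (φ r).injective]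
      _ = Nat.card ↥(U ⊔ U') * Nat.card ↥(U ⊓ U') := (card_sup_inf U U').symm
      _ ≤ _ := Nat.mul_le_mul (Subgroup.card_le_of_le (sup_le hUB hU'B)) (Subgroup.card_le_of_le hCD)
  rw [← pow_add, ← pow_add] at hub
  have hub' : u + u ≤ b + d := (Nat.pow_le_pow_iff_right (by norm_num)).1 hub
  show Nat.card A ^ 2 * Nat.card U ≤ Nat.card B ^ 2 * Nat.card FB
  rw [hk, mul_pow, hb, hu, mul_comm ((2 ^ k) ^ 2), mul_assoc, ← pow_mul, ← pow_add]
  exact Nat.mul_le_mul_left _ (Nat.pow_le_pow_right two_pos (by omega))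

omit [Finite V] in
/-- A power of prime order. -/
theorem exists_inverted_prime {a t : X} (ht : Odd (orderOf t)) (ht1 : t ≠ 1) (hinv : a * t * a⁻¹ = t⁻¹) :
    ∃ r ∈ Subgroup.zpowers t, (orderOf r).Prime ∧ orderOf r ≠ 2 ∧ a * r * a⁻¹ = r⁻¹ := by
  obtain ⟨p, hp, hpd⟩ := Nat.exists_prime_and_dvd (fun e => ht1 (orderOf_eq_one_iff.1 e) : orderOf t ≠ 1)
  refine ⟨t ^ (orderOf t / p), Subgroup.npow_mem_zpowers _ _, ?_, ?_, ?_⟩
  all_goals
    have ho : orderOf (t ^ (orderOf t / p)) = p := orderOf_pow_orderOf_div (orderOf_pos t).ne' hpd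
  · rwa [ho]
  · rw [ho]
    rintro rfl
    exact Nat.not_odd_iff_even.2 (even_iff_two_dvd.2 hpd) ht
  · rw [← conj_pow, hinv, inv_pow]

/-- An element whose product with a conjugate is not a 2-element, from outside `O₂`. -/
theorem exists_inverted_of_not_mem {H : Subgroup X} {a : X} (haH : a ∈ H) (ha : a * a = 1)
    (hout : (⟨a, haH⟩ : H) ∉ pCore 2 H) : ∃ t ∈ H, Odd (orderOf t) ∧ t ≠ 1 ∧ a * t * a⁻¹ = t⁻¹ := by
  classical
  haveI : Fact (Nat.Prime 2) := ⟨Nat.prime_two⟩
  set a' : H := ⟨a, haH⟩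
  have ha' : a' * a' = 1 := Subtype.ext ha
  have key : ∃ g : H, ¬ ∃ n, (a' * (g * a' * g⁻¹)) ^ (2 ^ n) = 1 := by
    by_contra hall
    push Not at hall
    apply hout
    have hb : ∀ g : H, Group.IsNilpotent
        (Subgroup.zpowers a' ⊔ MulAut.conj g • Subgroup.zpowers a' : Subgroup H) := by
      intro g
      set b := g * a' * g⁻¹ with hbdef
      have hb2 : b * b = 1 := by
        rw [hbdef]
        simp [mul_assoc]
        rw [← mul_assoc a' a', ha', one_mul, mul_inv_cancel]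
      set t := a' * b with htdef
      obtain ⟨n, hn⟩ := hall g
      have hT : IsPGroup 2 (Subgroup.zpowers t) := fun x => by
        obtain ⟨m, hm⟩ := x.2
        refine ⟨n, Subtype.ext ?_⟩
        rw [SubmonoidClass.coe_pow, ← hm, ← zpow_natCast, ← zpow_mul, mul_comm m, zpow_mul, zpow_natCast, hn,
          one_zpow, OneMemClass.coe_one]
      have hA2 : IsPGroup 2 (Subgroup.zpowers a') := fun x => by
        obtain ⟨m, hm⟩ := x.2
        refine ⟨1, Subtype.ext ?_⟩
        rw [SubmonoidClass.coe_pow, ← hm, pow_one, ← zpow_natCast, ← zpow_mul, mul_comm, zpow_mul, zpow_natCast,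
          sq, ha', one_zpow, OneMemClass.coe_one]
      have hnorm : Subgroup.zpowers a' ≤ Subgroup.normalizer (Subgroup.zpowers t : Set H) := by
        rw [Subgroup.zpowers_le, Subgroup.mem_normalizer_iff]
        have hai : a'⁻¹ = a' := inv_eq_of_mul_eq_one_right ha'
        have hbi : b⁻¹ = b := inv_eq_of_mul_eq_one_right hb2
        have hct : a' * t * a'⁻¹ = t⁻¹ := by
          rw [htdef, mul_inv_rev, ← mul_assoc, ha', one_mul, hai, hbi]
        have hsub : ∀ x ∈ Subgroup.zpowers t, a' * x * a'⁻¹ ∈ Subgroup.zpowers t := by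
          rintro x ⟨m, rfl⟩
          show a' * t ^ m * a'⁻¹ ∈ _
          rw [← conj_zpow, hct]
          exact Subgroup.zpow_mem _ (inv_mem (Subgroup.mem_zpowers t)) m
        intro x
        refine ⟨hsub x, fun hx => ?_⟩
        have := hsub _ hx
        rw [hai] at this
        rwa [← mul_assoc, ← mul_assoc, ha', one_mul, mul_assoc, ha', mul_one] at this
      have hJ : IsPGroup 2 (Subgroup.zpowers a' ⊔ Subgroup.zpowers t : Subgroup H) :=
        hA2.to_sup_of_normal_right' hT hnorm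
      have hle : (Subgroup.zpowers a' ⊔ MulAut.conj g • Subgroup.zpowers a' : Subgroup H) ≤
          Subgroup.zpowers a' ⊔ Subgroup.zpowers t := by
        refine sup_le le_sup_left ?_
        rintro _ ⟨x, ⟨m, rfl⟩, rfl⟩
        show MulAut.conj g (a' ^ m) ∈ _
        rw [map_zpow]
        refine Subgroup.zpow_mem _ ?_ m
        show g * a' * g⁻¹ ∈ _
        rw [show g * a' * g⁻¹ = a' * t by rw [htdef, ← mul_assoc, ha', one_mul]]
        exact mul_mem (Subgroup.mem_sup_left (Subgroup.mem_zpowers a'))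
          (Subgroup.mem_sup_right (Subgroup.mem_zpowers t))
      exact (hJ.to_le hle).isNilpotent
    have hsn := (CfsgLib.le_fitting_of_sup_conj_nilpotent (Subgroup.zpowers a') hb).1
    exact (CfsgLib.isSubnormal_isPGroup_le_pCore hsn (fun x => ⟨1, by
      obtain ⟨m, hm⟩ := x.2
      refine Subtype.ext ?_
      rw [SubmonoidClass.coe_pow, ← hm, pow_one, ← zpow_natCast, ← zpow_mul, mul_comm, zpow_mul, zpow_natCast,
        sq, ha', one_zpow, OneMemClass.coe_one]⟩)) (Subgroup.mem_zpowers a')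
  obtain ⟨g, hg⟩ := key
  set t := a' * (g * a' * g⁻¹) with htdef
  obtain ⟨n, m, hm, hnm⟩ := Nat.exists_eq_pow_mul_and_not_dvd (orderOf_pos t).ne' 2 (by norm_num)
  have hinv : a' * t * a'⁻¹ = t⁻¹ := by
    have hai : a'⁻¹ = a' := inv_eq_of_mul_eq_one_right ha'
    rw [htdef, hai]
    simp only [mul_inv_rev, inv_inv, hai, ← mul_assoc, ha', one_mul]
  have ho : orderOf (t ^ (2 ^ n)) = m := by
    rw [orderOf_pow' _ (pow_ne_zero _ two_ne_zero), hnm, Nat.gcd_mul_right_left, Nat.mul_div_cancel_left _ (by positivity)]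
  refine ⟨((t ^ (2 ^ n) : H) : X), SetLike.coe_mem _, ?_, ?_, ?_⟩
  · rw [Subgroup.orderOf_coe, ho]
    exact Nat.odd_iff.2 (by omega)
  · intro e
    exact hg ⟨n, Subtype.ext e⟩
  · have h1 := congrArg (fun x : H => ((x ^ (2 ^ n) : H) : X)) hinv
    simp only [conj_pow, inv_pow] at h1
    simpa using h1

/-- An element of odd prime order inverted by `A` and centralizing `B`, of large order against `|A : B|`. -/
def Inverted (A B : Subgroup X) : Prop :=
  ∃ (k : ℕ) (a r : X), B ≤ A ∧ Nat.card A = 2 ^ k * Nat.card B ∧ a ∈ A ∧ (orderOf r).Prime ∧ orderOf r ≠ 2 ∧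
    a * r * a⁻¹ = r⁻¹ ∧ (∀ b ∈ B, r * b = b * r) ∧ ∀ j : ℕ, 0 < j → orderOf r ∣ 2 ^ j - 1 → 4 * k ≤ j + 1

/-- An inverted element gives the step. -/
theorem Inverted.rel (hinj : Function.Injective φ) (h2 : ∀ v : V, v * v = 1) {A B : Subgroup X}
    (hA : ∀ a ∈ A, a * a = 1) (h : Inverted A B) : Rel φ A B := by
  obtain ⟨k, a, r, hBA, hk, ha, hr, hr2, hinv, hc, hbig⟩ := h
  exact rel_of_inverted hinj h2 hA hBA hk ha hr hr2 hinv hc hbig

variable (hfree : ¬ Involves P3 X)
include hfree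

omit [Finite V] in
/-- The step over a hyperplane. -/
theorem inverted_of_odd {A B : Subgroup X} (hA : ∀ a ∈ A, a * a = 1) (hBA : B ≤ A)
    (hk : Nat.card A = 2 * Nat.card B) {a t : X} (ha : a ∈ A) (ht : Odd (orderOf t)) (ht1 : t ≠ 1)
    (hinv : a * t * a⁻¹ = t⁻¹) (hc : ∀ b ∈ B, t * b = b * t) : Inverted A B := by
  obtain ⟨r, hrt, hr, hr2, hri⟩ := exists_inverted_prime ht ht1 hinv
  refine ⟨1, a, r, hBA, by rw [pow_one]; exact hk, ha, hr, hr2, hri, ?_, ?_⟩
  · intro b hb
    obtain ⟨n, rfl⟩ := hrt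
    exact ((show Commute t b from hc b hb).zpow_left n).eq
  · intro j hj hd
    by_contra hlt
    have hj2 : j = 1 ∨ j = 2 := by omega
    rcases hj2 with rfl | rfl
    · exact hr.one_lt.ne' (Nat.dvd_one.1 hd)
    · have h3 : orderOf r = 3 := (Nat.prime_dvd_prime_iff_eq hr Nat.prime_three).1 hd
      exact hfree (involves_perm3 (by rw [← h3]; exact pow_orderOf_eq_one r)
        (fun e => hr.one_lt.ne' (orderOf_eq_one_iff.2 e)) (hA a ha) hri)

omit [Finite V] in
/-- The step over a hyperplane `B` when `A` is not inside `O₂` of the centralizer of `B`. -/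
theorem inverted_of_not_core {A B : Subgroup X} (hA : ∀ a ∈ A, a * a = 1) (hBA : B ≤ A)
    (hk : Nat.card A = 2 * Nat.card B) {a : X} (ha : a ∈ A) (hac : a ∈ Subgroup.centralizer (B : Set X))
    (hout : (⟨a, hac⟩ : Subgroup.centralizer (B : Set X)) ∉ pCore 2 (Subgroup.centralizer (B : Set X))) :
    Inverted A B := by
  obtain ⟨t, htC, hodd, ht1, hinv⟩ := exists_inverted_of_not_mem hac (hA a ha) hout
  exact inverted_of_odd hfree hA hBA hk ha hodd ht1 hinv fun b hb => (htC b hb).symm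

end CfsgLib.S3Free.TwoF
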